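import Cfsg.Agent.Characters.Core
import Cfsg.Agent.Characters.Values
import Cfsg.Agent.H686.CharKit
import Cfsg.Agent.S0249
import Cfsg.Agent.Prune
set_option linter.all false
prune_inst 0x7f00000000000000000000000000000000000000000000000000000000000000000000000000000000000000000000000000000000000000000000000000000000000000000000000000000000000000003fffffffffffffffffffffffffffbeffbdffffffff
open scoped Cfsg.Agent.FastGrp

/-!
`L₃(4)` has no irreducible character of degree seven (task for S4905).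
-/

set_option autoImplicit false
open Cfsg
open scoped Matrix MatrixGroups

universe u

namespace Cfsg.Agent.H937.L34

open Cfsg.Agent.Characters.Core

/-- the average of a character over a finite group is a natural number. -/
theorem sum_eq {H : Type*} [Group H] [Fintype H] {χ : H → ℂ} (hχ : IsCharacter H χ) :
    ∃ k : ℕ, ∑ h, χ h = (Fintype.card H : ℂ) * k := by
  obtain ⟨k, hk⟩ := classInner_isNat hχ (isCharacter_one (G := H))
  refine ⟨k, ?_⟩
  rw [← hk, classInner, ← mul_assoc, Nat.card_eq_fintype_card, mul_inv_cancel₀ (by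
    exact_mod_cast Fintype.card_ne_zero), one_mul]
  refine Finset.sum_congr rfl fun x _ => ?_
  simp

section mat

variable {F : Type*} [Field F]

/-- transvections with a fixed axis. -/
def um (a b : F) : Matrix (Fin 3) (Fin 3) F := !![1, 0, a; 0, 1, b; 0, 0, 1]

/-- transvections with a fixed axis. -/
def us (a b : F) : Matrix.SpecialLinearGroup (Fin 3) F := ⟨um a b, by simp [um, Matrix.det_fin_three]⟩

theorem us_mul (a b c d : F) : us a b * us c d = us (a + c) (b + d) := by
  apply Subtype.ext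
  show um a b * um c d = um (a + c) (b + d)
  ext i j
  fin_cases i <;> fin_cases j <;> simp [um, Matrix.mul_apply, Fin.sum_univ_three, add_comm]

theorem us_zero : us (0 : F) 0 = 1 := by
  apply Subtype.ext
  show um 0 0 = 1
  ext i j
  fin_cases i <;> fin_cases j <;> simp [um]

/-- the homomorphism. -/
def uh (F : Type*) [Field F] : Multiplicative (F × F) →* Matrix.SpecialLinearGroup (Fin 3) F where
  toFun x := us x.toAdd.1 x.toAdd.2
  map_one' := us_zero
  map_mul' _ _ := (us_mul _ _ _ _).symm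

theorem us_conj (a b : F) (h : ¬ (a = 0 ∧ b = 0)) : ∃ g : Matrix.SpecialLinearGroup (Fin 3) F,
    g * us a b = us 1 0 * g := by
  by_cases ha : a = 0
  · have hb : b ≠ 0 := fun hb => h ⟨ha, hb⟩
    refine ⟨⟨!![0, b⁻¹, 0; -b, 0, 0; 0, 0, 1], by simp [Matrix.det_fin_three, hb]⟩, ?_⟩
    apply Subtype.ext
    show !![0, b⁻¹, 0; -b, 0, 0; 0, 0, 1] * um a b = um 1 0 * !![0, b⁻¹, 0; -b, 0, 0; 0, 0, 1]
    ext i j
    fin_cases i <;> fin_cases j <;> simp [um, Matrix.mul_apply, Fin.sum_univ_three, ha, hb]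
  · refine ⟨⟨!![a⁻¹, 0, 0; -b, a, 0; 0, 0, 1], by simp [Matrix.det_fin_three, ha]⟩, ?_⟩
    apply Subtype.ext
    show !![a⁻¹, 0, 0; -b, a, 0; 0, 0, 1] * um a b = um 1 0 * !![a⁻¹, 0, 0; -b, a, 0; 0, 0, 1]
    ext i j
    fin_cases i <;> fin_cases j <;> simp [um, Matrix.mul_apply, Fin.sum_univ_three, ha, mul_comm]

theorem mk_us_ne : (QuotientGroup.mk (us 1 0) : Matrix.ProjectiveSpecialLinearGroup (Fin 3) F) ≠ 1 := by
  intro h
  have h1 := (QuotientGroup.eq_one_iff _).1 h
  rw [Matrix.SpecialLinearGroup.mem_center_iff] at h1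
  obtain ⟨r, -, hr⟩ := h1
  have h2 := congrFun (congrFun hr 0) 2
  have h3 : (Matrix.scalar (Fin 3) r) 0 2 = 0 := by simp
  rw [h3] at h2
  have h4 : ((us 1 0 : Matrix.SpecialLinearGroup (Fin 3) F) : Matrix (Fin 3) (Fin 3) F) 0 2 = 1 := rfl
  rw [h4] at h2
  exact zero_ne_one h2

end mat

theorem l34_no_seven {F : Type} [Field F] [Fintype F] (hF : Fintype.card F = 4) {T : Type u} [Group T] [Finite T]
    (e : T ≃* Matrix.ProjectiveSpecialLinearGroup (Fin 3) F) (ψ : T → ℂ) (hψ : IsIrrCharacter T ψ) : ψ 1 ≠ 7 := by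
  classical
  intro h7
  have : Fintype T := Fintype.ofFinite T
  have hch : CharP F 2 := by
    obtain ⟨p, hp⟩ := CharP.exists F
    have : Fact p.Prime := ⟨CharP.char_is_prime F p⟩
    obtain ⟨n, hp', hn⟩ := FiniteField.card F p
    rw [hF] at hn
    have h1 : p ∣ 2 ^ 2 := by
      rw [show 2 ^ 2 = 4 from rfl, hn]
      exact dvd_pow_self p n.ne_zero
    have h2 : p = 2 := (Nat.prime_dvd_prime_iff_eq hp' Nat.prime_two).1 (hp'.dvd_of_dvd_pow h1)
    rwa [h2] at hp
  have hψc := isIrr_isCharacter hψ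
  set π : Matrix.SpecialLinearGroup (Fin 3) F →* T := e.symm.toMonoidHom.comp (QuotientGroup.mk' _) with hπ
  set t : T := π (us 1 0) with ht
  have htne : t ≠ 1 := by
    intro h
    apply mk_us_ne (F := F)
    apply e.symm.injective
    rw [map_one]
    exact h
  have htt : t * t = 1 := by
    rw [ht, ← map_mul, us_mul, CharTwo.add_self_eq_zero, add_zero, us_zero, map_one]
  have hval : ∀ a b : F, ¬ (a = 0 ∧ b = 0) → ψ (π (us a b)) = ψ t := by
    intro a b hab
    obtain ⟨g, hg⟩ := us_conj a b hab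
    have h1 : t = π g * π (us a b) * (π g)⁻¹ := by
      rw [ht, ← map_mul, hg, map_mul, mul_inv_cancel_right]
    rw [h1, isCharacter_isClassFunction hψc]
  -- the sum over the group of order sixteen
  obtain ⟨k, hk⟩ := sum_eq (isCharacter_comp (π.comp (uh F)) hψc)
  have hcard : Fintype.card (Multiplicative (F × F)) = 16 := by
    rw [Fintype.card_multiplicative, Fintype.card_prod, hF]
  have hsum : ∑ x : Multiplicative (F × F), ψ ((π.comp (uh F)) x) = 7 + 15 * ψ t := by
    rw [← Finset.add_sum_erase _ _ (Finset.mem_univ (1 : Multiplicative (F × F)))]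
    rw [map_one, h7]
    congr 1
    rw [Finset.sum_congr rfl (g := fun _ => ψ t) (fun x hx => ?_), Finset.sum_const, Finset.card_erase_of_mem (Finset.mem_univ _),
      Finset.card_univ, hcard]
    · simp
    · refine hval _ _ fun h => (Finset.ne_of_mem_erase hx) ?_
      apply Multiplicative.toAdd.injective
      exact Prod.ext h.1 h.2
  -- the sum over the group of order two
  have hZ : (ZMod.lift 2 ⟨(zmultiplesHom (Additive T)) (Additive.ofMul t), by
      show (2 : ℤ) • Additive.ofMul t = 0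
      rw [two_zsmul, ← ofMul_mul, htt, ofMul_one]⟩) 1 = Additive.ofMul t := by
    have := ZMod.lift_coe 2 ⟨(zmultiplesHom (Additive T)) (Additive.ofMul t), by
      show (2 : ℤ) • Additive.ofMul t = 0
      rw [two_zsmul, ← ofMul_mul, htt, ofMul_one]⟩ 1
    rw [Int.cast_one] at this
    rw [this]
    simp
  set δ : Multiplicative (ZMod 2) →* T := AddMonoidHom.toMultiplicativeLeft (ZMod.lift 2 ⟨(zmultiplesHom (Additive T)) (Additive.ofMul t), by
      show (2 : ℤ) • Additive.ofMul t = 0
      rw [two_zsmul, ← ofMul_mul, htt, ofMul_one]⟩) with hδ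
  obtain ⟨m, hm⟩ := sum_eq (isCharacter_comp δ hψc)
  have hm' : (7 : ℂ) + ψ t = 2 * m := by
    have h1 : ∑ x : Multiplicative (ZMod 2), ψ (δ x) = ψ (δ 1) + ψ (δ (Multiplicative.ofAdd 1)) :=
      Fin.sum_univ_two (fun x : Fin 2 => ψ (δ (Multiplicative.ofAdd (x : ZMod 2))))
    have h2 : δ (Multiplicative.ofAdd 1) = t := by
      show Additive.toMul ((ZMod.lift 2 _) 1) = t
      rw [hZ]
      rfl
    rw [map_one, h7, h2] at h1
    have h3 : Fintype.card (Multiplicative (ZMod 2)) = 2 := rfl
    rw [h3] at hm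
    rw [← h1]
    exact hm
  have hk' : (7 : ℂ) + 15 * ψ t = 16 * k := by
    rw [← hsum]
    rw [hcard] at hk
    exact hk
  have hle : ‖ψ t‖ ≤ 7 := by
    obtain ⟨n, ρ, hρ⟩ := hψc
    have h1 := Cfsg.Agent.Characters.Values.norm_character_le ρ t
    have h2 : (Module.finrank ℂ (Fin n → ℂ) : ℂ) = 7 := by
      rw [← h7, ← hρ, Representation.char_one]
    have h3 : Module.finrank ℂ (Fin n → ℂ) = 7 := by exact_mod_cast h2
    rw [h3, hρ] at h1
    exact_mod_cast h1
  have hx : ψ t = ((2 * (m : ℤ) - 7 : ℤ) : ℂ) := by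
    push_cast
    linear_combination hm'
  have h15 : (15 * (m : ℤ)) = 49 + 8 * k := by
    have h1 : ((15 * (m : ℤ) : ℤ) : ℂ) = ((49 + 8 * k : ℤ) : ℂ) := by
      push_cast
      linear_combination (1 / 2) * hk' - (15 / 2) * hm'
    exact_mod_cast h1
  have hm7 : (m : ℤ) ≤ 7 := by
    rw [hx, Complex.norm_intCast] at hle
    have h1 := (abs_le.1 hle).2
    have h2 : (2 * (m : ℤ) - 7 : ℤ) ≤ 7 := by exact_mod_cast h1
    omega
  have hm8 : (m : ℤ) = 7 := by omega
  have ht7 : ψ t = ψ 1 := by
    rw [hx, hm8, h7]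
    norm_num
  -- the kernel
  have hs : IsSimpleGroup (Matrix.ProjectiveSpecialLinearGroup (Fin 3) F) := Cfsg.Agent.S0249.result 3 le_rfl
  have hsT : IsSimpleGroup T := e.isSimpleGroup
  set χ : IrrCharacter T := ⟨ψ, hψ⟩ with hχ
  have hker : Cfsg.Agent.H686.CharKit.chKer χ = ⊤ := by
    rcases (inferInstance : (Cfsg.Agent.H686.CharKit.chKer χ).Normal).eq_bot_or_eq_top with h | h
    · exfalso
      apply htne
      have h1 : t ∈ Cfsg.Agent.H686.CharKit.chKer χ := ht7
      rwa [h, Subgroup.mem_bot] at h1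
    · exact h
  have hconst : ∀ g, ψ g = 7 := by
    intro g
    have h1 : g ∈ Cfsg.Agent.H686.CharKit.chKer χ := by rw [hker]; exact Subgroup.mem_top g
    rw [← h7]
    exact h1
  have hne : ψ ≠ 1 := by
    intro h
    have := congrFun h 1
    rw [h7] at this
    norm_num at this
  have h0 := classInner_irr_ne hψ isIrr_one hne
  rw [classInner] at h0
  simp only [hconst, Pi.one_apply, map_one, mul_one, Finset.sum_const, Finset.card_univ, nsmul_eq_mul] at h0
  rw [Nat.card_eq_fintype_card] at h0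
  have hc : ((Fintype.card T : ℕ) : ℂ) ≠ 0 := by exact_mod_cast Fintype.card_ne_zero
  rw [← mul_assoc, inv_mul_cancel₀ hc] at h0
  norm_num at h0

end Cfsg.Agent.H937.L34

private theorem dce_a48e98a3f0e7 : _root_.True := by
  try have : _root_.True := by simp only [_root_.Cfsg.classInner.eq_1]
  try have : _root_.True := by simp only [_root_.Cfsg.Agent.H937.L34.um.eq_1]
  exact _root_.True.intro
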