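import Cfsg.Agent.H464.L2StageOne_m3
import Cfsg.Agent.H913.S6.M22
import Cfsg.Agent.S0253
import Cfsg.Agent.S0254
import Cfsg.Agent.H659.SevenU42_m3
import Cfsg.Agent.H659.AcIrr
import Cfsg.Agent.H906.Cover_m3
import Cfsg.Agent.H95.StemCover
import Cfsg.Agent.H62.SpMult
import Cfsg.Agent.H180.U42Conj
import Cfsg.Agent.S0822
import Cfsg.Agent.FastGrp
import Cfsg.Agent.Prune
set_option linter.all false

section
prune_inst 0x7fffecfbbbfa3bffffff7e7fae9edffdfbbdbfffe6dff9cbffe0e1ffabdf7b1ac9e5fbad8fea7afe1ed6ea3410f87b53fdfffeffeb6bf87ffffd1ff41ffbff8ffdf7b50851de8cb40fbc2fff83f0778e7f3fffffffffffffffffffffffffffbeffbfffffffff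

-- part: H937/T2Rep
section
set_option linter.all false
open scoped Cfsg.Agent.FastGrp

/-!
# Low-dimensional hub, row T2, stage 1: cores with socle `A₅`, `A₆` (helper937)

* `exists_rep` : `Core P`, `Soc P ≃* PSL₂(K)`, `|K| ≥ 4`, scalars of `P` of order prime to the characteristic of `K`
  ⟹ `P` is the range of a homomorphism from `SL₂(K)` (also `|K| = 4, 9`); `exists_rep_fin` : on `Fin n`;
* `dims` : the five possible degrees (cross characteristic); `a6_dims` : `4, 5, 8, 9, 10`;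
* `a5_sd` : socle `A₅` ⟹ `SD P` (every degree, every characteristic);
* `a6_sd` : socle `A₆`, `3 ∤ |P ∩ scalars|` ⟹ `SD P`; `a6_sd_of_not_dvd` : `3 ∤ n`; `a6_sd_three` : characteristic `3`.
-/

set_option autoImplicit false
set_option linter.unusedSectionVars false

namespace Cfsg.Agent.H937.T2

open Matrix Module Cfsg Cfsg.Geo Cfsg.Agent.H915.LD Cfsg.Agent.H464.Sl2

universe u v

variable {ι : Type} [Fintype ι] [DecidableEq ι] {F : Type u} [Field F] {P : Subgroup (GL ι F)}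

/-- `P` is an image of `SL₂(K)` if its scalars have order prime to the characteristic `r` of `K`. -/
theorem exists_rep [Finite F] (hC : Core P) {K : Type v} [Field K] [Fintype K] {r : ℕ} (hr : r.Prime) [CharP K r]
    (h4 : 4 ≤ Fintype.card K) (hcop : (Nat.card ((scalars ι F).subgroupOf P)).Coprime r)
    (e : Soc P ≃* ProjectiveSpecialLinearGroup (Fin 2) K) :
    ∃ ρ : SpecialLinearGroup (Fin 2) K →* GL ι F, ρ.range = P ∧
      ∀ (g : SpecialLinearGroup (Fin 2) K) (h : ρ g ∈ P), e (toSoc P ⟨ρ g, h⟩) = QuotientGroup.mk g := by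
  have hker := ker_comp e
  obtain ⟨θ, h1, h2⟩ := H905.PCover.exists_hom_of_noPCov (G := SpecialLinearGroup (Fin 2) K) (p := r)
    (commutator_sl2 h4)
    (fun s hs hne => H60.CrossA.noPCov_SL_cross 1 r hs hne)
    (πG := QuotientGroup.mk' (Subgroup.center (SpecialLinearGroup (Fin 2) K))) (QuotientGroup.mk'_surjective _)
    (by rw [QuotientGroup.ker_mk']) hC.commutator_top
    (f := e.toMonoidHom.comp (toSoc P)) (e.surjective.comp (toSoc_surjective P))
    (by rw [hker]; exact scalars_le_center) hr (by rw [hker]; exact hcop)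
  refine ⟨P.subtype.comp θ, ?_, ?_⟩
  · rw [MonoidHom.range_comp, MonoidHom.range_eq_top.2 h1, ← MonoidHom.range_eq_map, Subgroup.range_subtype]
  · intro g h
    exact DFunLike.congr_fun h2 g

/-- The same on `Fin n`. -/
theorem exists_rep_fin [Finite F] (hC : Core P) {K : Type v} [Field K] [Fintype K] {r : ℕ} (hr : r.Prime) [CharP K r]
    (h4 : 4 ≤ Fintype.card K) (hcop : (Nat.card ((scalars ι F).subgroupOf P)).Coprime r)
    (e : Soc P ≃* ProjectiveSpecialLinearGroup (Fin 2) K) :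
    ∃ (ρ : SpecialLinearGroup (Fin 2) K →* GL ι F)
      (ρ' : SpecialLinearGroup (Fin 2) K →* GL (Fin (Fintype.card ι)) F), ρ.range = P ∧
      (∀ (g : SpecialLinearGroup (Fin 2) K) (h : ρ g ∈ P), e (toSoc P ⟨ρ g, h⟩) = QuotientGroup.mk g) ∧
      (∀ g, ρ' g = reGL (Fintype.equivFin ι) (ρ g)) ∧
      (∀ g, (ρ' g : Matrix (Fin (Fintype.card ι)) (Fin (Fintype.card ι)) F).trace = tr (ρ g)) ∧ ρ' ≠ 1 ∧
      ActsAbsolutelyIrreducibly (matrixSet ρ'.range) := by
  obtain ⟨ρ, hρ, hρ2⟩ := exists_rep hC hr h4 hcop e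
  let re := reGL (F := F) (Fintype.equivFin ι)
  refine ⟨ρ, re.toMonoidHom.comp ρ, hρ, hρ2, fun g => rfl, fun g => trace_reGL (Fintype.equivFin ι) (ρ g), ?_, ?_⟩
  · intro h
    have h1 : ρ = 1 := by
      ext1 g
      apply re.injective
      have h2 := DFunLike.congr_fun h g
      rw [MonoidHom.one_apply, map_one]
      exact h2
    rw [h1] at hρ
    apply hC.nonabelian
    have h3 : Subsingleton P := by
      constructor
      rintro ⟨a, ha⟩ ⟨b, hb⟩
      rw [← hρ] at ha hb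
      obtain ⟨x, rfl⟩ := ha
      obtain ⟨y, rfl⟩ := hb
      rfl
    have h2 : Subsingleton (P ⧸ (scalars ι F).subgroupOf P) := by
      constructor
      intro a b
      induction a using QuotientGroup.induction_on with
      | H a =>
        induction b using QuotientGroup.induction_on with
        | H b => rw [Subsingleton.elim a b]
    exact ⟨⟨fun a b => Subsingleton.elim _ _⟩⟩
  · have h1 : (re.toMonoidHom.comp ρ).range = P.map re.toMonoidHom := by
      rw [MonoidHom.range_comp, hρ]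
    rw [h1]
    exact absIrr_reGL _ hC.absIrred

section finite

variable [Finite F] (p : ℕ) [hp : Fact p.Prime] [CharP F p]

theorem prime_ne_zero {r : ℕ} (hr : r.Prime) (h : p ≠ r) : (r : F) ≠ 0 := by
  intro h0
  rw [CharP.cast_eq_zero_iff F p] at h0
  exact h ((Nat.prime_dvd_prime_iff_eq hp.out hr).1 h0)

/-- **Degrees.** -/
theorem dims (hC : Core P) {K : Type v} [Field K] [Fintype K] {r : ℕ} (hr : r.Prime) [CharP K r]
    (h4 : 4 ≤ Fintype.card K) (hcop : (Nat.card ((scalars ι F).subgroupOf P)).Coprime r) (hpr : p ≠ r)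
    (e : Soc P ≃* ProjectiveSpecialLinearGroup (Fin 2) K) :
    Fintype.card ι = Fintype.card K - 1 ∨ Fintype.card ι = Fintype.card K ∨ Fintype.card ι = Fintype.card K + 1 ∨
      (Fintype.card K % 2 = 1 ∧
        (Fintype.card ι = (Fintype.card K - 1) / 2 ∨ Fintype.card ι = (Fintype.card K + 1) / 2)) := by
  obtain ⟨ρ, ρ', -, -, -, -, h1, h2⟩ := exists_rep_fin hC hr h4 hcop e
  exact sl2_dims (r := r) hr rfl h4 (prime_ne_zero p hr hpr) ρ' h1 h2

/-- **Self-duality, `|K| ≢ 3 (mod 4)`.** -/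
theorem sd_of_psl2_cross (hC : Core P) {K : Type v} [Field K] [Fintype K] {r : ℕ} (hr : r.Prime) [CharP K r]
    (h4 : 4 ≤ Fintype.card K) (hcop : (Nat.card ((scalars ι F).subgroupOf P)).Coprime r) (hpr : p ≠ r)
    (h3 : Fintype.card K % 4 ≠ 3) (e : Soc P ≃* ProjectiveSpecialLinearGroup (Fin 2) K) : SD P := by
  obtain ⟨ρ, ρ', hρ, -, -, htr, h1, h2⟩ := exists_rep_fin hC hr h4 hcop e
  have h3 := sl2_selfdual (r := r) hr rfl h4 (prime_ne_zero p hr hpr) ρ' h1 h2 (Or.inl h3)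
  intro g hg
  rw [← hρ] at hg
  obtain ⟨x, rfl⟩ := hg
  rw [← map_inv, ← htr, ← htr, h3]

/-- `|K| ≢ 3 (mod 4)`, scalars prime to the characteristic of `K` : self-dual in every characteristic. -/
theorem sd_of_psl2 (hC : Core P) {K : Type v} [Field K] [Fintype K] {r : ℕ} (hr : r.Prime) [CharP K r]
    (h4 : 4 ≤ Fintype.card K) (hcop : (Nat.card ((scalars ι F).subgroupOf P)).Coprime r)
    (h3 : Fintype.card K % 4 ≠ 3) (e : Soc P ≃* ProjectiveSpecialLinearGroup (Fin 2) K) : SD P := by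
  obtain ⟨p, hch⟩ := CharP.exists F
  have hp : Fact p.Prime := ⟨CharP.char_is_prime F p⟩
  by_cases hpr : p = r
  · subst hpr
    exact H875.DefCov.sd_of_psl2 hC p (by rw [Nat.card_eq_fintype_card]; omega) e
  · exact sd_of_psl2_cross p hC hr h4 hcop hpr h3 e

/-- **`A₅`** -/
theorem a5_sd (hC : Core P) (e : Soc P ≃* alternatingGroup (Fin 5)) : SD P := by
  obtain ⟨p, hch⟩ := CharP.exists F
  have hp : Fact p.Prime := ⟨CharP.char_is_prime F p⟩
  have : Fact (Nat.Prime 5) := ⟨by norm_num⟩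
  obtain ⟨f⟩ := Cfsg.Agent.S0253.result (F := ZMod 5) (ZMod.card 5)
  have e' : Soc P ≃* ProjectiveSpecialLinearGroup (Fin 2) (ZMod 5) := e.trans f.symm
  by_cases h5 : p = 5
  · subst h5
    exact H875.DefCov.sd_of_psl2 hC 5 (by rw [Nat.card_eq_fintype_card, ZMod.card]; norm_num) e'
  · have h1 := l2_stage1 p hC (K := ZMod 5) (by rw [ZMod.card]) (by rw [ZMod.card]; norm_num) (by
      rw [ZMod.card]
      intro h
      exact h5 ((Nat.prime_dvd_prime_iff_eq hp.out (by norm_num)).1 h)) e'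
    rcases h1 with h1 | h1
    · exact h1
    · rw [ZMod.card] at h1
      omega

/-- degrees for `A₅`, `p ≠ 5` -/
theorem a5_dims (hC : Core P) (e : Soc P ≃* alternatingGroup (Fin 5)) (h5 : p ≠ 5) :
    Fintype.card ι ∈ ({2, 3, 4, 5, 6} : Finset ℕ) := by
  have : Fact (Nat.Prime 5) := ⟨by norm_num⟩
  obtain ⟨f⟩ := Cfsg.Agent.S0253.result (F := ZMod 5) (ZMod.card 5)
  have e' : Soc P ≃* ProjectiveSpecialLinearGroup (Fin 2) (ZMod 5) := e.trans f.symm
  have h1 := l2_dims p hC (K := ZMod 5) (by rw [ZMod.card]) (by rw [ZMod.card]; norm_num) (by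
      rw [ZMod.card]
      intro h
      exact h5 ((Nat.prime_dvd_prime_iff_eq hp.out (by norm_num)).1 h)) e'
  rw [ZMod.card] at h1
  simp only [Finset.mem_insert, Finset.mem_singleton]
  omega

/-- `A₆` as `PSL₂(9)` -/
theorem exists_nine {T : Type v} [Group T] (e : T ≃* alternatingGroup (Fin 6)) :
    ∃ (K : Type) (_ : Field K) (_ : Fintype K), Fintype.card K = 9 ∧ CharP K 3 ∧
      Nonempty (T ≃* ProjectiveSpecialLinearGroup (Fin 2) K) := by
  have : Fact (Nat.Prime 3) := ⟨Nat.prime_three⟩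
  have h9 : Nat.card (GaloisField 3 2) = 9 := by rw [GaloisField.card 3 2 (by norm_num)]; norm_num
  have hfin : Finite (GaloisField 3 2) := Nat.finite_of_card_ne_zero (by rw [h9]; norm_num)
  have := Fintype.ofFinite (GaloisField 3 2)
  have h9' : Fintype.card (GaloisField 3 2) = 9 := by rw [← Nat.card_eq_fintype_card, h9]
  obtain ⟨f⟩ := Cfsg.Agent.S0254.result h9'
  exact ⟨GaloisField 3 2, inferInstance, inferInstance, h9', inferInstance, ⟨e.trans f.symm⟩⟩

/-- **`A₆`, scalars of order prime to `3`** -/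
theorem a6_sd (hC : Core P) (e : Soc P ≃* alternatingGroup (Fin 6))
    (h3 : ¬ 3 ∣ Nat.card ((scalars ι F).subgroupOf P)) : SD P := by
  obtain ⟨K, _, _, hK, _, ⟨f⟩⟩ := exists_nine e
  exact sd_of_psl2 hC Nat.prime_three (by omega) (((Nat.Prime.coprime_iff_not_dvd Nat.prime_three).2 h3).symm)
    (by omega) f

/-- degrees for `A₆`, scalars of order prime to `3`, `p ≠ 3` -/
theorem a6_dims (hC : Core P) (e : Soc P ≃* alternatingGroup (Fin 6))
    (h3 : ¬ 3 ∣ Nat.card ((scalars ι F).subgroupOf P)) (hp3 : p ≠ 3) :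
    Fintype.card ι ∈ ({4, 5, 8, 9, 10} : Finset ℕ) := by
  obtain ⟨K, _, _, hK, _, ⟨f⟩⟩ := exists_nine e
  have h1 := dims p hC Nat.prime_three (by omega) (((Nat.Prime.coprime_iff_not_dvd Nat.prime_three).2 h3).symm)
    hp3 f
  rw [hK] at h1
  simp only [Finset.mem_insert, Finset.mem_singleton]
  omega

/-- the order of the scalars divides a power of `n` -/
theorem not_dvd_scalars (hC : Core P) {r : ℕ} (hr : r.Prime) (hn : ¬ r ∣ Fintype.card ι) :
    ¬ r ∣ Nat.card ((scalars ι F).subgroupOf P) := by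
  intro h
  have := Fact.mk hr
  obtain ⟨z, hz⟩ := exists_prime_orderOf_dvd_card' r h
  have h1 := hC.pow_card z.2
  have h2 : orderOf (z : P) ∣ Fintype.card ι := orderOf_dvd_of_pow_eq_one h1
  rw [Subgroup.orderOf_coe, hz] at h2
  exact hn h2

theorem a6_sd_of_not_dvd (hC : Core P) (e : Soc P ≃* alternatingGroup (Fin 6)) (hn : ¬ 3 ∣ Fintype.card ι) : SD P :=
  a6_sd hC e (not_dvd_scalars hC Nat.prime_three hn)

theorem not_dvd_scalars_char : ¬ p ∣ Nat.card ((scalars ι F).subgroupOf P) :=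
  (Nat.Prime.coprime_iff_not_dvd hp.out).1 (H875.DefCov.card_scalars_coprime (P := P) p).symm

end finite

theorem a6_sd_three [Finite F] [CharP F 3] (hC : Core P) (e : Soc P ≃* alternatingGroup (Fin 6)) : SD P := by
  have : Fact (Nat.Prime 3) := ⟨Nat.prime_three⟩
  exact a6_sd hC e (not_dvd_scalars_char 3)

end Cfsg.Agent.H937.T2
end

-- part: H659/Sp4Ops
section
set_option linter.all false
open scoped Cfsg.Agent.FastGrp

/-!
# Representations of `Sp₄(3)` in characteristic ≠ 2, 3: operators and weights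

`Ops` : nine operators, `Rels` : relations between them (relations of `Sp₄(3)`), `W` : weight spaces of the normal
subgroup `3³` of a parabolic subgroup.
-/

set_option autoImplicit false

namespace Cfsg.Agent.H659.Sp4

open Module Cfsg.Agent.H659.Triple

/-- the operators -/
structure Ops (K : Type*) [Field K] (V : Type*) [AddCommGroup V] [Module K V] where
  z1 : Module.End K V
  z2 : Module.End K V
  x : Module.End K V
  y : Module.End K V
  s : Module.End K V
  t1 : Module.End K V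
  t2 : Module.End K V
  j : Module.End K V
  n : Module.End K V

variable {K : Type*} [Field K] {V : Type*} [AddCommGroup V] [Module K V]

/-- the relations -/
structure Rels (O : Ops K V) : Prop where
  z1z1z1 : ∀ v, O.z1 (O.z1 (O.z1 v)) = v
  z2z2z2 : ∀ v, O.z2 (O.z2 (O.z2 v)) = v
  xxx : ∀ v, O.x (O.x (O.x v)) = v
  yyy : ∀ v, O.y (O.y (O.y v)) = v
  ss : ∀ v, O.s (O.s v) = v
  t1t1 : ∀ v, O.t1 (O.t1 v) = v
  t2t2 : ∀ v, O.t2 (O.t2 v) = v
  t1t2 : ∀ v, O.t1 (O.t2 v) = O.t2 (O.t1 v)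
  jj : ∀ v, O.j (O.j v) = O.t2 v
  nn : ∀ v, O.n (O.n v) = O.t1 v
  z1z2 : ∀ v, O.z1 (O.z2 v) = O.z2 (O.z1 v)
  z1x : ∀ v, O.z1 (O.x v) = O.x (O.z1 v)
  z2x : ∀ v, O.z2 (O.x v) = O.x (O.z2 v)
  z1s : ∀ v, O.z1 (O.s v) = O.s (O.z2 v)
  z2s : ∀ v, O.z2 (O.s v) = O.s (O.z1 v)
  xs : ∀ v, O.x (O.s v) = O.s (O.x v)
  z1y : ∀ v, O.z1 (O.y v) = O.y (O.z1 v)
  z2y : ∀ v, O.z2 (O.y v) = O.y (O.z1 (O.z2 (O.x (O.x v))))
  xy : ∀ v, O.x (O.y v) = O.y (O.z1 (O.x v))
  z1t1 : ∀ v, O.z1 (O.t1 v) = O.t1 (O.z1 v)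
  z2t1 : ∀ v, O.z2 (O.t1 v) = O.t1 (O.z2 v)
  xt1 : ∀ v, O.x (O.t1 v) = O.t1 (O.x (O.x v))
  z1t2 : ∀ v, O.z1 (O.t2 v) = O.t2 (O.z1 v)
  z2t2 : ∀ v, O.z2 (O.t2 v) = O.t2 (O.z2 v)
  xt2 : ∀ v, O.x (O.t2 v) = O.t2 (O.x (O.x v))
  t1s : ∀ v, O.t1 (O.s v) = O.s (O.t2 v)
  t2s : ∀ v, O.t2 (O.s v) = O.s (O.t1 v)
  t1y : ∀ v, O.t1 (O.y v) = O.y (O.y (O.t1 v))
  t2y : ∀ v, O.t2 (O.y v) = O.y (O.y (O.t2 v))
  z1j : ∀ v, O.z1 (O.j v) = O.j (O.z1 v)
  t2j : ∀ v, O.t2 (O.j v) = O.j (O.t2 v)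
  t1j : ∀ v, O.t1 (O.j v) = O.j (O.t1 v)
  jy : ∀ v, O.j (O.y v) = O.x (O.j v)
  jx : ∀ v, O.j (O.x v) = O.y (O.y (O.j v))
  nz2 : ∀ v, O.n (O.z2 v) = O.z2 (O.n v)
  nj : ∀ v, O.n (O.j v) = O.j (O.n v)
  ysys : ∀ v, O.y (O.s (O.y (O.s (O.y (O.s (O.y (O.s v))))))) = O.t1 (O.t2 v)
  s_eq : ∀ v, O.s v = O.y (O.y (O.s (O.y (O.s (O.t2 (O.y v))))))
  sys : ∀ v, O.s (O.y (O.s v)) = O.y (O.s (O.t2 (O.y v)))
  syys : ∀ v, O.s (O.y (O.y (O.s v))) = O.y (O.y (O.s (O.y (O.t1 v))))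
  t2v : ∀ v, O.t2 (O.y (O.s (O.y v))) = O.y (O.s (O.y (O.s (O.t1 (O.t2 v)))))
  syy : ∀ v, O.s (O.y (O.y v)) = O.y (O.y (O.s (O.y (O.s (O.t2 v)))))
  sv : ∀ v, O.s (O.y (O.s (O.y v))) = O.y (O.s (O.y (O.t2 v)))
  syv : ∀ v, O.s (O.y (O.y (O.s (O.y v)))) = O.y (O.y (O.s (O.t1 v)))
  zj3 : ∀ v, O.z2 (O.j (O.z2 (O.j (O.z2 (O.j v))))) = O.t2 v
  nz3 : ∀ v, O.n (O.z1 (O.n (O.z1 (O.n (O.z1 v))))) = O.t1 v
  jp : ∀ v, O.j (O.z2 (O.j (O.z2 (O.z2 v)))) = O.z2 (O.z2 (O.j (O.z2 v)))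
  pj : ∀ v, O.z2 (O.j (O.z2 (O.z2 (O.j v)))) = O.t2 (O.z2 (O.z2 (O.j (O.z2 v))))

/-- a primitive cube root of unity -/
structure Om (ω : K) : Prop where
  a : ω ^ 2 + ω + 1 = 0
  b : ω ≠ 1
  c : ω ^ 3 = 1

theorem Om.ne_zero {ω : K} (h : Om ω) : ω ≠ 0 := by
  rintro rfl
  have := h.a
  norm_num at this

theorem Om.sq {ω : K} (h : Om ω) : Om (ω ^ 2) where
  a := by linear_combination h.a + (ω) * h.c
  b := by
    intro h2
    apply h.b
    have := h.c
    linear_combination h.c - ω * h2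
  c := by
    linear_combination (ω ^ 3 + 1) * h.c

theorem Om.sq_sq {ω : K} (h : Om ω) : (ω ^ 2) ^ 2 = ω := by linear_combination ω * h.c

theorem Om.sub_ne {ω : K} (h : Om ω) : ω - ω ^ 2 ≠ 0 := by
  intro h0
  have : ω * (1 - ω) = 0 := by linear_combination h0
  rcases mul_eq_zero.1 this with h4 | h4
  · exact h.ne_zero h4
  · exact h.b (sub_eq_zero.1 h4).symm

section lin

variable {ω : K} (hω : Om ω) (h3 : (3 : K) ≠ 0)

include hω in
theorem pow_two_fin (a : Fin 3) : ω ^ a.val * ω ^ (2 * a.val) = 1 := by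
  rw [← pow_add, show a.val + 2 * a.val = 3 * a.val by ring, pow_mul, hω.c, one_pow]

theorem pow_four_fin (a : Fin 3) : ω ^ a.val * ω ^ a.val = ω ^ (2 * a.val) := by
  rw [← pow_add, two_mul]

/-- the projection on an eigenspace, up to the factor 3 -/
def pr (ω : K) (T : Module.End K V) (a : Fin 3) (v : V) : V := v + ω ^ (2 * a.val) • T v + ω ^ a.val • T (T v)

include hω in
theorem pr_eig {T : Module.End K V} (hT : ∀ v, T (T (T v)) = v) (a : Fin 3) (v : V) :
    T (pr ω T a v) = ω ^ a.val • pr ω T a v := by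
  unfold pr
  rw [map_add, map_add, map_smul, map_smul, hT, smul_add, smul_add, smul_smul, smul_smul, pow_two_fin hω,
    pow_four_fin, one_smul]
  abel

include hω in
theorem pr_sum (T : Module.End K V) (v : V) : pr ω T 0 v + pr ω T 1 v + pr ω T 2 v = (3 : K) • v := by
  unfold pr
  have e1 : (1 : K) + ω ^ 2 + ω ^ 4 = 0 := by linear_combination hω.a + ω * hω.c
  have e2 : (1 : K) + ω + ω ^ 2 = 0 := by linear_combination hω.a
  have e3 : (1 : K) • T v + ω ^ 2 • T v + ω ^ 4 • T v = 0 := by rw [← add_smul, ← add_smul, e1, zero_smul]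
  have e4 : (1 : K) • T (T v) + ω • T (T v) + ω ^ 2 • T (T v) = 0 := by rw [← add_smul, ← add_smul, e2, zero_smul]
  have e5 : (v + ω ^ (2 * (0 : Fin 3).val) • T v + ω ^ (0 : Fin 3).val • T (T v)) +
      (v + ω ^ (2 * (1 : Fin 3).val) • T v + ω ^ (1 : Fin 3).val • T (T v)) +
      (v + ω ^ (2 * (2 : Fin 3).val) • T v + ω ^ (2 : Fin 3).val • T (T v)) =
      (v + v + v) + ((1 : K) • T v + ω ^ 2 • T v + ω ^ 4 • T v) +
        ((1 : K) • T (T v) + ω • T (T v) + ω ^ 2 • T (T v)) := by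
    change (v + ω ^ 0 • T v + ω ^ 0 • T (T v)) + (v + ω ^ 2 • T v + ω ^ 1 • T (T v)) +
      (v + ω ^ 4 • T v + ω ^ 2 • T (T v)) = _
    rw [pow_zero, pow_one]
    abel
  rw [e5, e3, e4, add_zero, add_zero]
  rw [show (3 : K) = 1 + 1 + 1 by norm_num, add_smul, add_smul, one_smul]

include hω h3 in
/-- decomposition into eigenvectors inside a stable subspace -/
theorem decomp {T : Module.End K V} (hT : ∀ v, T (T (T v)) = v) (D S : Submodule K V) (hD : ∀ v ∈ D, T v ∈ D)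
    (h : ∀ a : Fin 3, ∀ v ∈ D, T v = ω ^ a.val • v → v ∈ S) {v : V} (hv : v ∈ D) : v ∈ S := by
  have key : ∀ a, pr ω T a v ∈ S := fun a => h a _ (by
    unfold pr
    exact D.add_mem (D.add_mem hv (D.smul_mem _ (hD _ hv))) (D.smul_mem _ (hD _ (hD _ hv)))) (pr_eig hω hT a v)
  have h5 : (3 : K) • v ∈ S := by
    rw [← pr_sum hω T v]
    exact S.add_mem (S.add_mem (key 0) (key 1)) (key 2)
  have h6 := S.smul_mem (3 : K)⁻¹ h5
  rwa [smul_smul, inv_mul_cancel₀ h3, one_smul] at h6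

end lin

namespace Ops

/-- the weight spaces -/
def W (O : Ops K V) (ω : K) (i j k : Fin 3) : Submodule K V := E3 O.z1 O.z2 O.x ω (i, j, k)

end Ops

variable {O : Ops K V} {ω : K}

theorem mem_W {i j k : Fin 3} {v : V} :
    v ∈ O.W ω i j k ↔ O.z1 v = ω ^ i.val • v ∧ O.z2 v = ω ^ j.val • v ∧ O.x v = ω ^ k.val • v := mem_E3

theorem pow_add_self (hω : Om ω) (a : Fin 3) : ω ^ (a + a).val = (ω ^ 2) ^ a.val := by
  rw [pow_add_fin hω.c, ← pow_mul, ← pow_add, two_mul]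

theorem W_sq (hω : Om ω) (i j k : Fin 3) : O.W (ω ^ 2) i j k = O.W ω (i + i) (j + j) (k + k) := by
  ext v
  rw [mem_W, mem_W, pow_add_self hω, pow_add_self hω, pow_add_self hω]

variable (R : Rels O)

include R in
theorem W_s {i j k : Fin 3} {v : V} (h : v ∈ O.W ω i j k) : O.s v ∈ O.W ω j i k := by
  rw [mem_W] at h ⊢
  obtain ⟨e1, e2, e3⟩ := h
  exact ⟨by rw [R.z1s, e2, map_smul], by rw [R.z2s, e1, map_smul], by rw [R.xs, e3, map_smul]⟩

include R in
theorem W_t1 (hω : Om ω) {i j k : Fin 3} {v : V} (h : v ∈ O.W ω i j k) : O.t1 v ∈ O.W ω i j (k + k) := by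
  rw [mem_W] at h ⊢
  obtain ⟨e1, e2, e3⟩ := h
  refine ⟨by rw [R.z1t1, e1, map_smul], by rw [R.z2t1, e2, map_smul], ?_⟩
  rw [R.xt1, e3, map_smul, e3, smul_smul, map_smul, pow_add_fin hω.c]

include R in
theorem W_t2 (hω : Om ω) {i j k : Fin 3} {v : V} (h : v ∈ O.W ω i j k) : O.t2 v ∈ O.W ω i j (k + k) := by
  rw [mem_W] at h ⊢
  obtain ⟨e1, e2, e3⟩ := h
  refine ⟨by rw [R.z1t2, e1, map_smul], by rw [R.z2t2, e2, map_smul], ?_⟩
  rw [R.xt2, e3, map_smul, e3, smul_smul, map_smul, pow_add_fin hω.c]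

include R in
theorem W_y (hω : Om ω) {i j k : Fin 3} {v : V} (h : v ∈ O.W ω i j k) :
    O.y v ∈ O.W ω i (i + j + (k + k)) (i + k) := by
  rw [mem_W] at h ⊢
  obtain ⟨e1, e2, e3⟩ := h
  refine ⟨by rw [R.z1y, e1, map_smul], ?_, ?_⟩
  · rw [R.z2y]
    simp only [map_smul, e2, e1, e3, smul_smul, pow_add_fin hω.c]
    congr 1
    ring
  · rw [R.xy]
    simp only [map_smul, e1, e3, smul_smul, pow_add_fin hω.c]
    congr 1
    ring

include R in
theorem comm12 : O.z1 * O.z2 = O.z2 * O.z1 := LinearMap.ext R.z1z2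
include R in
theorem comm13 : O.z1 * O.x = O.x * O.z1 := LinearMap.ext R.z1x
include R in
theorem comm23 : O.z2 * O.x = O.x * O.z2 := LinearMap.ext R.z2x
include R in
theorem cube1 : O.z1 ^ 3 = 1 := by
  rw [pow_succ, pow_two]; exact LinearMap.ext R.z1z1z1
include R in
theorem cube2 : O.z2 ^ 3 = 1 := by
  rw [pow_succ, pow_two]; exact LinearMap.ext R.z2z2z2
include R in
theorem cube3 : O.x ^ 3 = 1 := by
  rw [pow_succ, pow_two]; exact LinearMap.ext R.xxx

section dims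

variable [FiniteDimensional K V]

include R in
theorem sum_W [IsAlgClosed K] (hω : Om ω) (h3 : (3 : K) ≠ 0) :
    ∑ t : Fin 3 × Fin 3 × Fin 3, finrank K (O.W ω t.1 t.2.1 t.2.2) = finrank K V :=
  sum_E3 (comm12 R) (comm13 R) (comm23 R) (cube1 R) (cube2 R) (cube3 R) h3 hω.a hω.b hω.c

include R in
theorem indep_W (hω : Om ω) (h3 : (3 : K) ≠ 0) :
    iSupIndep fun t : Fin 3 × Fin 3 × Fin 3 => O.W ω t.1 t.2.1 t.2.2 :=
  indep_E3 (comm12 R) (comm13 R) (comm23 R) (cube1 R) (cube2 R) (cube3 R) h3 hω.a hω.b hω.c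

theorem finrank_le_of_inj {T T' : Module.End K V} (hT : ∀ v, T' (T v) = v) {P Q : Submodule K V}
    (h : ∀ v ∈ P, T v ∈ Q) : finrank K P ≤ finrank K Q := by
  have hi : Function.Injective T := Function.LeftInverse.injective hT
  have h1 : P.map T ≤ Q := by
    rintro _ ⟨v, hv, rfl⟩
    exact h v hv
  refine le_trans (le_of_eq ?_) (Submodule.finrank_mono h1)
  exact (Submodule.equivMapOfInjective T hi _).finrank_eq

/-- the five classes of weights: `(0,0,0)`, `(0,1,0)`, `(0,2,0)`, `(1,1,0)`, `(0,0,1)` -/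
def cls (i j k : Fin 3) : Fin 5 :=
  if k * k + 2 * (i * j) = 1 then 4 else if k * k + 2 * (i * j) = 2 then 3 else
    if i = 0 ∧ j = 0 then 0 else if i = 1 ∨ j = 1 then 1 else 2

theorem orbits (m : Fin 3 → Fin 3 → Fin 3 → ℕ) (hs : ∀ i j k, m i j k ≤ m j i k) (hh : ∀ i j k, m i j k ≤ m i j (k + k))
    (hy : ∀ i j k, m i j k ≤ m i (i + j + (k + k)) (i + k)) :
    ∀ i j k, m i j k = ![m 0 0 0, m 0 1 0, m 0 2 0, m 1 1 0, m 0 0 1] (cls i j k) := by
  have hs' : ∀ i j k, m i j k = m j i k := fun i j k => le_antisymm (hs i j k) (hs j i k)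
  have hh' : ∀ i j k, m i j k = m i j (k + k) := by
    intro i j k
    refine le_antisymm (hh i j k) ((hh i j (k + k)).trans (le_of_eq ?_))
    rw [SevenU42.fin1]
  have hy' : ∀ i j k, m i j k = m i (i + j + (k + k)) (i + k) := by
    intro i j k
    refine le_antisymm (hy i j k) ((hy _ _ _).trans ((hy _ _ _).trans (le_of_eq ?_)))
    rw [SevenU42.fin2, SevenU42.fin3]
  have a1 : m 0 1 0 = m 1 0 0 := hs' 0 1 0
  have a2 : m 0 1 1 = m 1 0 1 := hs' 0 1 1
  have a3 : m 0 1 2 = m 1 0 2 := hs' 0 1 2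
  have a4 : m 0 2 0 = m 2 0 0 := hs' 0 2 0
  have a5 : m 0 2 1 = m 2 0 1 := hs' 0 2 1
  have a6 : m 0 2 2 = m 2 0 2 := hs' 0 2 2
  have a7 : m 1 2 0 = m 2 1 0 := hs' 1 2 0
  have a8 : m 1 2 1 = m 2 1 1 := hs' 1 2 1
  have a9 : m 1 2 2 = m 2 1 2 := hs' 1 2 2
  have b1 : m 0 0 1 = m 0 0 2 := hh' 0 0 1
  have b2 : m 0 1 1 = m 0 1 2 := hh' 0 1 1
  have b3 : m 0 2 1 = m 0 2 2 := hh' 0 2 1
  have b4 : m 1 0 1 = m 1 0 2 := hh' 1 0 1
  have b5 : m 1 1 1 = m 1 1 2 := hh' 1 1 1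
  have b6 : m 1 2 1 = m 1 2 2 := hh' 1 2 1
  have b7 : m 2 0 1 = m 2 0 2 := hh' 2 0 1
  have b8 : m 2 1 1 = m 2 1 2 := hh' 2 1 1
  have b9 : m 2 2 1 = m 2 2 2 := hh' 2 2 1
  have c1 : m 0 0 1 = m 0 2 1 := hy' 0 0 1
  have c2 : m 0 1 1 = m 0 0 1 := hy' 0 1 1
  have c5 : m 1 0 0 = m 1 1 1 := hy' 1 0 0
  have c6 : m 1 0 1 = m 1 0 2 := hy' 1 0 1
  have c7 : m 1 0 2 = m 1 2 0 := hy' 1 0 2
  have c8 : m 1 1 0 = m 1 2 1 := hy' 1 1 0
  have c14 : m 2 0 0 = m 2 2 2 := hy' 2 0 0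
  have c15 : m 2 0 1 = m 2 1 0 := hy' 2 0 1
  have c17 : m 2 1 0 = m 2 0 2 := hy' 2 1 0
  have c18 : m 2 1 1 = m 2 2 0 := hy' 2 1 1
  intro i j k
  fin_cases i <;> fin_cases j <;> fin_cases k
  · rfl
  · rfl
  · change m 0 0 2 = m 0 0 1; omega
  · rfl
  · change m 0 1 1 = m 0 0 1; omega
  · change m 0 1 2 = m 0 0 1; omega
  · rfl
  · change m 0 2 1 = m 0 0 1; omega
  · change m 0 2 2 = m 0 0 1; omega
  · change m 1 0 0 = m 0 1 0; omega
  · change m 1 0 1 = m 0 0 1; omega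
  · change m 1 0 2 = m 0 0 1; omega
  · rfl
  · change m 1 1 1 = m 0 1 0; omega
  · change m 1 1 2 = m 0 1 0; omega
  · change m 1 2 0 = m 0 0 1; omega
  · change m 1 2 1 = m 1 1 0; omega
  · change m 1 2 2 = m 1 1 0; omega
  · change m 2 0 0 = m 0 2 0; omega
  · change m 2 0 1 = m 0 0 1; omega
  · change m 2 0 2 = m 0 0 1; omega
  · change m 2 1 0 = m 0 0 1; omega
  · change m 2 1 1 = m 1 1 0; omega
  · change m 2 1 2 = m 1 1 0; omega
  · change m 2 2 0 = m 1 1 0; omega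
  · change m 2 2 1 = m 0 2 0; omega
  · change m 2 2 2 = m 0 2 0; omega

/-- the type of a representation: the multiplicities of the five classes of weights -/
structure Ty (O : Ops K V) (ω : K) (m0 a b c d : ℕ) : Prop where
  dim : ∀ i j k, finrank K (O.W ω i j k) = ![m0, a, b, c, d] (cls i j k)
  tot : finrank K V = m0 + 4 * (a + b) + 6 * c + 12 * d

include R in
theorem exists_ty [IsAlgClosed K] (hω : Om ω) (h3 : (3 : K) ≠ 0) : ∃ m0 a b c d, Ty O ω m0 a b c d := by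
  have h := orbits (fun i j k => finrank K (O.W ω i j k))
    (fun i j k => finrank_le_of_inj R.ss fun v hv => W_s R hv)
    (fun i j k => finrank_le_of_inj R.t1t1 fun v hv => W_t1 R hω hv)
    (fun i j k => finrank_le_of_inj (T := O.y) (T' := O.y * O.y) R.yyy fun v hv => W_y R hω hv)
  have hsum := sum_W R hω h3
  refine ⟨_, _, _, _, _, h, ?_⟩
  have h' : ∀ t : Fin 3 × Fin 3 × Fin 3, finrank K (O.W ω t.1 t.2.1 t.2.2) = _ := fun t => h t.1 t.2.1 t.2.2
  rw [← hsum, Finset.sum_congr rfl fun t _ => h' t]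
  simp only [Fintype.sum_prod_type, Fin.sum_univ_three]
  simp only [show cls 0 0 0 = 0 from rfl, show cls 0 0 1 = 4 from rfl, show cls 0 0 2 = 4 from rfl,
    show cls 0 1 0 = 1 from rfl, show cls 0 1 1 = 4 from rfl, show cls 0 1 2 = 4 from rfl,
    show cls 0 2 0 = 2 from rfl, show cls 0 2 1 = 4 from rfl, show cls 0 2 2 = 4 from rfl,
    show cls 1 0 0 = 1 from rfl, show cls 1 0 1 = 4 from rfl, show cls 1 0 2 = 4 from rfl,
    show cls 1 1 0 = 3 from rfl, show cls 1 1 1 = 1 from rfl, show cls 1 1 2 = 1 from rfl,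
    show cls 1 2 0 = 4 from rfl, show cls 1 2 1 = 3 from rfl, show cls 1 2 2 = 3 from rfl,
    show cls 2 0 0 = 2 from rfl, show cls 2 0 1 = 4 from rfl, show cls 2 0 2 = 4 from rfl,
    show cls 2 1 0 = 4 from rfl, show cls 2 1 1 = 3 from rfl, show cls 2 1 2 = 3 from rfl,
    show cls 2 2 0 = 3 from rfl, show cls 2 2 1 = 2 from rfl, show cls 2 2 2 = 2 from rfl]
  generalize finrank K (O.W ω 0 0 0) = A
  generalize finrank K (O.W ω 0 1 0) = B
  generalize finrank K (O.W ω 0 2 0) = C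
  generalize finrank K (O.W ω 1 1 0) = D
  generalize finrank K (O.W ω 0 0 1) = E
  change _ = _
  simp only [Matrix.cons_val_zero, Matrix.cons_val_one, Matrix.cons_val]
  ring

omit [FiniteDimensional K V] in
theorem Ty.sq {m0 a b c d : ℕ} (hω : Om ω) (T : Ty O ω m0 a b c d) : Ty O (ω ^ 2) m0 b a c d where
  dim := by
    intro i j k
    rw [W_sq hω, T.dim]
    have : ∀ i j k : Fin 3, (cls i j k = 1 ∧ cls (i + i) (j + j) (k + k) = 2) ∨
        (cls i j k = 2 ∧ cls (i + i) (j + j) (k + k) = 1) ∨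
        (cls i j k = 0 ∧ cls (i + i) (j + j) (k + k) = 0) ∨
        (cls i j k = 3 ∧ cls (i + i) (j + j) (k + k) = 3) ∨
        (cls i j k = 4 ∧ cls (i + i) (j + j) (k + k) = 4) := by decide
    rcases this i j k with ⟨h, h'⟩ | ⟨h, h'⟩ | ⟨h, h'⟩ | ⟨h, h'⟩ | ⟨h, h'⟩ <;> rw [h, h'] <;> rfl
  tot := by rw [T.tot]; ring

end dims

end Cfsg.Agent.H659.Sp4
end

-- part: H659/Sp4Main
section
prune_inst 0x3040405c4000000018001402000044200001020040000000a00502004802600040200108100412100098400800002000100000004000000400000000060000002152020310a2000c0000000000000000000000000000000000000000000004000000000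
set_option linter.all false
open scoped Cfsg.Agent.FastGrp

-- part: H659/Sp4Core
section
/-!
# Irreducible representations of `Sp₄(3)` of degree ≤ 12 in characteristic ≠ 2, 3: the lemmas
-/

set_option autoImplicit false

namespace Cfsg.Agent.H659.Sp4

open Module Cfsg.Agent.H659.Triple

variable {K : Type*} [Field K] {V : Type*} [AddCommGroup V] [Module K V] {O : Ops K V} {ω : K} (R : Rels O)
  (hω : Om ω) (h2 : (2 : K) ≠ 0) (h3 : (3 : K) ≠ 0)

/-- irreducibility -/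
def Irr (O : Ops K V) : Prop := ∀ W : Submodule K V, (∀ v ∈ W, O.y v ∈ W) → (∀ v ∈ W, O.s v ∈ W) →
  (∀ v ∈ W, O.j v ∈ W) → W = ⊥ ∨ W = ⊤

section two

include h2

theorem eq_zero_of_neg {v : V} (h : v = -v) : v = 0 := by
  have h4 : (2 : K) • v = 0 := by
    rw [two_smul]
    nth_rewrite 2 [h]
    rw [add_neg_cancel]
  exact (smul_eq_zero.1 h4).resolve_left h2

end two

include R hω h2 in
/-- `Y` stable under `z2`, `j`, fixed by `t2`, one weight of `z2` missing: then `j` fixes `Y` -/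
theorem j_fix (Y : Submodule K V) (hz : ∀ v ∈ Y, O.z2 v ∈ Y) (hj : ∀ v ∈ Y, O.j v ∈ Y) (ht : ∀ v ∈ Y, O.t2 v = v)
    (l : Fin 3) (hl : ∀ v ∈ Y, O.z2 v = ω ^ l.val • v → v = 0) : ∀ v ∈ Y, O.j v = v := by
  have rel : ∀ w ∈ Y, w + ω ^ (2 * l.val) • O.z2 w + ω ^ l.val • O.z2 (O.z2 w) = 0 := fun w hw =>
    hl _ (Y.add_mem (Y.add_mem hw (Y.smul_mem _ (hz _ hw))) (Y.smul_mem _ (hz _ (hz _ hw))))
      (pr_eig hω R.z2z2z2 l w)
  have hc1 : ω ^ l.val ≠ 0 := pow_ne_zero _ hω.ne_zero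
  have hc2 : ω ^ (2 * l.val) ≠ 0 := pow_ne_zero _ hω.ne_zero
  -- j'
  have jp_mem : ∀ w ∈ Y, O.z2 (O.j (O.z2 (O.z2 w))) ∈ Y := fun w hw => hz _ (hj _ (hz _ (hz _ hw)))
  -- w with j w = -w, j' w = w
  have c1 : ∀ w ∈ Y, O.j w = -w → O.z2 (O.j (O.z2 (O.z2 w))) = w → w = 0 := by
    intro w hw h1 h1'
    have e1 := rel w hw
    have e2 : O.z2 (O.z2 (O.j (O.z2 w))) = -w := by
      rw [← R.jp, h1', h1]
    have e3 : O.j (O.z2 w) = -O.z2 w := by
      have := congrArg O.z2 e2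
      rw [R.z2z2z2, map_neg] at this
      exact this
    have e4 : O.j (O.z2 (O.z2 w)) = O.z2 (O.z2 w) := by
      have := congrArg (fun u => O.z2 (O.z2 u)) h1'
      simp only [R.z2z2z2] at this
      exact this
    have e5 := congrArg O.j e1
    rw [map_add, map_add, map_smul, map_smul, e3, e4, h1, map_zero] at e5
    have e6 : (2 * ω ^ l.val) • O.z2 (O.z2 w) = 0 := by
      have : (2 * ω ^ l.val) • O.z2 (O.z2 w) = (w + ω ^ (2 * l.val) • O.z2 w + ω ^ l.val • O.z2 (O.z2 w)) +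
          (-w + ω ^ (2 * l.val) • -O.z2 w + ω ^ l.val • O.z2 (O.z2 w)) := by module
      rw [this, e1, e5, add_zero]
    have e7 := (smul_eq_zero.1 e6).resolve_left (mul_ne_zero h2 hc1)
    have e8 := congrArg O.z2 e7
    rw [R.z2z2z2, map_zero] at e8
    exact e8
  have c2 : ∀ w ∈ Y, O.j w = -w → O.z2 (O.j (O.z2 (O.z2 w))) = -w → w = 0 := by
    intro w hw h1 h1'
    have e1 := rel w hw
    have e2 : O.z2 (O.z2 (O.j (O.z2 w))) = w := by
      rw [← R.jp, h1', map_neg, h1, neg_neg]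
    have e3 : O.j (O.z2 w) = O.z2 w := by
      have := congrArg O.z2 e2
      rw [R.z2z2z2] at this
      exact this
    have e4 : O.j (O.z2 (O.z2 w)) = -O.z2 (O.z2 w) := by
      have := congrArg (fun u => O.z2 (O.z2 u)) h1'
      simp only [R.z2z2z2, map_neg] at this
      exact this
    have e5 := congrArg O.j e1
    rw [map_add, map_add, map_smul, map_smul, e3, e4, h1, map_zero] at e5
    have e6 : (2 * ω ^ (2 * l.val)) • O.z2 w = 0 := by
      have : (2 * ω ^ (2 * l.val)) • O.z2 w = (w + ω ^ (2 * l.val) • O.z2 w + ω ^ l.val • O.z2 (O.z2 w)) +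
          (-w + ω ^ (2 * l.val) • O.z2 w + ω ^ l.val • -O.z2 (O.z2 w)) := by module
      rw [this, e1, e5, add_zero]
    have e7 := (smul_eq_zero.1 e6).resolve_left (mul_ne_zero h2 hc2)
    have e8 := congrArg (fun u => O.z2 (O.z2 u)) e7
    simp only [R.z2z2z2, map_zero] at e8
    exact e8
  intro v hv
  set w := v - O.j v with hw
  have hwY : w ∈ Y := Y.sub_mem hv (hj _ hv)
  have hjw : O.j w = -w := by
    rw [hw, map_sub, R.jj, ht v hv]; abel
  set w' := O.z2 (O.j (O.z2 (O.z2 w))) with hw'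
  have hw'Y : w' ∈ Y := jp_mem w hwY
  -- j j' w = j' j w (as t2 = 1)
  have hjw' : O.j w' = -w' := by
    have e1 : O.j w' = O.z2 (O.z2 (O.j (O.z2 w))) := R.jp w
    have e2 : O.z2 (O.j (O.z2 (O.z2 (O.j w)))) = O.t2 (O.z2 (O.z2 (O.j (O.z2 w)))) := R.pj w
    rw [ht _ (hz _ (hz _ (hj _ (hz _ hwY)))), ← e1, hjw, map_neg, map_neg, map_neg, map_neg] at e2
    exact e2.symm
  have hpw' : O.z2 (O.j (O.z2 (O.z2 w'))) = w := by
    rw [hw', R.z2z2z2, R.jj, ht _ (hz _ (hz _ hwY)), R.z2z2z2]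
  have hz1 : w + w' = 0 := by
    refine c1 _ (Y.add_mem hwY hw'Y) ?_ ?_
    · rw [map_add, hjw, hjw']; abel
    · rw [map_add, map_add, map_add, map_add, hpw', ← hw']; abel
  have hz2 : w - w' = 0 := by
    refine c2 _ (Y.sub_mem hwY hw'Y) ?_ ?_
    · rw [map_sub, hjw, hjw']; abel
    · rw [map_sub, map_sub, map_sub, map_sub, hpw', ← hw']; abel
  have hz : w = 0 := by
    have : (2 : K) • w = 0 := by
      rw [show (2 : K) • w = (w + w') + (w - w') by module, hz1, hz2, add_zero]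
    exact (smul_eq_zero.1 this).resolve_left h2
  exact (sub_eq_zero.1 hz).symm

include R hω h2 in
/-- on a subspace with `t2 = -1`: `j v` is not in the eigenspace of `v` -/
theorem j_move {v : V} (ht : O.t2 v = -v) {l : Fin 3} (hz : O.z2 v = ω ^ l.val • v)
    (hzj : O.z2 (O.j v) = ω ^ l.val • O.j v) : v = 0 := by
  have e := R.zj3 v
  have hjj : O.j (O.j v) = -v := by rw [R.jj, ht]
  rw [hzj, map_smul, hjj] at e
  simp only [map_smul, map_neg, hz, hzj] at e
  rw [ht] at e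
  have e1 : ω ^ l.val • ω ^ l.val • ω ^ l.val • O.j v = O.j v := by
    rw [smul_smul, smul_smul, ← pow_add, ← pow_add, show l.val + l.val + l.val = 3 * l.val by ring, pow_mul, hω.c,
      one_pow, one_smul]
  have e2 : O.j v = v := by
    have e3 : ω ^ l.val • -(ω ^ l.val • ω ^ l.val • O.j v) = -v := by
      simpa only [smul_neg, map_smul] using e
    rw [smul_neg, e1] at e3
    exact neg_injective e3
  have e4 := hjj
  rw [e2, e2] at e4
  exact eq_zero_of_neg h2 e4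

include R in
/-- on a `j`-stable subspace with `z2 = 1` also `j = 1` -/
theorem j_fix_of_z2 (Y : Submodule K V) (hz : ∀ v ∈ Y, O.z2 v = v) (hj : ∀ v ∈ Y, O.j v ∈ Y) :
    ∀ v ∈ Y, O.j v = v := by
  have ht : ∀ v ∈ Y, O.t2 v = O.j v := by
    intro v hv
    have e := R.zj3 v
    rw [hz _ (hj _ hv), hz _ (hj _ (hj _ hv)), hz _ (hj _ (hj _ (hj _ hv))), R.jj (O.j v), R.t2j] at e
    rw [← R.jj v] at e ⊢
    -- j (j (j (j v)))... 
    have e2 : O.j (O.j (O.j v)) = O.j (O.j v) := e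
    have e3 : O.j (O.j v) = O.j v := by
      have h4 := congrArg O.j (congrArg O.j (congrArg O.j e2))
      have h5 : ∀ u, O.j (O.j (O.j (O.j u))) = u := fun u => by rw [R.jj, R.jj, R.t2t2]
      rw [h5, h5] at h4
      exact h4
    exact e3
  intro v hv
  have h5 : O.j (O.j v) = O.j v := by rw [R.jj, ht v hv]
  have h7 : O.j (O.j (O.j (O.j v))) = v := by rw [R.jj, R.jj, R.t2t2]
  rw [h5, h5, h5] at h7
  exact h7

/-! ### subspaces -/

/-- an eigenspace -/
def Ei (T : Module.End K V) (c : K) : Submodule K V := LinearMap.eqLocus T (c • LinearMap.id)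

theorem mem_Ei {T : Module.End K V} {c : K} {v : V} : v ∈ Ei T c ↔ T v = c • v := Iff.rfl

/-- the fixed space -/
def Fi (T : Module.End K V) : Submodule K V := LinearMap.eqLocus T LinearMap.id

theorem mem_Fi {T : Module.End K V} {v : V} : v ∈ Fi T ↔ T v = v := Iff.rfl

include R in
theorem j4 (v : V) : O.j (O.j (O.j (O.j v))) = v := by rw [R.jj, R.jj, R.t2t2]

include R in
theorem j_inj {v : V} (h : O.j v = 0) : v = 0 := by
  rw [← j4 R v, h, map_zero, map_zero, map_zero]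

include R in
theorem s_inj {v : V} (h : O.s v = 0) : v = 0 := by
  rw [← R.ss v, h, map_zero]

section fin

variable [FiniteDimensional K V]

theorem Ty.eq_zero {m0 a b c d : ℕ} (T : Ty O ω m0 a b c d) {i j k : Fin 3}
    (h : ![m0, a, b, c, d] (cls i j k) = 0) {v : V} (hv : v ∈ O.W ω i j k) : v = 0 := by
  have h1 := T.dim i j k
  rw [h] at h1
  rw [Submodule.finrank_eq_zero.1 h1] at hv
  exact (Submodule.mem_bot K).1 hv

omit [FiniteDimensional K V] in
theorem Ty.exists_ne {m0 a b c d : ℕ} (T : Ty O ω m0 a b c d) {i j k : Fin 3}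
    (h : ![m0, a, b, c, d] (cls i j k) ≠ 0) : ∃ v ∈ O.W ω i j k, v ≠ 0 := by
  apply Submodule.exists_mem_ne_zero_of_ne_bot
  intro hb
  apply h
  rw [← T.dim, hb, finrank_bot]

include hω h3 in
omit [FiniteDimensional K V] in
theorem three_sum {a b c : V} (e0 : a + b + c = 0) (e1 : a + ω ^ 2 • b + ω • c = 0) (e2 : a + ω • b + ω ^ 2 • c = 0) :
    a = 0 := by
  have e : (3 : K) • a = 0 := by
    have h4 : (3 : K) • a = (a + b + c) + (a + ω ^ 2 • b + ω • c) + (a + ω • b + ω ^ 2 • c) -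
        ((ω ^ 2 + ω + 1) • b + (ω ^ 2 + ω + 1) • c) := by module
    rw [h4, e0, e1, e2, hω.a, zero_smul, zero_smul]
    simp
  exact (smul_eq_zero.1 e).resolve_left h3

include R hω h3 in
theorem d_zero {m0 a b c d : ℕ} (T : Ty O ω m0 a b c d) (hn : finrank K V ≤ 12) : d = 0 := by
  by_contra hd
  have ht := T.tot
  have hd1 : d = 1 := by omega
  have hm : m0 = 0 := by omega
  have ha : a = 0 := by omega
  have hb : b = 0 := by omega
  obtain ⟨v, hv, hv0⟩ := T.exists_ne (i := 0) (j := 0) (k := 1) (by change d ≠ 0; exact hd)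
  have hyv : O.y v ∈ O.W ω 0 2 1 := W_y (i := 0) (j := 0) (k := 1) R hω hv
  have hyyv : O.y (O.y v) ∈ O.W ω 0 1 1 := W_y (i := 0) (j := 2) (k := 1) R hω hyv
  rw [mem_W] at hv hyv hyyv
  obtain ⟨a1, a2, a3⟩ := hv
  obtain ⟨b1, b2, b3⟩ := hyv
  obtain ⟨c1, c2, c3⟩ := hyyv
  change _ = ω ^ 0 • v at a1 a2
  change _ = ω ^ 0 • O.y v at b1
  change _ = ω ^ 2 • O.y v at b2
  change _ = ω ^ 0 • O.y (O.y v) at c1
  change _ = ω ^ 1 • O.y (O.y v) at c2
  rw [pow_zero, one_smul] at a1 a2 b1 c1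
  rw [pow_one] at c2
  set u := v + O.y v + O.y (O.y v) with hu
  have hu0 : u ≠ 0 := by
    intro h0
    have e1 : O.z2 u = 0 := by rw [h0, map_zero]
    have e2 : O.z2 (O.z2 u) = 0 := by rw [e1, map_zero]
    rw [hu] at h0
    have e3 : O.z2 u = v + ω ^ 2 • O.y v + ω • O.y (O.y v) := by
      rw [hu, map_add, map_add, a2, b2, c2]
    have e4 : O.z2 (O.z2 u) = v + ω • O.y v + ω ^ 2 • O.y (O.y v) := by
      rw [e3, map_add, map_add, map_smul, map_smul, a2, b2, c2, smul_smul, smul_smul]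
      congr 2
      · congr 1
        linear_combination ω * hω.c
      · ring
    exact hv0 (three_sum hω h3 h0 (e3.symm.trans e1) (e4.symm.trans e2))
  have hyu : O.y u = u := by
    rw [hu, map_add, map_add, R.yyy]; abel
  have hz1u : O.z1 u = u := by
    rw [hu, map_add, map_add, a1, b1, c1]
  have hw : O.j u ∈ Fi O.z1 ⊓ Fi O.x := Submodule.mem_inf.2 ⟨by rw [mem_Fi, R.z1j, hz1u], by
    rw [mem_Fi, ← R.jy, hyu]⟩
  have h0 : O.j u ∈ (⊥ : Submodule K V) := by
    refine decomp hω h3 (T := O.z2) R.z2z2z2 (Fi O.z1 ⊓ Fi O.x) ⊥ ?_ ?_ hw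
    · rintro w ⟨(w1 : O.z1 w = w), (w2 : O.x w = w)⟩
      exact Submodule.mem_inf.2 ⟨by rw [mem_Fi, R.z1z2, w1], by rw [mem_Fi, ← R.z2x, w2]⟩
    · rintro l w ⟨(w1 : O.z1 w = w), (w2 : O.x w = w)⟩ hl
      rw [Submodule.mem_bot]
      refine T.eq_zero (i := 0) (j := l) (k := 0) ?_ (mem_W.2 ⟨?_, hl, ?_⟩)
      · fin_cases l
        · exact hm
        · exact ha
        · exact hb
      · change _ = ω ^ 0 • w
        rw [pow_zero, one_smul, w1]
      · change _ = ω ^ 0 • w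
        rw [pow_zero, one_smul, w2]
  rw [Submodule.mem_bot] at h0
  exact hu0 (j_inj R h0)

variable {m0 a b c : ℕ} (T : Ty O ω m0 a b c 0)

include R hω h3 T in
theorem x_fix {v : V} (hv : O.z1 v = v) : O.x v = v := by
  refine decomp hω h3 (T := O.z2) R.z2z2z2 (Fi O.z1) (Fi O.x) ?_ ?_ (v := v) hv
  · intro w w1
    rw [mem_Fi] at w1 ⊢
    rw [R.z1z2, w1]
  · intro l w w1 hl
    refine decomp hω h3 (T := O.x) R.xxx (Fi O.z1 ⊓ Ei O.z2 (ω ^ l.val)) (Fi O.x) ?_ ?_ ⟨w1, hl⟩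
    · rintro u ⟨(u1 : O.z1 u = u), (u2 : O.z2 u = ω ^ l.val • u)⟩
      exact Submodule.mem_inf.2 ⟨by rw [mem_Fi, R.z1x, u1], by rw [mem_Ei, R.z2x, u2, map_smul]⟩
    · rintro k u ⟨(u1 : O.z1 u = u), (u2 : O.z2 u = ω ^ l.val • u)⟩ hk
      by_cases hk0 : k = 0
      · rw [mem_Fi, hk, hk0]
        change ω ^ 0 • u = u
        rw [pow_zero, one_smul]
      · have hu : u = 0 := by
          refine T.eq_zero (i := 0) (j := l) (k := k) ?_ (mem_W.2 ⟨?_, u2, hk⟩)
          · have : ∀ l k : Fin 3, k ≠ 0 → cls 0 l k = 4 := by decide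
            rw [this l k hk0]; rfl
          · change _ = ω ^ 0 • u
            rw [pow_zero, one_smul, u1]
        rw [hu]
        exact Submodule.zero_mem _

include R hω h3 T in
theorem y_fix {v : V} (hv : O.z1 v = v) : O.y v = v := by
  have e1 : O.z1 (O.j (O.j (O.j v))) = O.j (O.j (O.j v)) := by rw [R.z1j, R.z1j, R.z1j, hv]
  have e2 := R.jx (O.j (O.j (O.j v)))
  rw [x_fix R hω h3 T e1, j4 R] at e2
  have e3 := congrArg O.y e2
  rw [R.yyy] at e3
  exact e3

include R hω h3 T in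
theorem mem_W_X {v : V} (hv : O.z1 v = v) {l : Fin 3} (hl : O.z2 v = ω ^ l.val • v) : v ∈ O.W ω 0 l 0 := by
  refine mem_W.2 ⟨?_, hl, ?_⟩
  · change _ = ω ^ 0 • v
    rw [pow_zero, one_smul, hv]
  · change _ = ω ^ 0 • v
    rw [pow_zero, one_smul, x_fix R hω h3 T hv]

include R hω h3 T in
/-- no vector fixed by `z1`, `z2`, `j` -/
theorem no_fix (hI : Irr O) (hn : 2 ≤ finrank K V) {v : V} (hv1 : O.z1 v = v) (hv2 : O.z2 v = v)
    (hvj : O.j v = v) : v = 0 := by
  have hy := y_fix R hω h3 T hv1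
  have hys : O.y (O.s v) = O.s v := y_fix R hω h3 T (by rw [R.z1s, hv2])
  have hs : O.s v = v := by
    have e := R.s_eq v
    rw [hy, show O.t2 v = v by rw [← R.jj, hvj, hvj], hys, R.ss, hy, hy] at e
    exact e
  have key : ∀ T : Module.End K V, T v = v → ∀ w ∈ (K ∙ v), T w ∈ (K ∙ v) := by
    intro T hT w hw
    obtain ⟨c, rfl⟩ := Submodule.mem_span_singleton.1 hw
    rw [map_smul, hT]
    exact Submodule.smul_mem _ _ (Submodule.mem_span_singleton_self v)
  rcases hI (K ∙ v) (key _ hy) (key _ hs) (key _ hvj) with h | h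
  · exact Submodule.span_singleton_eq_bot.1 h
  · exfalso
    have h4 : finrank K (K ∙ v) ≤ 1 := by
      refine (finrank_span_le_card ({v} : Set V)).trans ?_
      simp
    rw [h, finrank_top] at h4
    omega

include R hω h3 T in
/-- an `L₂`-stable subspace of the fixed space of `z1` on which `z2` has only the eigenvalue 1 is zero -/
theorem Y_zero (hI : Irr O) (hn : 2 ≤ finrank K V) (Y : Submodule K V) (hY1 : ∀ v ∈ Y, O.z1 v = v)
    (hYz : ∀ v ∈ Y, O.z2 v ∈ Y) (hYj : ∀ v ∈ Y, O.j v ∈ Y)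
    (h : ∀ l : Fin 3, l ≠ 0 → ∀ v ∈ Y, O.z2 v = ω ^ l.val • v → v = 0) {v : V} (hv : v ∈ Y) : v = 0 := by
  have hz : ∀ v ∈ Y, O.z2 v = v := fun v hv =>
    fix_of_no_eigen hω.a hω.c (cube2 R) Y hYz h v hv
  exact no_fix R hω h3 T hI hn (hY1 v hv) (hz v hv) (j_fix_of_z2 R Y hz hYj v hv)

end fin

/-! ### the eigenspace of `z1` for `ω` -/

section omega

variable {l : Fin 3} (hl : ∀ v, O.z1 v = ω • v → O.t2 v = v → O.z2 v = ω ^ l.val • v → v = 0)

include R hω h2 hl in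
theorem jw_fix {v : V} (hv : O.z1 v = ω • v) (ht : O.t2 v = v) : O.j v = v := by
  refine j_fix R hω h2 (Ei O.z1 ω ⊓ Fi O.t2) ?_ ?_ (fun v hv => hv.2) l ?_ v ⟨hv, ht⟩
  · rintro w ⟨(w1 : O.z1 w = ω • w), (w2 : O.t2 w = w)⟩
    exact Submodule.mem_inf.2 ⟨by rw [mem_Ei, R.z1z2, w1, map_smul], by rw [mem_Fi, ← R.z2t2, w2]⟩
  · rintro w ⟨(w1 : O.z1 w = ω • w), (w2 : O.t2 w = w)⟩
    exact Submodule.mem_inf.2 ⟨by rw [mem_Ei, R.z1j, w1, map_smul], by rw [mem_Fi, R.t2j, w2]⟩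
  · rintro w ⟨w1, w2⟩ h
    exact hl w w1 w2 h

include R hω h2 hl in
/-- `t2 = -1` on the vectors fixed by `x` -/
theorem t2_neg {v : V} (hv : O.z1 v = ω • v) (hx : O.x v = v) : O.t2 v = -v := by
  set u := v + O.t2 v with hu
  have u1 : O.z1 u = ω • u := by rw [hu, map_add, R.z1t2, hv, map_smul, smul_add]
  have u2 : O.t2 u = u := by rw [hu, map_add, R.t2t2]; abel
  have u3 : O.x u = u := by rw [hu, map_add, R.xt2, hx, hx]
  have u4 := jw_fix R hω h2 hl u1 u2
  have u5 : O.y u = u := by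
    have e := R.jx u
    rw [u3, u4] at e
    have e' := congrArg O.y e
    rw [R.yyy] at e'
    exact e'
  have e := R.xy u
  rw [u5, u3, u1, map_smul, u5] at e
  have e2 : (1 - ω) • u = 0 := by rw [sub_smul, ← e, one_smul, sub_self]
  have e3 : u = 0 := (smul_eq_zero.1 e2).resolve_left (sub_ne_zero.2 (Ne.symm hω.b))
  rw [hu] at e3
  exact (neg_eq_of_add_eq_zero_right e3).symm

include R hω h2 hl in
theorem ju_fix {v : V} (hv : O.z1 v = ω • v) (hx : O.x v = v) :
    O.j (O.y v - O.y (O.y v)) = O.y v - O.y (O.y v) := by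
  have ht := t2_neg R hω h2 hl hv hx
  have e1 : O.t2 (O.y v) = -O.y (O.y v) := by rw [R.t2y, ht, map_neg, map_neg]
  apply jw_fix R hω h2 hl
  · rw [map_sub, R.z1y, R.z1y, R.z1y, hv, map_smul, map_smul, smul_sub]
  · rw [map_sub, e1, R.t2y, e1, map_neg, map_neg, R.yyy]
    abel

end omega

include R hω in
/-- the three-dimensional `Q`-submodule generated by `v` is stable under `j` -/
theorem jR {v : V} (hv : O.z1 v = ω • v) (hx : O.x v = v)
    (hu : O.j (O.y v - O.y (O.y v)) = O.y v - O.y (O.y v)) {W : Submodule K V} (h0 : v ∈ W) (h1 : O.y v ∈ W)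
    (h2 : O.y (O.y v) ∈ W) : O.j v ∈ W ∧ O.j (O.y v) ∈ W ∧ O.j (O.y (O.y v)) ∈ W := by
  have x1 : O.x (O.y v) = ω • O.y v := by rw [R.xy, hx, hv, map_smul]
  have x2 : O.x (O.y (O.y v)) = (ω ^ 2) • O.y (O.y v) := by
    rw [R.xy, x1, map_smul, R.z1y, hv, map_smul, map_smul, map_smul, smul_smul, pow_two]
  have e1 : O.j (O.y v) - O.j (O.y (O.y v)) = O.y v - O.y (O.y v) := by rw [← map_sub, hu]
  have e2 : ω • O.j (O.y v) - (ω ^ 2) • O.j (O.y (O.y v)) = v - O.y v := by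
    have e := R.jx (O.y v - O.y (O.y v))
    rw [hu, map_sub, x1, x2, map_sub, map_smul, map_smul, map_sub, map_sub, R.yyy] at e
    exact e
  have hc := hω.sub_ne
  have e3 : O.j (O.y v) = (ω - ω ^ 2)⁻¹ • (v - O.y v - (ω ^ 2) • (O.y v - O.y (O.y v))) := by
    rw [eq_inv_smul_iff₀ hc, ← e1, ← e2]; module
  have e4 : O.j (O.y (O.y v)) = (ω - ω ^ 2)⁻¹ • (v - O.y v - ω • (O.y v - O.y (O.y v))) := by
    rw [eq_inv_smul_iff₀ hc, ← e1, ← e2]; module
  have e5 : O.j v = O.x (O.x (O.j (O.y v))) := by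
    rw [R.jy, R.xxx]
  refine ⟨?_, ?_, ?_⟩
  · rw [e5, e3]
    simp only [map_smul, map_sub, hx, x1, x2]
    refine W.smul_mem _ (W.sub_mem (W.sub_mem h0 ?_) (W.smul_mem _ (W.sub_mem ?_ ?_)))
    · exact W.smul_mem _ (W.smul_mem _ h1)
    · exact W.smul_mem _ (W.smul_mem _ h1)
    · exact W.smul_mem _ (W.smul_mem _ h2)
  · rw [e3]
    exact W.smul_mem _ (W.sub_mem (W.sub_mem h0 h1) (W.smul_mem _ (W.sub_mem h1 h2)))
  · rw [e4]
    exact W.smul_mem _ (W.sub_mem (W.sub_mem h0 h1) (W.smul_mem _ (W.sub_mem h1 h2)))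

end Cfsg.Agent.H659.Sp4
end

-- part: H659/Sp4Main
section
/-!
# Irreducible representations of `Sp₄(3)` of degree ≤ 12 in characteristic ≠ 2, 3: the case analysis
-/

set_option autoImplicit false

namespace Cfsg.Agent.H659.Sp4

open Module Cfsg.Agent.H659.Triple

variable {K : Type*} [Field K] {V : Type*} [AddCommGroup V] [Module K V] {O : Ops K V} {ω : K} (R : Rels O)
  (hω : Om ω) (h2 : (2 : K) ≠ 0) (h3 : (3 : K) ≠ 0)

theorem om_one {v : V} : ω ^ (1 : Fin 3).val • v = ω • v := by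
  change ω ^ 1 • v = ω • v
  rw [pow_one]

theorem om_zero {v : V} : ω ^ (0 : Fin 3).val • v = v := by
  change ω ^ 0 • v = v
  rw [pow_zero, one_smul]

theorem om_two {v : V} : ω ^ (2 : Fin 3).val • v = ω ^ 2 • v := rfl

include R hω in
theorem W_y' {i j k j' k' : Fin 3} {v : V} (h : v ∈ O.W ω i j k) (hj : i + j + (k + k) = j') (hk : i + k = k') :
    O.y v ∈ O.W ω i j' k' := by
  rw [← hj, ← hk]
  exact W_y R hω h

include R hω in
theorem W_t2' {i j : Fin 3} {v : V} (h : v ∈ O.W ω i j 0) : O.t2 v ∈ O.W ω i j 0 :=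
  W_t2 (k := 0) R hω h

/-! ### the closing lemmas -/

include R hω in
/-- closing of type 6 -/
theorem close6 (hω2 : Om (ω ^ 2)) (h2 : (2 : K) ≠ 0) (hp : ∀ v, O.t1 (O.t2 v) = v)
    (hl : ∀ v, O.z1 v = ω • v → O.t2 v = v → O.z2 v = ω ^ (0 : Fin 3).val • v → v = 0)
    (hl' : ∀ v, O.z1 v = ω ^ 2 • v → O.t2 v = v → O.z2 v = (ω ^ 2) ^ (0 : Fin 3).val • v → v = 0)
    {v : V} (hv : v ∈ O.W ω 1 1 0) : ∃ W : Submodule K V, v ∈ W ∧ finrank K W ≤ 6 ∧ (∀ w ∈ W, O.y w ∈ W) ∧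
      (∀ w ∈ W, O.s w ∈ W) ∧ (∀ w ∈ W, O.j w ∈ W) := by
  have ht : ∀ v, O.t1 v = O.t2 v := fun v => by
    have := hp (O.t2 v)
    rwa [R.t2t2] at this
  set v' := O.y (O.s (O.y v)) with hv'
  have m1 : O.y v ∈ O.W ω 1 2 1 := W_y' R hω hv (by decide) (by decide)
  have m2 : O.s (O.y v) ∈ O.W ω 2 1 1 := W_s R m1
  have m3 : v' ∈ O.W ω 2 2 0 := W_y' R hω m2 (by decide) (by decide)
  rw [mem_W] at hv m3
  obtain ⟨a1, a2, a3⟩ := hv
  obtain ⟨b1, b2, b3⟩ := m3
  rw [om_one] at a1 a2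
  rw [om_zero] at a3 b3
  rw [om_two] at b1 b2
  have tv : O.t2 v = -v := t2_neg R hω h2 hl a1 a3
  have tv' : O.t2 v' = -v' := t2_neg R hω2 h2 hl' b1 b3
  have sv : O.s v = -v := by
    have e := R.t2v v
    rw [← hv', tv', hp] at e
    have e2 := congrArg (fun u => O.y (O.y (O.s (O.y (O.y u))))) e
    simp only [map_neg, R.yyy] at e2
    rw [hv'] at e2
    simp only [R.yyy, R.ss] at e2
    exact e2.symm
  have s1 : O.s (O.y v) = O.y (O.y v') := by rw [hv', R.yyy]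
  have s2 : O.s (O.y (O.y v)) = O.y v' := by
    rw [R.syy, tv, map_neg, sv, neg_neg]
  have s3 : O.s v' = -v' := by
    rw [hv', R.sv, tv, map_neg, map_neg, map_neg]
  have s4 : O.s (O.y v') = O.y (O.y v) := by
    rw [hv', R.syv, ht, tv, map_neg, sv, neg_neg]
  have s5 : O.s (O.y (O.y v')) = O.y v := by
    rw [← s1, R.ss]
  let S : Set V := {v, O.y v, O.y (O.y v), v', O.y v', O.y (O.y v')}
  have i0 : v ∈ Submodule.span K S := Submodule.subset_span (by simp only [S, _root_.Set.mem_insert_iff, _root_.Set.mem_singleton_iff, _root_.true_or])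
  have i1 : O.y v ∈ Submodule.span K S := Submodule.subset_span (by simp only [S, _root_.Set.mem_insert_iff, _root_.Set.mem_singleton_iff, _root_.true_or, _root_.or_true])
  have i2 : O.y (O.y v) ∈ Submodule.span K S := Submodule.subset_span (by simp only [S, _root_.Set.mem_insert_iff, _root_.Set.mem_singleton_iff, _root_.true_or, _root_.or_true])
  have i3 : v' ∈ Submodule.span K S := Submodule.subset_span (by simp only [S, _root_.Set.mem_insert_iff, _root_.Set.mem_singleton_iff, _root_.true_or, _root_.or_true])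
  have i4 : O.y v' ∈ Submodule.span K S := Submodule.subset_span (by simp only [S, _root_.Set.mem_insert_iff, _root_.Set.mem_singleton_iff, _root_.true_or, _root_.or_true])
  have i5 : O.y (O.y v') ∈ Submodule.span K S := Submodule.subset_span (by simp only [S, _root_.Set.mem_insert_iff, _root_.Set.mem_singleton_iff, _root_.or_true])
  have key : ∀ T : Module.End K V, (∀ w ∈ S, T w ∈ Submodule.span K S) →
      ∀ w ∈ Submodule.span K S, T w ∈ Submodule.span K S := by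
    intro T hT w hw
    have : Submodule.span K S ≤ (Submodule.span K S).comap T := Submodule.span_le.2 hT
    exact this hw
  have j1 := jR R hω a1 a3 (ju_fix R hω h2 hl a1 a3) i0 i1 i2
  have j2 := jR R hω2 b1 b3 (ju_fix R hω2 h2 hl' b1 b3) i3 i4 i5
  refine ⟨Submodule.span K S, i0, ?_, ?_, ?_, ?_⟩
  · classical
    have hS : S = (({v, O.y v, O.y (O.y v), v', O.y v', O.y (O.y v')} : Finset V) : Set V) := by simp only [S, _root_.Finset.coe_insert, _root_.Finset.coe_singleton]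
    rw [hS]
    refine (finrank_span_finset_le_card _).trans ?_
    exact Finset.card_le_six
  · refine key O.y ?_
    rintro w (rfl | rfl | rfl | rfl | rfl | rfl)
    · exact i1
    · exact i2
    · rw [R.yyy]; exact i0
    · exact i4
    · exact i5
    · rw [R.yyy]; exact i3
  · refine key O.s ?_
    rintro w (rfl | rfl | rfl | rfl | rfl | rfl)
    · rw [sv]; exact neg_mem i0
    · rw [s1]; exact i5
    · rw [s2]; exact i4
    · rw [s3]; exact neg_mem i3
    · rw [s4]; exact i2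
    · rw [s5]; exact i1
  · refine key O.j ?_
    rintro w (rfl | rfl | rfl | rfl | rfl | rfl)
    · exact j1.1
    · exact j1.2.1
    · exact j1.2.2
    · exact j2.1
    · exact j2.2.1
    · exact j2.2.2

include R hω in
/-- closing of type 4 -/
theorem close4 (h2 : (2 : K) ≠ 0) (hm : ∀ v, O.t1 (O.t2 v) = -v) {l : Fin 3}
    (hl : ∀ v, O.z1 v = ω • v → O.t2 v = v → O.z2 v = ω ^ l.val • v → v = 0)
    {m : V} (hv : m ∈ O.W ω 0 1 0) (hy : O.y m = m) (hj : O.j m = m) :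
    ∃ W : Submodule K V, m ∈ W ∧ finrank K W ≤ 4 ∧ (∀ w ∈ W, O.y w ∈ W) ∧
      (∀ w ∈ W, O.s w ∈ W) ∧ (∀ w ∈ W, O.j w ∈ W) := by
  have tm : O.t2 m = m := by rw [← R.jj, hj, hj]
  have tm1 : O.t1 m = -m := by
    have := hm m
    rwa [tm] at this
  have m1 : O.s m ∈ O.W ω 1 0 0 := W_s R hv
  rw [mem_W] at m1
  obtain ⟨b1, b2, b3⟩ := m1
  rw [om_one] at b1
  rw [om_zero] at b2 b3
  have s1 : O.s (O.y (O.s m)) = O.y (O.s m) := by rw [R.sys, hy, tm]
  have s2 : O.s (O.y (O.y (O.s m))) = -O.y (O.y (O.s m)) := by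
    rw [R.syys, tm1, map_neg, hy, map_neg, map_neg, map_neg]
  let S : Set V := {m, O.s m, O.y (O.s m), O.y (O.y (O.s m))}
  have i0 : m ∈ Submodule.span K S := Submodule.subset_span (by simp [S])
  have i1 : O.s m ∈ Submodule.span K S := Submodule.subset_span (by simp [S])
  have i2 : O.y (O.s m) ∈ Submodule.span K S := Submodule.subset_span (by simp [S])
  have i3 : O.y (O.y (O.s m)) ∈ Submodule.span K S := Submodule.subset_span (by simp [S])
  have key : ∀ T : Module.End K V, (∀ w ∈ S, T w ∈ Submodule.span K S) →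
      ∀ w ∈ Submodule.span K S, T w ∈ Submodule.span K S := by
    intro T hT w hw
    have : Submodule.span K S ≤ (Submodule.span K S).comap T := Submodule.span_le.2 hT
    exact this hw
  have j1 := jR R hω b1 b3 (ju_fix R hω h2 hl b1 b3) i1 i2 i3
  refine ⟨Submodule.span K S, i0, ?_, ?_, ?_, ?_⟩
  · classical
    have hS : S = (({m, O.s m, O.y (O.s m), O.y (O.y (O.s m))} : Finset V) : Set V) := by simp only [S, _root_.Finset.coe_insert, _root_.Finset.coe_singleton]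
    rw [hS]
    refine (finrank_span_finset_le_card _).trans ?_
    exact Finset.card_le_four
  · refine key O.y ?_
    rintro w (rfl | rfl | rfl | rfl)
    · rw [hy]; exact i0
    · exact i2
    · exact i3
    · rw [R.yyy]; exact i1
  · refine key O.s ?_
    rintro w (rfl | rfl | rfl | rfl)
    · exact i1
    · rw [R.ss]; exact i0
    · rw [s1]; exact i2
    · rw [s2]; exact neg_mem i3
  · refine key O.j ?_
    rintro w (rfl | rfl | rfl | rfl)
    · rw [hj]; exact i0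
    · exact j1.1
    · exact j1.2.1
    · exact j1.2.2

theorem finrank_le_of_irr [FiniteDimensional K V] (hI : Irr O) {v : V} (hv : v ≠ 0) {N : ℕ}
    (h : ∃ W : Submodule K V, v ∈ W ∧ finrank K W ≤ N ∧ (∀ w ∈ W, O.y w ∈ W) ∧
      (∀ w ∈ W, O.s w ∈ W) ∧ (∀ w ∈ W, O.j w ∈ W)) : finrank K V ≤ N := by
  obtain ⟨W, h1, h2, h3, h4, h5⟩ := h
  rcases hI W h3 h4 h5 with h | h
  · rw [h] at h1
    exact absurd ((Submodule.mem_bot K).1 h1) hv
  · rw [h, finrank_top] at h2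
    exact h2

/-! ### dimensions -/

section dims

variable [FiniteDimensional K V]

include R hω h2 in
theorem two_mul_le (Y Z : Submodule K V) (hYj : ∀ v ∈ Y, O.j v ∈ Y) (ht : ∀ v ∈ Y, O.t2 v = -v) (hZ : Z ≤ Y)
    {l : Fin 3} (hZl : ∀ v ∈ Z, O.z2 v = ω ^ l.val • v) : 2 * finrank K Z ≤ finrank K Y := by
  have hinj : Function.Injective O.j := Function.LeftInverse.injective (g := O.j * O.j * O.j) (j4 R)
  have e1 : finrank K (Z.map O.j) = finrank K Z :=
    (Submodule.equivMapOfInjective O.j hinj _).finrank_eq.symm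
  have e2 : Z ⊓ Z.map O.j = ⊥ := by
    rw [eq_bot_iff]
    rintro v ⟨hv, w, hw, rfl⟩
    have h0 : w = 0 := j_move R hω h2 (ht w (hZ hw)) (hZl w hw) (hZl _ hv)
    rw [h0, map_zero]
    exact Submodule.zero_mem _
  have e3 := Submodule.finrank_sup_add_finrank_inf_eq Z (Z.map O.j)
  rw [e2, finrank_bot, e1] at e3
  have e4 : Z ⊔ Z.map O.j ≤ Y := by
    refine sup_le hZ ?_
    rintro _ ⟨w, hw, rfl⟩
    exact hYj w (hZ hw)
  have e5 := Submodule.finrank_mono e4
  omega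

include R h2 in
theorem even_of (Y : Submodule K V) (hYj : ∀ v ∈ Y, O.j v ∈ Y) (hYz : ∀ v ∈ Y, O.z2 v ∈ Y)
    (ht : ∀ v ∈ Y, O.t2 v = -v) : Even (finrank K Y) := by
  let J : Module.End K Y := O.j.restrict hYj
  let Z : Module.End K Y := O.z2.restrict hYz
  let J' : Module.End K Y := Z * J * Z * Z
  have e1 : J' * J = -(J * J') := by
    apply LinearMap.ext
    intro v
    apply Subtype.ext
    change O.z2 (O.j (O.z2 (O.z2 (O.j v)))) = -(O.j (O.z2 (O.j (O.z2 (O.z2 v)))))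
    rw [R.pj, R.jp, ht _ (hYz _ (hYz _ (hYj _ (hYz _ v.2))))]
  have e2 := congrArg LinearMap.det e1
  rw [← neg_one_smul K, LinearMap.det_smul, map_mul LinearMap.det J' J, map_mul LinearMap.det J J',
    mul_comm (LinearMap.det J)] at e2
  have hJ : LinearMap.det J ≠ 0 := by
    have h1 : J * J = -1 := by
      apply LinearMap.ext
      intro v
      apply Subtype.ext
      change O.j (O.j v) = -v
      rw [R.jj, ht _ v.2]
    have h4 := congrArg LinearMap.det h1
    rw [map_mul, ← neg_one_smul K, LinearMap.det_smul, map_one, mul_one] at h4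
    intro h0
    rw [h0, zero_mul] at h4
    exact pow_ne_zero _ (neg_ne_zero.2 one_ne_zero) h4.symm
  have hZ : LinearMap.det Z ≠ 0 := by
    have h1 : Z * Z * Z = 1 := by
      apply LinearMap.ext
      intro v
      apply Subtype.ext
      change O.z2 (O.z2 (O.z2 v)) = v
      rw [R.z2z2z2]
    have h4 := congrArg LinearMap.det h1
    rw [map_mul, map_mul, map_one] at h4
    intro h0
    rw [h0, zero_mul, zero_mul] at h4
    exact zero_ne_one h4
  have hJ' : LinearMap.det J' ≠ 0 := by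
    change LinearMap.det (Z * J * Z * Z) ≠ 0
    rw [map_mul, map_mul, map_mul]
    exact mul_ne_zero (mul_ne_zero (mul_ne_zero hZ hJ) hZ) hZ
  by_contra hodd
  rw [Nat.not_even_iff_odd] at hodd
  rw [hodd.neg_one_pow] at e2
  have e3 : LinearMap.det J' * LinearMap.det J = 0 := eq_zero_of_neg (K := K) h2 (by rw [← neg_one_mul]; exact e2)
  exact (mul_ne_zero hJ' hJ) e3

variable {m0 a b c : ℕ} (T : Ty O ω m0 a b c 0)

include R hω h3 T in
theorem X_le : Fi O.z1 ≤ O.W ω 0 0 0 ⊔ O.W ω 0 1 0 ⊔ O.W ω 0 2 0 := by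
  intro v hv
  refine decomp hω h3 (T := O.z2) R.z2z2z2 (Fi O.z1) _ ?_ ?_ hv
  · intro w w1
    rw [mem_Fi] at w1 ⊢
    rw [R.z1z2, w1]
  · intro l w w1 hl
    have := mem_W_X R hω h3 T w1 hl
    fin_cases l
    · exact Submodule.mem_sup_left (Submodule.mem_sup_left this)
    · exact Submodule.mem_sup_left (Submodule.mem_sup_right this)
    · exact Submodule.mem_sup_right this

omit [FiniteDimensional K V] in
theorem W_le_X (l k : Fin 3) : O.W ω 0 l k ≤ Fi O.z1 := by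
  intro v hv
  rw [mem_W, om_zero] at hv
  exact hv.1

include R hω h3 T in
theorem finrank_X : finrank K (Fi O.z1) = m0 + a + b := by
  apply le_antisymm
  · refine (Submodule.finrank_mono (X_le R hω h3 T)).trans ?_
    refine (Submodule.finrank_add_le_finrank_add_finrank _ _).trans ?_
    have h4 := Submodule.finrank_add_le_finrank_add_finrank (O.W ω 0 0 0) (O.W ω 0 1 0)
    have d0 : finrank K (O.W ω 0 0 0) = m0 := T.dim 0 0 0
    have d1 : finrank K (O.W ω 0 1 0) = a := T.dim 0 1 0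
    have d2 : finrank K (O.W ω 0 2 0) = b := T.dim 0 2 0
    omega
  · have hinj : Function.Injective (fun l : Fin 3 => ((0 : Fin 3), l, (0 : Fin 3))) := by
      intro a b hab
      simpa using hab
    have hs := SevenU42.sum_finrank_le_of_le ((indep_W R hω h3).comp hinj) (Fi O.z1) (fun l => W_le_X l 0)
    rw [Fin.sum_univ_three] at hs
    have d0 : finrank K (O.W ω 0 0 0) = m0 := T.dim 0 0 0
    have d1 : finrank K (O.W ω 0 1 0) = a := T.dim 0 1 0
    have d2 : finrank K (O.W ω 0 2 0) = b := T.dim 0 2 0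
    rw [← d0, ← d1, ← d2]
    exact hs

include R hω h3 T in
/-- a missing weight of `z2` on the eigenspace of `z1` -/
theorem absent {i l : Fin 3} (h : ∀ k, ![m0, a, b, c, 0] (cls i l k) = 0) {v : V} (hv : O.z1 v = ω ^ i.val • v)
    (hl : O.z2 v = ω ^ l.val • v) : v = 0 := by
  have : v ∈ (⊥ : Submodule K V) := by
    refine decomp hω h3 (T := O.x) R.xxx (Ei O.z1 (ω ^ i.val) ⊓ Ei O.z2 (ω ^ l.val)) ⊥ ?_ ?_ ⟨hv, hl⟩
    · rintro u ⟨(u1 : O.z1 u = ω ^ i.val • u), (u2 : O.z2 u = ω ^ l.val • u)⟩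
      exact Submodule.mem_inf.2 ⟨by rw [mem_Ei, R.z1x, u1, map_smul], by rw [mem_Ei, R.z2x, u2, map_smul]⟩
    · rintro k u ⟨(u1 : O.z1 u = ω ^ i.val • u), (u2 : O.z2 u = ω ^ l.val • u)⟩ hk
      rw [Submodule.mem_bot]
      exact T.eq_zero (h k) (mem_W.2 ⟨u1, u2, hk⟩)
  exact (Submodule.mem_bot K).1 this

end dims

end Cfsg.Agent.H659.Sp4
end
end

-- part: H659/Sp4Inst
section
set_option linter.all false
open scoped Cfsg.Agent.FastGrp

/-!
# The operators of a representation of `Sp₄(3)`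
-/

set_option autoImplicit false

namespace Cfsg.Agent.H659.Sp4

open Module SevenU42

/-- `Sp₄(3)` -/
abbrev Sp := Matrix.symplecticGroup (Fin 2) (ZMod 3)

variable {K : Type*} [Field K] {V : Type*} [AddCommGroup V] [Module K V]

/-- the operators of a representation -/
def ops (ρ : Sp →* Module.End K V) : Ops K V where
  z1 := ρ (U 7 2)
  z2 := ρ (U 4 1)
  x := ρ (U 6 2)
  y := ρ (U 5 1)
  s := ρ sG
  t1 := ρ hG
  t2 := ρ (jG * jG)
  j := ρ jG
  n := ρ nG

variable (ρ : Sp →* Module.End K V)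

theorem e_of {a b : Sp} (h : a = b) (v : V) : ρ a v = ρ b v := by rw [h]

theorem e_one {a : Sp} (h : a = 1) (v : V) : ρ a v = v := by rw [h, map_one, Module.End.one_apply]

theorem rels : Rels (ops ρ) := by
  constructor <;> intro v <;> simp only [ops, mul_app] <;>
    (first | with_reducible refine e_of ρ ?_ v | with_reducible refine e_one ρ ?_ v) <;>
    (apply KM4.Rp.eq; repeat' (first | with_reducible apply KM4.Rp.mul | with_reducible exact KM4.ry | with_reducible exact KM4.rs | with_reducible exact KM4.rj | with_reducible exact KM4.rz1 | with_reducible exact KM4.rz2 | with_reducible exact KM4.rx | with_reducible exact KM4.rh | with_reducible exact KM4.rn | with_reducible exact KM4.rone | decide +kernel))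

/-- `Sp₄(3)` is generated by `y`, `s`, `j` -/
theorem gen_ysj (S : Subgroup Sp) (hy : U 5 1 ∈ S) (hs : sG ∈ S) (hj : jG ∈ S) : S = ⊤ := by
  have ex : U 6 2 = jG * U 5 1 * jG⁻¹ := by
    rw [eq_mul_inv_iff_mul_eq]; apply KM4.Rp.eq; repeat' (first | with_reducible apply KM4.Rp.mul | with_reducible exact KM4.ry | with_reducible exact KM4.rs | with_reducible exact KM4.rj | with_reducible exact KM4.rz1 | with_reducible exact KM4.rz2 | with_reducible exact KM4.rx | with_reducible exact KM4.rh | with_reducible exact KM4.rn | with_reducible exact KM4.rone | with_reducible apply KM4.Rp.cube | with_reducible exact KM4.rp_enc _ | decide +kernel)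
  have hx : U 6 2 ∈ S := by rw [ex]; exact S.mul_mem (S.mul_mem hj hy) (S.inv_mem hj)
  have ez : U 7 2 = (U 5 1)⁻¹ * (U 6 2 * U 5 1 * (U 6 2)⁻¹) := by
    rw [eq_inv_mul_iff_mul_eq, eq_mul_inv_iff_mul_eq]; apply KM4.Rp.eq; repeat' (first | with_reducible apply KM4.Rp.mul | with_reducible exact KM4.ry | with_reducible exact KM4.rs | with_reducible exact KM4.rj | with_reducible exact KM4.rz1 | with_reducible exact KM4.rz2 | with_reducible exact KM4.rx | with_reducible exact KM4.rh | with_reducible exact KM4.rn | with_reducible exact KM4.rone | with_reducible apply KM4.Rp.cube | with_reducible exact KM4.rp_enc _ | decide +kernel)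
  have hz : U 7 2 ∈ S := by
    rw [ez]; exact S.mul_mem (S.inv_mem hy) (S.mul_mem (S.mul_mem hx hy) (S.inv_mem hx))
  have en : nG = sG * jG * sG := by apply KM4.Rp.eq; repeat' (first | with_reducible apply KM4.Rp.mul | with_reducible exact KM4.ry | with_reducible exact KM4.rs | with_reducible exact KM4.rj | with_reducible exact KM4.rz1 | with_reducible exact KM4.rz2 | with_reducible exact KM4.rx | with_reducible exact KM4.rh | with_reducible exact KM4.rn | with_reducible exact KM4.rone | with_reducible apply KM4.Rp.cube | with_reducible exact KM4.rp_enc _ | decide +kernel)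
  have hn : nG ∈ S := by rw [en]; exact S.mul_mem (S.mul_mem hs hj) hs
  exact gen S hz hx hy (S.mul_mem (S.mul_mem hn hz) (S.inv_mem hn)) (S.mul_mem (S.mul_mem hn hx) (S.inv_mem hn))
    (S.mul_mem (S.mul_mem hn hy) (S.inv_mem hn))

/-- a subspace invariant under `y`, `s`, `j` is invariant -/
theorem inv_of_ysj [FiniteDimensional K V] (W : Submodule K V) (hy : ∀ v ∈ W, (ops ρ).y v ∈ W)
    (hs : ∀ v ∈ W, (ops ρ).s v ∈ W) (hj : ∀ v ∈ W, (ops ρ).j v ∈ W) (g : Sp) : ∀ v ∈ W, ρ g v ∈ W := by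
  have key : ∀ g : Sp, (∀ v ∈ W, ρ g v ∈ W) → ∀ v ∈ W, ρ g⁻¹ v ∈ W := by
    intro g hg v hv
    have h1 : W.map (ρ g) = W := by
      apply Submodule.eq_of_le_of_finrank_eq
      · rintro _ ⟨w, hw, rfl⟩; exact hg w hw
      · exact (Submodule.equivMapOfInjective (ρ g) (H912.Bd.rho_injective ρ g) _).finrank_eq.symm
    rw [← h1] at hv
    obtain ⟨w, hw, rfl⟩ := hv
    rw [mul_app, inv_mul_cancel, map_one, Module.End.one_apply]
    exact hw
  let S : Subgroup Sp :=
    { carrier := {g | ∀ v ∈ W, ρ g v ∈ W}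
      mul_mem' := by
        intro a b ha hb v hv
        rw [← mul_app]
        exact ha _ (hb v hv)
      one_mem' := by
        intro v hv
        rw [map_one, Module.End.one_apply]; exact hv
      inv_mem' := by
        intro a ha
        exact key a ha }
  have hS := gen_ysj S hy hs hj
  have : g ∈ S := by rw [hS]; exact Subgroup.mem_top g
  exact this

end Cfsg.Agent.H659.Sp4

private theorem dce_1417de44f1dc : _root_.True := by
  try have : _root_.True := by simp only [_root_.Cfsg.Agent.H659.Sp4.ops.eq_1]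
  exact _root_.True.intro
end

-- part: H659/Sp4Stage
section
prune_inst 0x400000000000400000000010000000000080000008000000000000000000000000040000010020808042001200a104040001000000000000000000000000000000000000000000000000000
set_option linter.all false
open scoped Cfsg.Agent.FastGrp

-- part: H659/Sp4Cases
section
/-!
# Irreducible representations of `Sp₄(3)` of degree ≤ 12 in characteristic ≠ 2, 3: the degrees
-/

set_option autoImplicit false
set_option linter.unusedSectionVars false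

namespace Cfsg.Agent.H659.Sp4

open Module Cfsg.Agent.H659.Triple

variable {K : Type*} [Field K] {V : Type*} [AddCommGroup V] [Module K V] {O : Ops K V} {ω : K} (R : Rels O)
  (hω : Om ω) (h2 : (2 : K) ≠ 0) (h3 : (3 : K) ≠ 0) [FiniteDimensional K V] {m0 a b c : ℕ}

theorem Fz1_z2 (R : Rels O) : ∀ v ∈ Fi O.z1, O.z2 v ∈ Fi O.z1 := by
  intro w w1
  rw [mem_Fi] at w1 ⊢
  rw [R.z1z2, w1]

theorem Fz1_j (R : Rels O) : ∀ v ∈ Fi O.z1, O.j v ∈ Fi O.z1 := by
  intro w w1
  rw [mem_Fi] at w1 ⊢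
  rw [R.z1j, w1]

/-- `t2 = -1` on the fixed space of `z1` if no vector of weight ≠ 0 is fixed by `t2` -/
theorem t2_neg_X (R : Rels O) (hω : Om ω) (h3 : (3 : K) ≠ 0) (T : Ty O ω m0 a b c 0) (hI : Irr O)
    (hn : 2 ≤ finrank K V)
    (h : ∀ l : Fin 3, l ≠ 0 → ∀ v ∈ O.W ω 0 l 0, O.t2 v = v → v = 0) : ∀ v ∈ Fi O.z1, O.t2 v = -v := by
  intro v hv
  have hv1 : O.z1 v = v := hv
  have key : v + O.t2 v = 0 := by
    refine Y_zero R hω h3 T hI hn (Fi O.z1 ⊓ Fi O.t2) (fun w hw => hw.1) ?_ ?_ ?_ (Submodule.mem_inf.2 ⟨?_, ?_⟩)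
    · rintro w ⟨(w1 : O.z1 w = w), (w2 : O.t2 w = w)⟩
      exact Submodule.mem_inf.2 ⟨by rw [mem_Fi, R.z1z2, w1], by rw [mem_Fi, ← R.z2t2, w2]⟩
    · rintro w ⟨(w1 : O.z1 w = w), (w2 : O.t2 w = w)⟩
      exact Submodule.mem_inf.2 ⟨by rw [mem_Fi, R.z1j, w1], by rw [mem_Fi, R.t2j, w2]⟩
    · rintro l hl w ⟨(w1 : O.z1 w = w), (w2 : O.t2 w = w)⟩ hw
      exact h l hl w (mem_W_X R hω h3 T w1 hw) w2
    · rw [mem_Fi, map_add, R.z1t2, hv1]
    · rw [mem_Fi, map_add, R.t2t2, add_comm]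
  exact (neg_eq_of_add_eq_zero_right key).symm

/-- `t2 = 1` on the fixed space of `z1` if no vector of weight ≠ 0 is negated by `t2` -/
theorem t2_fix_X (R : Rels O) (hω : Om ω) (h3 : (3 : K) ≠ 0) (T : Ty O ω m0 a b c 0) (hI : Irr O)
    (hn : 2 ≤ finrank K V)
    (h : ∀ l : Fin 3, l ≠ 0 → ∀ v ∈ O.W ω 0 l 0, O.t2 v = -v → v = 0) : ∀ v ∈ Fi O.z1, O.t2 v = v := by
  intro v hv
  have hv1 : O.z1 v = v := hv
  have key : v - O.t2 v = 0 := by
    refine Y_zero R hω h3 T hI hn (Fi O.z1 ⊓ Ei O.t2 (-1)) (fun w hw => hw.1) ?_ ?_ ?_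
      (Submodule.mem_inf.2 ⟨?_, ?_⟩)
    · rintro w ⟨(w1 : O.z1 w = w), (w2 : O.t2 w = (-1 : K) • w)⟩
      exact Submodule.mem_inf.2 ⟨by rw [mem_Fi, R.z1z2, w1], by rw [mem_Ei, ← R.z2t2, w2, map_smul]⟩
    · rintro w ⟨(w1 : O.z1 w = w), (w2 : O.t2 w = (-1 : K) • w)⟩
      exact Submodule.mem_inf.2 ⟨by rw [mem_Fi, R.z1j, w1], by rw [mem_Ei, R.t2j, w2, map_smul]⟩
    · rintro l hl w ⟨(w1 : O.z1 w = w), (w2 : O.t2 w = (-1 : K) • w)⟩ hw
      exact h l hl w (mem_W_X R hω h3 T w1 hw) (by rw [w2, neg_one_smul])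
    · rw [mem_Fi, map_sub, R.z1t2, hv1]
    · rw [mem_Ei, map_sub, R.t2t2, neg_one_smul, neg_sub]
  exact (sub_eq_zero.1 key).symm

/-- the missing weights in the eigenspace for `ω` -/
theorem absent_w (R : Rels O) (hω : Om ω) (h3 : (3 : K) ≠ 0) (T : Ty O ω m0 a b c 0) {l : Fin 3}
    (h : ∀ k, ![m0, a, b, c, 0] (cls 1 l k) = 0) :
    ∀ v, O.z1 v = ω • v → O.t2 v = v → O.z2 v = ω ^ l.val • v → v = 0 := by
  intro v hv _ hl
  exact absent R hω h3 T (i := 1) h (by rw [om_one]; exact hv) hl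

theorem cls_c : ∀ k, cls 1 2 k = 3 ∨ cls 1 2 k = 4 := by decide
theorem cls_a : ∀ k, cls 1 0 k = 1 ∨ cls 1 0 k = 4 := by decide

theorem absent_c (hc : c = 0) : ∀ k, ![m0, a, b, c, 0] (cls 1 2 k) = 0 := by
  intro k
  rcases cls_c k with h | h
  · rw [h]; exact hc
  · rw [h]; rfl

theorem absent_a (ha : a = 0) : ∀ k, ![m0, a, b, c, 0] (cls 1 0 k) = 0 := by
  intro k
  rcases cls_a k with h | h
  · rw [h]; exact ha
  · rw [h]; rfl

/-! ### `-1` acts trivially -/

section plus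

variable (hp : ∀ v, O.t1 (O.t2 v) = v)

theorem t1_eq (R : Rels O) (hp : ∀ v, O.t1 (O.t2 v) = v) (v : V) : O.t1 v = O.t2 v := by
  have := hp (O.t2 v)
  rwa [R.t2t2] at this

/-- `t2 = -1` on `W 0 1 0` -/
theorem t2_neg_W (R : Rels O) (hω : Om ω) (h2 : (2 : K) ≠ 0) (hp : ∀ v, O.t1 (O.t2 v) = v) {l : Fin 3}
    (hl : ∀ v, O.z1 v = ω • v → O.t2 v = v → O.z2 v = ω ^ l.val • v → v = 0) {v : V} (hv : v ∈ O.W ω 0 1 0) :
    O.t2 v = -v := by
  have h1 := W_s R hv
  rw [mem_W, om_one, om_zero] at h1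
  have h1x : O.x (O.s v) = O.s v := h1.2.2
  have h4 := t2_neg R hω h2 hl h1.1 h1x
  rw [R.t2s, t1_eq R hp] at h4
  have h5 := congrArg O.s h4
  rw [R.ss, map_neg, R.ss] at h5
  exact h5

theorem W_sq_010 (hω : Om ω) : O.W (ω ^ 2) 0 1 0 = O.W ω 0 2 0 := W_sq hω 0 1 0

theorem casePlusZero (R : Rels O) (hω : Om ω) (h2 : (2 : K) ≠ 0) (h3 : (3 : K) ≠ 0) (T : Ty O ω m0 a b 0 0)
    (hI : Irr O) (hn : 2 ≤ finrank K V) (hn' : finrank K V ≤ 12) (hp : ∀ v, O.t1 (O.t2 v) = v) :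
    finrank K V = 5 ∨ finrank K V = 10 := by
  have hl := absent_w R hω h3 T (l := 2) (absent_c rfl)
  have T' := T.sq hω
  have hl' := absent_w R hω.sq h3 T' (l := 2) (absent_c rfl)
  have tX := t2_neg_X R hω h3 T hI hn (by
    intro l hl0 v hv ht
    have ht' : O.t2 v = -v := by
      fin_cases l
      · exact absurd rfl hl0
      · exact t2_neg_W R hω h2 hp hl hv
      · exact t2_neg_W R hω.sq h2 hp hl' (by rw [W_sq_010 hω]; exact hv)
    exact eq_zero_of_neg h2 (ht.symm.trans ht'))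
  have hX := finrank_X R hω h3 T
  have ev := even_of R h2 (Fi O.z1) (Fz1_j R) (Fz1_z2 R) tX
  have d0 : finrank K (O.W ω 0 0 0) = m0 := T.dim 0 0 0
  have d1 : finrank K (O.W ω 0 1 0) = a := T.dim 0 1 0
  have d2 : finrank K (O.W ω 0 2 0) = b := T.dim 0 2 0
  have q0 := two_mul_le R hω h2 (Fi O.z1) (O.W ω 0 0 0) (Fz1_j R) tX (W_le_X 0 0) (l := 0) (fun v hv => (mem_W.1 hv).2.1)
  have q1 := two_mul_le R hω h2 (Fi O.z1) (O.W ω 0 1 0) (Fz1_j R) tX (W_le_X 1 0) (l := 1) (fun v hv => (mem_W.1 hv).2.1)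
  have q2 := two_mul_le R hω h2 (Fi O.z1) (O.W ω 0 2 0) (Fz1_j R) tX (W_le_X 2 0) (l := 2) (fun v hv => (mem_W.1 hv).2.1)
  have ht := T.tot
  obtain ⟨r, hr⟩ := ev
  rw [hX] at hr q0 q1 q2
  rw [d0] at q0
  rw [d1] at q1
  rw [d2] at q2
  by_contra hcon
  have hab : m0 = 0 ∧ a = 1 ∧ b = 1 := by
    have ha3 : a ≤ 3 := by (clear * - hn' d2 ht; omega)
    have hb3 : b ≤ 3 := by (clear * - hn' ht; omega)
    clear d0 d1 d2 tX hl hl' T'
    interval_cases a <;> interval_cases b <;> omega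
  obtain ⟨hm0, ha, hb⟩ := hab
  have hX2 : finrank K (Fi O.z1) = 2 := by (clear * - hn hn' hX ht hr hm0; omega)
  -- the projections of `n u`
  have key : ∀ (ω' : K) (hω' : Om ω') (T' : Ty O ω' 0 1 1 0 0), ∀ u ∈ Fi O.z1, pr ω' O.z1 1 (O.n u) = 0 := by
    intro ω' hω' T'
    have fz : ∀ v, pr ω' O.z1 1 (O.n (O.z2 v)) = O.z2 (pr ω' O.z1 1 (O.n v)) := by
      intro v
      unfold pr
      rw [R.nz2]
      simp only [map_add, map_smul, R.z1z2]
    have fj : ∀ v, pr ω' O.z1 1 (O.n (O.j v)) = O.j (pr ω' O.z1 1 (O.n v)) := by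
      intro v
      unfold pr
      rw [R.nj]
      simp only [map_add, map_smul, R.z1j]
    have fadd : ∀ v w, pr ω' O.z1 1 (O.n (v + w)) = pr ω' O.z1 1 (O.n v) + pr ω' O.z1 1 (O.n w) := by
      intro v w
      unfold pr
      simp only [map_add, smul_add]
      abel
    have fsmul : ∀ (r : K) v, pr ω' O.z1 1 (O.n (r • v)) = r • pr ω' O.z1 1 (O.n v) := by
      intro r v
      unfold pr
      simp only [map_smul, smul_add]
      rw [smul_comm r, smul_comm r]
    let Y : Submodule K V :=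
      { carrier := {u | O.z1 u = u ∧ pr ω' O.z1 1 (O.n u) = 0}
        add_mem' := by
          rintro u w ⟨u1, u2⟩ ⟨w1, w2⟩
          exact ⟨by rw [map_add, u1, w1], by rw [fadd, u2, w2, add_zero]⟩
        zero_mem' := ⟨map_zero _, by unfold pr; simp⟩
        smul_mem' := by
          rintro r u ⟨u1, u2⟩
          exact ⟨by rw [map_smul, u1], by rw [fsmul, u2, smul_zero]⟩ }
    have hYX : Y ≤ Fi O.z1 := fun u hu => hu.1
    have hYj : ∀ v ∈ Y, O.j v ∈ Y := by
      rintro v ⟨v1, v2⟩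
      exact ⟨by rw [R.z1j, v1], by rw [fj, v2, map_zero]⟩
    have hWY : O.W ω' 0 2 0 ≤ Y := by
      intro v hv
      refine ⟨W_le_X 2 0 hv, ?_⟩
      refine absent R hω' h3 T' (i := 1) (l := 2) (absent_c rfl) (pr_eig hω' R.z1z1z1 1 _) ?_
      rw [← fz, (mem_W.1 hv).2.1, fsmul]
    have hd : finrank K (O.W ω' 0 2 0) = 1 := T'.dim 0 2 0
    have q := two_mul_le R hω' h2 Y (O.W ω' 0 2 0) hYj (fun v hv => tX v (hYX hv)) hWY (l := 2)
      (fun v hv => (mem_W.1 hv).2.1)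
    rw [hd] at q
    have hYeq : Y = Fi O.z1 := Submodule.eq_of_le_of_finrank_le hYX (by omega)
    intro u hu
    rw [← hYeq] at hu
    exact hu.2
  have T1 : Ty O ω 0 1 1 0 0 := by subst ha; subst hb; subst hm0; exact T
  have k1 := key ω hω T1
  have k2 := key (ω ^ 2) hω.sq (T1.sq hω)
  have nX : ∀ u ∈ Fi O.z1, O.z1 (O.n u) = O.n u := by
    intro u hu
    have e := pr_sum hω O.z1 (O.n u)
    have e2 : pr ω O.z1 2 (O.n u) = pr (ω ^ 2) O.z1 1 (O.n u) := by
      unfold pr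
      change _ + ω ^ 4 • _ + ω ^ 2 • _ = _ + (ω ^ 2) ^ 2 • _ + (ω ^ 2) ^ 1 • _
      rw [← pow_mul, pow_one]
    rw [k1 u hu, e2, k2 u hu, add_zero, add_zero] at e
    have e3 := pr_eig hω R.z1z1z1 0 (O.n u)
    rw [om_zero, e, map_smul] at e3
    have e4 : (3 : K) • (O.z1 (O.n u) - O.n u) = 0 := by rw [smul_sub, e3, sub_self]
    exact sub_eq_zero.1 ((smul_eq_zero.1 e4).resolve_left h3)
  obtain ⟨u, hu, hu0⟩ : ∃ u ∈ Fi O.z1, u ≠ 0 := by
    apply Submodule.exists_mem_ne_zero_of_ne_bot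
    intro hb
    rw [hb, finrank_bot] at hX2
    exact absurd hX2 (by norm_num)
  have hu1 : O.z1 u = u := hu
  have e := R.nz3 u
  have f1 : O.z1 (O.n u) = O.n u := nX u hu
  have f2 : O.z1 (O.n (O.n u)) = O.n (O.n u) := nX _ f1
  rw [hu1, f1, f2, R.nn (O.n u), t1_eq R hp, t1_eq R hp, tX u hu, tX (O.n u) f1] at e
  have e5 : O.n u = u := neg_injective e
  have e6 := R.nn u
  rw [e5, e5, t1_eq R hp, tX u hu] at e6
  exact hu0 (eq_zero_of_neg h2 e6)

/-- all weights in the class of `(1, 1, 0)` -/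
theorem m0_zero_of (R : Rels O) (hω : Om ω) (h3 : (3 : K) ≠ 0) (T : Ty O ω m0 0 0 c 0) (hI : Irr O)
    (hn : 2 ≤ finrank K V) : m0 = 0 := by
  have hX := finrank_X R hω h3 T
  have hb : Fi O.z1 = ⊥ := by
    rw [eq_bot_iff]
    intro v hv
    rw [Submodule.mem_bot]
    refine Y_zero R hω h3 T hI hn (Fi O.z1) (fun w hw => hw) (Fz1_z2 R) (Fz1_j R) ?_ hv
    intro l hl w hw hlw
    refine T.eq_zero ?_ (mem_W_X R hω h3 T hw hlw)
    fin_cases l
    · exact absurd rfl hl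
    · rfl
    · rfl
  rw [hb, finrank_bot] at hX
  omega

theorem Om.sq_sq' (hω : Om ω) : Om ((ω ^ 2) ^ 2) := by rw [hω.sq_sq]; exact hω

/-- hypotheses of `close6` -/
theorem hyp6 (R : Rels O) (hω : Om ω) (h3 : (3 : K) ≠ 0) (T : Ty O ω m0 0 0 c 0) :
    (∀ v, O.z1 v = ω • v → O.t2 v = v → O.z2 v = ω ^ (0 : Fin 3).val • v → v = 0) ∧
    (∀ v, O.z1 v = ω ^ 2 • v → O.t2 v = v → O.z2 v = (ω ^ 2) ^ (0 : Fin 3).val • v → v = 0) :=
  ⟨absent_w R hω h3 T (l := 0) (absent_a rfl), absent_w R hω.sq h3 (T.sq hω) (l := 0) (absent_a rfl)⟩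

theorem casePlusSix (R : Rels O) (hω : Om ω) (h2 : (2 : K) ≠ 0) (h3 : (3 : K) ≠ 0) (T : Ty O ω m0 0 0 c 0)
    (hc : c ≠ 0) (hI : Irr O) (hn : 2 ≤ finrank K V) (hp : ∀ v, O.t1 (O.t2 v) = v) :
    finrank K V = 6 ∧ m0 = 0 ∧ c = 1 := by
  have hm0 := m0_zero_of R hω h3 T hI hn
  obtain ⟨v, hv, hv0⟩ := T.exists_ne (i := 1) (j := 1) (k := 0) (by change c ≠ 0; exact hc)
  have h := finrank_le_of_irr hI hv0 (close6 R hω hω.sq h2 hp (hyp6 R hω h3 T).1 (hyp6 R hω h3 T).2 hv)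
  have ht := T.tot
  omega

set_option maxHeartbeats 1000000 in
/-- the type `(m0; 1, 0; c)`, `c ≥ 1`, has `m0 = 0` -/
theorem m0_zero_of' (R : Rels O) (hω : Om ω) (h2 : (2 : K) ≠ 0) (h3 : (3 : K) ≠ 0) (T : Ty O ω m0 1 0 c 0)
    (hc : c ≠ 0) (hI : Irr O) (hn : 2 ≤ finrank K V) (hp : ∀ v, O.t1 (O.t2 v) = v) : m0 = 0 := by
  have W2 : ∀ v ∈ O.W ω 0 2 0, v = 0 := fun v hv => T.eq_zero (i := 0) (j := 2) (k := 0) rfl hv
  have d1 : finrank K (O.W ω 0 1 0) = 1 := T.dim 0 1 0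
  -- `t2` on `W 0 1 0`
  obtain ⟨⟨v1, hv1⟩, hv10, hv1s⟩ := finrank_eq_one_iff'.1 d1
  have hgen : ∀ w ∈ O.W ω 0 1 0, ∃ r : K, w = r • v1 := by
    intro w hw
    obtain ⟨r, hr⟩ := hv1s ⟨w, hw⟩
    exact ⟨r, (congrArg Subtype.val hr).symm⟩
  have hv1n : v1 ≠ 0 := fun h => hv10 (Subtype.ext h)
  obtain ⟨r, hr⟩ := hgen _ (show O.t2 v1 ∈ O.W ω 0 1 0 from W_t2' R hω hv1)
  have hr2 : r * r = 1 := by
    have e := R.t2t2 v1
    rw [hr, map_smul, hr, smul_smul] at e
    have e2 : (r * r - 1) • v1 = 0 := by rw [sub_smul, e, one_smul, sub_self]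
    exact sub_eq_zero.1 ((smul_eq_zero.1 e2).resolve_right hv1n)
  have hr3 : (r - 1) * (r + 1) = 0 := by linear_combination hr2
  rcases mul_eq_zero.1 hr3 with hr4 | hr4
  · -- `t2 = 1` on `W 0 1 0`
    have hr5 : r = 1 := sub_eq_zero.1 hr4
    have tX := t2_fix_X R hω h3 T hI hn (by
      intro l hl0 v hv ht
      fin_cases l
      · exact absurd rfl hl0
      · obtain ⟨q, rfl⟩ := hgen v hv
        rw [map_smul, hr, hr5, one_smul] at ht
        exact eq_zero_of_neg h2 ht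
      · exact W2 v hv)
    have jX := j_fix R hω h2 (Fi O.z1) (Fz1_z2 R) (Fz1_j R) tX 2 (by
      intro v hv hv2
      exact W2 v (mem_W_X R hω h3 T hv hv2))
    have d0 : finrank K (O.W ω 0 0 0) = m0 := T.dim 0 0 0
    rw [← d0, Submodule.finrank_eq_zero, eq_bot_iff]
    intro v hv
    rw [Submodule.mem_bot]
    have hvX := W_le_X (O := O) 0 0 hv
    have hvz := (mem_W.1 hv).2.1
    rw [om_zero] at hvz
    exact no_fix R hω h3 T hI hn hvX hvz (jX v hvX)
  · -- `t2 = -1` on `W 0 1 0`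
    have hr5 : r = -1 := by linear_combination hr4
    have tX := t2_neg_X R hω h3 T hI hn (by
      intro l hl0 v hv ht
      fin_cases l
      · exact absurd rfl hl0
      · obtain ⟨q, rfl⟩ := hgen v hv
        rw [map_smul, hr, hr5, neg_one_smul, smul_neg] at ht
        exact eq_zero_of_neg h2 ht.symm
      · exact W2 v hv)
    have t100 : ∀ v ∈ O.W ω 1 0 0, O.t2 v = -v := by
      intro v hv
      have h1 : O.s v ∈ O.W ω 0 1 0 := W_s R hv
      have h4 := tX _ (W_le_X 1 0 h1)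
      rw [R.t2s, t1_eq R hp] at h4
      have h5 := congrArg O.s h4
      rw [R.ss, map_neg, R.ss] at h5
      exact h5
    -- vectors with eigenvalues `ω`, `1`
    have hw10 : ∀ v, O.z1 v = ω • v → O.z2 v = ω ^ (0 : Fin 3).val • v → v ∈ O.W ω 1 0 0 := by
      intro v hv1 hv2
      refine decomp hω h3 (T := O.x) R.xxx (Ei O.z1 ω ⊓ Ei O.z2 (ω ^ (0 : Fin 3).val)) (O.W ω 1 0 0) ?_ ?_
        (v := v) ⟨hv1, hv2⟩
      · rintro u ⟨(u1 : O.z1 u = ω • u), (u2 : O.z2 u = ω ^ (0 : Fin 3).val • u)⟩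
        exact Submodule.mem_inf.2 ⟨by rw [mem_Ei, R.z1x, u1, map_smul], by rw [mem_Ei, R.z2x, u2, map_smul]⟩
      · rintro k u ⟨(u1 : O.z1 u = ω • u), (u2 : O.z2 u = ω ^ (0 : Fin 3).val • u)⟩ hk
        have hm : u ∈ O.W ω 1 0 k := mem_W.2 ⟨by rw [om_one]; exact u1, u2, hk⟩
        by_cases hk0 : k = 0
        · rw [hk0] at hm; exact hm
        · have : u = 0 := T.eq_zero (by
            have : ∀ k : Fin 3, k ≠ 0 → cls 1 0 k = 4 := by decide
            rw [this k hk0]; rfl) hm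
          rw [this]; exact Submodule.zero_mem _
    have hl0 : ∀ v, O.z1 v = ω • v → O.t2 v = v → O.z2 v = ω ^ (0 : Fin 3).val • v → v = 0 := by
      intro v hv1 ht hv2
      exact eq_zero_of_neg h2 (ht.symm.trans (t100 v (hw10 v hv1 hv2)))
    -- the invariant subspace
    set W := O.W ω 0 0 0 ⊔ O.W ω 0 1 0 ⊔ O.W ω 1 0 0 ⊔ O.W ω 1 1 1 ⊔ O.W ω 1 1 2 with hW
    have i0 : O.W ω 0 0 0 ≤ W := by
      rw [hW]; exact le_sup_left.trans (le_sup_left.trans (le_sup_left.trans le_sup_left))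
    have i1 : O.W ω 0 1 0 ≤ W := by
      rw [hW]; exact le_sup_right.trans (le_sup_left.trans (le_sup_left.trans le_sup_left))
    have i2 : O.W ω 1 0 0 ≤ W := by rw [hW]; exact le_sup_right.trans (le_sup_left.trans le_sup_left)
    have i3 : O.W ω 1 1 1 ≤ W := by rw [hW]; exact le_sup_right.trans le_sup_left
    have i4 : O.W ω 1 1 2 ≤ W := by rw [hW]; exact le_sup_right
    have key : ∀ T : Module.End K V, (∀ v ∈ O.W ω 0 0 0, T v ∈ W) → (∀ v ∈ O.W ω 0 1 0, T v ∈ W) →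
        (∀ v ∈ O.W ω 1 0 0, T v ∈ W) → (∀ v ∈ O.W ω 1 1 1, T v ∈ W) → (∀ v ∈ O.W ω 1 1 2, T v ∈ W) →
        ∀ v ∈ W, T v ∈ W := by
      intro T k0 k1 k2 k3 k4
      have : W ≤ W.comap T := by
        conv_lhs => rw [hW]
        exact sup_le (sup_le (sup_le (sup_le k0 k1) k2) k3) k4
      exact this
    have y100 : ∀ v ∈ O.W ω 1 0 0, O.y v ∈ O.W ω 1 1 1 := fun v hv => W_y' R hω hv (by decide) (by decide)
    have y111 : ∀ v ∈ O.W ω 1 1 1, O.y v ∈ O.W ω 1 1 2 := fun v hv => W_y' R hω hv (by decide) (by decide)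
    have y112 : ∀ v ∈ O.W ω 1 1 2, O.y v ∈ O.W ω 1 0 0 := fun v hv => W_y' R hω hv (by decide) (by decide)
    have hj100 : ∀ v ∈ O.W ω 1 0 0, O.j v ∈ W ∧ O.j (O.y v) ∈ W ∧ O.j (O.y (O.y v)) ∈ W := by
      intro v hv
      have hv' := hv
      rw [mem_W, om_one, om_zero] at hv'
      have hx : O.x v = v := hv'.2.2
      exact jR R hω hv'.1 hx (ju_fix R hω h2 hl0 hv'.1 hx) (i2 hv) (i3 (y100 v hv)) (i4 (y111 _ (y100 v hv)))
    have hjX : ∀ v ∈ Fi O.z1, O.j v ∈ W := by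
      intro v hv
      have h1 := X_le R hω h3 T (Fz1_j R v hv)
      have h4 : O.W ω 0 2 0 ≤ W := by
        intro u hu
        rw [W2 u hu]; exact Submodule.zero_mem _
      exact (sup_le (sup_le i0 i1) h4) h1
    have hirr := hI W
      (key O.y
        (fun v hv => by rw [y_fix R hω h3 T (W_le_X 0 0 hv)]; exact i0 hv)
        (fun v hv => by rw [y_fix R hω h3 T (W_le_X 1 0 hv)]; exact i1 hv)
        (fun v hv => i3 (y100 v hv)) (fun v hv => i4 (y111 v hv)) (fun v hv => i2 (y112 v hv)))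
      (key O.s (fun v hv => i0 (W_s R hv)) (fun v hv => i2 (W_s R hv)) (fun v hv => i1 (W_s R hv))
        (fun v hv => i3 (W_s R hv)) (fun v hv => i4 (W_s R hv)))
      (key O.j (fun v hv => hjX v (W_le_X 0 0 hv)) (fun v hv => hjX v (W_le_X 1 0 hv)) (fun v hv => (hj100 v hv).1)
        (fun v hv => by
          have := (hj100 _ (y112 _ (y111 v hv))).2.1
          rwa [R.yyy] at this)
        (fun v hv => by
          have := (hj100 _ (y112 v hv)).2.2
          rwa [R.yyy] at this))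
    have d0 : finrank K (O.W ω 0 0 0) = m0 := T.dim 0 0 0
    have d2 : finrank K (O.W ω 1 0 0) = 1 := T.dim 1 0 0
    have d3 : finrank K (O.W ω 1 1 1) = 1 := T.dim 1 1 1
    have d4 : finrank K (O.W ω 1 1 2) = 1 := T.dim 1 1 2
    have f1 := Submodule.finrank_add_le_finrank_add_finrank (O.W ω 0 0 0) (O.W ω 0 1 0)
    have f2 := Submodule.finrank_add_le_finrank_add_finrank (O.W ω 0 0 0 ⊔ O.W ω 0 1 0) (O.W ω 1 0 0)
    have f3 := Submodule.finrank_add_le_finrank_add_finrank (O.W ω 0 0 0 ⊔ O.W ω 0 1 0 ⊔ O.W ω 1 0 0) (O.W ω 1 1 1)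
    have f4 := Submodule.finrank_add_le_finrank_add_finrank
      (O.W ω 0 0 0 ⊔ O.W ω 0 1 0 ⊔ O.W ω 1 0 0 ⊔ O.W ω 1 1 1) (O.W ω 1 1 2)
    rw [← hW] at f4
    have ht := T.tot
    rcases hirr with h | h
    · have h4 : v1 ∈ W := i1 hv1
      rw [h] at h4
      exact absurd ((Submodule.mem_bot K).1 h4) hv1n
    · rw [h, finrank_top] at f4
      omega

end plus

/-! ### `-1` acts as `-1` -/

section minus

set_option maxHeartbeats 1000000 in
theorem caseMinus (R : Rels O) (hω : Om ω) (h2 : (2 : K) ≠ 0) (h3 : (3 : K) ≠ 0) (T : Ty O ω m0 a b c 0)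
    (hI : Irr O) (hn : 2 ≤ finrank K V) (hn' : finrank K V ≤ 12) (hm : ∀ v, O.t1 (O.t2 v) = -v) :
    finrank K V = 4 := by
  have hm0 : m0 = 0 := by
    have d0 : finrank K (O.W ω 0 0 0) = m0 := T.dim 0 0 0
    rw [← d0, Submodule.finrank_eq_zero, eq_bot_iff]
    intro v hv
    rw [Submodule.mem_bot]
    have h1 := y_fix R hω h3 T (W_le_X 0 0 hv)
    have h4 := y_fix R hω h3 T (W_le_X 0 0 (W_s R hv))
    have e := R.ysys v
    rw [h4, R.ss, h1, h4, R.ss, h1, hm] at e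
    exact eq_zero_of_neg h2 e
  have hc : c = 0 := by
    by_contra hc
    have ht := T.tot
    rcases (by omega : c = 1 ∨ (c = 2 ∧ a = 0 ∧ b = 0)) with hc1 | ⟨hc2, ha, hb⟩
    · have d : finrank K (O.W ω 1 1 0) = 1 := (T.dim 1 1 0).trans hc1
      obtain ⟨⟨v1, hv1⟩, hv10, hv1s⟩ := finrank_eq_one_iff'.1 d
      have hgen : ∀ w ∈ O.W ω 1 1 0, ∃ r : K, w = r • v1 := by
        intro w hw
        obtain ⟨r, hr⟩ := hv1s ⟨w, hw⟩
        exact ⟨r, (congrArg Subtype.val hr).symm⟩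
      have hv1n : v1 ≠ 0 := fun h => hv10 (Subtype.ext h)
      obtain ⟨r, hr⟩ := hgen _ (show O.t2 v1 ∈ O.W ω 1 1 0 from W_t2' R hω hv1)
      obtain ⟨q, hq⟩ := hgen _ (show O.s v1 ∈ O.W ω 1 1 0 from W_s R hv1)
      have hq0 : q ≠ 0 := by
        rintro rfl
        rw [zero_smul] at hq
        exact hv1n (s_inj R hq)
      have hr2 : r * r = 1 := by
        have e := R.t2t2 v1
        rw [hr, map_smul, hr, smul_smul] at e
        have e2 : (r * r - 1) • v1 = 0 := by rw [sub_smul, e, one_smul, sub_self]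
        exact sub_eq_zero.1 ((smul_eq_zero.1 e2).resolve_right hv1n)
      have e1 := R.t1s v1
      rw [hq, hr, map_smul, map_smul, hq, smul_comm] at e1
      have e2 : q • (O.t1 v1 - r • v1) = 0 := by
        rw [smul_sub, e1, smul_comm, sub_self]
      have e3 : O.t1 v1 = r • v1 := sub_eq_zero.1 ((smul_eq_zero.1 e2).resolve_left hq0)
      have e4 := hm v1
      rw [hr, map_smul, e3, smul_smul, hr2, one_smul] at e4
      exact hv1n (eq_zero_of_neg h2 e4)
    · subst ha hb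
      obtain ⟨v, hv, hv0⟩ := T.exists_ne (i := 1) (j := 1) (k := 0) (by change c ≠ 0; exact hc)
      have hl := absent_w R hω h3 T (l := 0) (absent_a rfl)
      have tN : ∀ v ∈ O.W ω 1 1 0, O.t2 v = -v := by
        intro v hv
        rw [mem_W, om_one, om_zero] at hv
        exact t2_neg R hω h2 hl hv.1 hv.2.2
      have e1 := tN _ (W_s R hv)
      rw [R.t2s] at e1
      have e2 := congrArg O.s e1
      rw [R.ss, map_neg, R.ss] at e2
      have e3 := hm v
      rw [tN v hv, map_neg, e2, neg_neg] at e3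
      exact hv0 (eq_zero_of_neg h2 e3)
  subst hc hm0
  have key : ∀ (ω' : K) (hω' : Om ω') (a b : ℕ) (T' : Ty O ω' 0 a b 0 0), ∀ v ∈ O.W ω' 0 1 0, O.t2 v = v := by
    intro ω' hω' a b T' v hv
    have hl := absent_w R hω' h3 T' (l := 2) (absent_c rfl)
    have h1 := W_s R hv
    rw [mem_W, om_one, om_zero] at h1
    have h1x : O.x (O.s v) = O.s v := h1.2.2
    have h4 := t2_neg R hω' h2 hl h1.1 h1x
    rw [R.t2s] at h4
    have h5 := congrArg O.s h4
    rw [R.ss, map_neg, R.ss] at h5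
    have h6 := hm v
    rw [R.t1t2, h5, map_neg] at h6
    exact neg_injective h6
  have W0 : ∀ v ∈ O.W ω 0 0 0, v = 0 := fun v hv => T.eq_zero (i := 0) (j := 0) (k := 0) rfl hv
  have tX : ∀ v ∈ Fi O.z1, O.t2 v = v := by
    have : Fi O.z1 ≤ Fi O.t2 := by
      refine (X_le R hω h3 T).trans (sup_le (sup_le ?_ ?_) ?_)
      · intro v hv
        rw [W0 v hv]; exact Submodule.zero_mem _
      · intro v hv; exact key ω hω a b T v hv
      · intro v hv
        exact key (ω ^ 2) hω.sq b a (T.sq hω) v (by rw [W_sq_010 hω]; exact hv)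
    exact this
  have jX := j_fix R hω h2 (Fi O.z1) (Fz1_z2 R) (Fz1_j R) tX 0 (by
    intro v hv hv2
    exact W0 v (mem_W_X R hω h3 T hv hv2))
  have fin : ∀ (ω' : K) (hω' : Om ω') (a b : ℕ) (T' : Ty O ω' 0 a b 0 0), a ≠ 0 → finrank K V = 4 := by
    intro ω' hω' a b T' ha
    obtain ⟨v, hv, hv0⟩ := T'.exists_ne (i := 0) (j := 1) (k := 0) (by change a ≠ 0; exact ha)
    have hl := absent_w R hω' h3 T' (l := 2) (absent_c rfl)
    have hX : v ∈ Fi O.z1 := W_le_X 1 0 hv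
    have h := finrank_le_of_irr hI hv0 (close4 R hω' h2 hm hl hv (y_fix R hω' h3 T' hX) (jX v hX))
    have ht := T'.tot
    omega
  by_cases ha : a = 0
  · refine fin (ω ^ 2) hω.sq b a (T.sq hω) ?_
    rintro rfl
    have ht := T.tot
    omega
  · exact fin ω hω a b T ha

end minus

/-- **The degrees.** -/
theorem degrees [IsAlgClosed K] (R : Rels O) (h2 : (2 : K) ≠ 0) (h3 : (3 : K) ≠ 0) (hI : Irr O)
    (hn : 2 ≤ finrank K V) (hn' : finrank K V ≤ 12) :
    ((∀ v, O.t1 (O.t2 v) = -v) → finrank K V = 4) ∧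
    ((∀ v, O.t1 (O.t2 v) = v) → finrank K V = 5 ∨ finrank K V = 10 ∨
      (finrank K V = 6 ∧ ∀ ω : K, Om ω → Ty O ω 0 0 0 1 0)) := by
  obtain ⟨ω₀, e1, e2, e3⟩ := exists_omega h3
  have hω₀ : Om ω₀ := ⟨e1, e2, e3⟩
  refine ⟨fun hm => ?_, fun hp => ?_⟩
  · obtain ⟨m0, a, b, c, d, T⟩ := exists_ty R hω₀ h3
    have hd := d_zero R hω₀ h3 T hn'
    subst hd
    exact caseMinus R hω₀ h2 h3 T hI hn hn' hm
  · have key : ∀ ω : K, Om ω → finrank K V = 5 ∨ finrank K V = 10 ∨ (finrank K V = 6 ∧ Ty O ω 0 0 0 1 0) := by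
      intro ω hω
      obtain ⟨m0, a, b, c, d, T⟩ := exists_ty R hω h3
      have hd := d_zero R hω h3 T hn'
      subst hd
      have ht := T.tot
      by_cases hc : c = 0
      · subst hc
        rcases casePlusZero R hω h2 h3 T hI hn hn' hp with h | h
        · exact Or.inl h
        · exact Or.inr (Or.inl h)
      · rcases (by omega : (a = 0 ∧ b = 0) ∨ (a = 1 ∧ b = 0) ∨ (a = 0 ∧ b = 1)) with ⟨ha, hb⟩ | ⟨ha, hb⟩ | ⟨ha, hb⟩
        · subst ha hb
          obtain ⟨h1, h4, h5⟩ := casePlusSix R hω h2 h3 T hc hI hn hp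
          subst h4 h5
          exact Or.inr (Or.inr ⟨h1, T⟩)
        · subst ha hb
          have := m0_zero_of' R hω h2 h3 T hc hI hn hp
          omega
        · subst ha hb
          have := m0_zero_of' R hω.sq h2 h3 (T.sq hω) hc hI hn hp
          omega
    rcases key ω₀ hω₀ with h | h | h
    · exact Or.inl h
    · exact Or.inr (Or.inl h)
    · refine Or.inr (Or.inr ⟨h.1, fun ω hω => ?_⟩)
      rcases key ω hω with h' | h' | h'
      · omega
      · omega
      · exact h'.2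

end Cfsg.Agent.H659.Sp4
end

-- part: H659/Sp4Six
section
/-!
# Two six-dimensional irreducible representations of `Sp₄(3)` with trivial centre are isomorphic
-/

set_option autoImplicit false

namespace Cfsg.Agent.H659.Sp4

open Module SevenU42 Ac

variable {K : Type*} [Field K] {V₁ V₂ : Type*} [AddCommGroup V₁] [Module K V₁] [AddCommGroup V₂] [Module K V₂]
  (ρ₁ : Sp →* Module.End K V₁) (ρ₂ : Sp →* Module.End K V₂)

theorem irr_of [FiniteDimensional K V₁] (h : ∀ L : Submodule K V₁, (∀ g, ∀ v ∈ L, ρ₁ g v ∈ L) → L = ⊥ ∨ L = ⊤) :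
    Irr (ops ρ₁) := fun W hy hs hj => h W (inv_of_ysj ρ₁ W hy hs hj)

/-- `-1` -/
def negG : Sp := hG * (jG * jG)

theorem negG_val : negG.1 = -1 := by decide +kernel

theorem negG_sq : negG * negG = 1 := Subtype.ext (by decide +kernel)

theorem t1t2_eq (v : V₁) : (ops ρ₁).t1 ((ops ρ₁).t2 v) = ρ₁ negG v := by
  simp only [ops, mul_app, negG]

theorem iso_of_six [FiniteDimensional K V₁] [FiniteDimensional K V₂] (h2 : (2 : K) ≠ 0) (h3 : (3 : K) ≠ 0)
    (h₁ : ∀ L : Submodule K V₁, (∀ g, ∀ v ∈ L, ρ₁ g v ∈ L) → L = ⊥ ∨ L = ⊤)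
    (h₂ : ∀ L : Submodule K V₂, (∀ g, ∀ v ∈ L, ρ₂ g v ∈ L) → L = ⊥ ∨ L = ⊤)
    (hp₁ : ∀ v, ρ₁ negG v = v) (hp₂ : ∀ v, ρ₂ negG v = v) {ω : K} (hω : Om ω)
    (T₁ : Ty (ops ρ₁) ω 0 0 0 1 0) (T₂ : Ty (ops ρ₂) ω 0 0 0 1 0) :
    ∃ e : V₁ ≃ₗ[K] V₂, ∀ g w, e (ρ₁ g w) = ρ₂ g (e w) := by
  have R₁ := rels ρ₁
  have R₂ := rels ρ₂
  obtain ⟨v₁, hv₁, hv₁0⟩ := T₁.exists_ne (i := 1) (j := 1) (k := 0) (by change 1 ≠ 0; exact one_ne_zero)
  obtain ⟨v₂, hv₂, hv₂0⟩ := T₂.exists_ne (i := 1) (j := 1) (k := 0) (by change 1 ≠ 0; exact one_ne_zero)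
  have a₁ := hyp6 R₁ hω h3 T₁
  have a₂ := hyp6 R₂ hω h3 T₂
  rw [mem_W] at hv₁ hv₂
  have hW : (v₁, v₂) ∈ (ops (prodRep ρ₁ ρ₂)).W ω 1 1 0 := by
    rw [mem_W]
    exact ⟨Prod.ext hv₁.1 hv₂.1, Prod.ext hv₁.2.1 hv₂.2.1, Prod.ext hv₁.2.2 hv₂.2.2⟩
  obtain ⟨W, hvW, hW6, hy, hs, hj⟩ := close6 (rels (prodRep ρ₁ ρ₂)) hω hω.sq h2
    (fun v => by
      rw [t1t2_eq]
      exact Prod.ext (hp₁ _) (hp₂ _))
    (fun v b1 b2 b3 => Prod.ext
      (a₁.1 v.1 (congrArg Prod.fst b1) (congrArg Prod.fst b2) (congrArg Prod.fst b3))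
      (a₂.1 v.2 (congrArg Prod.snd b1) (congrArg Prod.snd b2) (congrArg Prod.snd b3)))
    (fun v b1 b2 b3 => Prod.ext
      (a₁.2 v.1 (congrArg Prod.fst b1) (congrArg Prod.fst b2) (congrArg Prod.fst b3))
      (a₂.2 v.2 (congrArg Prod.snd b1) (congrArg Prod.snd b2) (congrArg Prod.snd b3))) hW
  have e₁ : finrank K V₁ = 6 := T₁.tot
  have e₂ : finrank K V₂ = 6 := T₂.tot
  exact exists_iso ρ₁ ρ₂ h₁ h₂ e₁ e₂ W (inv_of_ysj _ W hy hs hj) hW6 hvW hv₁0 hv₂0

/-- the centre acts by a sign -/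
theorem neg_sign [FiniteDimensional K V₁] (h₁ : ∀ L : Submodule K V₁, (∀ g, ∀ v ∈ L, ρ₁ g v ∈ L) → L = ⊥ ∨ L = ⊤) :
    (∀ v, ρ₁ negG v = v) ∨ (∀ v, ρ₁ negG v = -v) := by
  have hc : ∀ g : Sp, g * negG = negG * g := by
    intro g
    apply Subtype.ext
    change g.1 * negG.1 = negG.1 * g.1
    rw [negG_val, mul_neg, neg_mul, mul_one, one_mul]
  have hinv : ∀ v, ρ₁ negG (ρ₁ negG v) = v := by
    intro v
    rw [mul_app, negG_sq, map_one, Module.End.one_apply]
  rcases h₁ (Fi (ρ₁ negG)) (by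
    intro g v hv
    rw [mem_Fi] at hv ⊢
    rw [mul_app, ← hc, ← mul_app, hv]) with h | h
  · right
    intro v
    have h4 : v + ρ₁ negG v ∈ Fi (ρ₁ negG) := by
      rw [mem_Fi, map_add, hinv, add_comm]
    rw [h, Submodule.mem_bot] at h4
    exact (neg_eq_of_add_eq_zero_right h4).symm
  · left
    intro v
    have h4 : v ∈ Fi (ρ₁ negG) := by rw [h]; trivial
    exact h4

end Cfsg.Agent.H659.Sp4
end

-- part: H659/Sp4Stage
section
/-!
# LOWDIM T5: cores with simple group `PSp₄(3) ≃ PSU₄(2)` in degree ≤ 12, characteristic ≠ 2, 3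

`u42_stage` : `Core P`, `Soc P ≃* PSp 2 K`, `|K| = 3`, `p ≠ 2, 3`, `n ≤ 12` ⟹
`n = 4`, or `n = 5, 10`, `P` has no scalars, `Fr P p` (`p = 1 mod 3`), `Cj P p` (`p = 2 mod 3`), or
`n = 6`, `P` has no scalars, `SD P`, `Fr P p`.  `u42_stage'` : the same for `PSU 4 K 2`, `|K| = 4`.
-/

set_option autoImplicit false

namespace Cfsg.Agent.H659.Sp4

open Cfsg Cfsg.Geo Matrix SevenU42 Ac
open Cfsg.Agent.H915.LD

section conj

variable {ι : Type} [Fintype ι] [DecidableEq ι] {F : Type*} [Field F] [Finite F] {P : Subgroup (GL ι F)}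

/-- `Fr` and `Cj` from conjugacy -/
theorem fr_cj_of_conj (p : ℕ) [hp : Fact p.Prime] [CharP F p]
    (h : ∀ (g : P) (k : ℕ), k % 3 = 1 → Nat.Coprime k (orderOf g) → IsConj g (g ^ k)) :
    (p % 3 = 1 → Fr P p) ∧ (p % 3 = 2 → Cj P p) := by
  have hpow : ∀ g : GL ι F, tr g ^ p = tr (g ^ p) := by
    intro g
    have := tr_pow_char p g 1
    rw [pow_one] at this
    exact this.symm
  refine ⟨fun h1 => ?_, fun h1 => ?_⟩
  · apply Fr.of_reg'
    intro g hg hpg
    rw [hpow]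
    have h3 := h ⟨g, hg⟩ p h1 (by
      rw [Subgroup.orderOf_mk]
      exact (Nat.Prime.coprime_iff_not_dvd hp.out).2 hpg)
    exact (tr_of_isConj h3).symm
  · apply Cj.of_reg'
    intro g hg hpg
    rw [hpow]
    set m := orderOf g with hm
    have hm0 : 0 < m := orderOf_pos g
    have h3 := h ⟨g, hg⟩ (p * (3 * m - 1)) (by
      obtain ⟨r, hr⟩ : ∃ r, m = r + 1 := ⟨m - 1, by omega⟩
      rw [hr, show 3 * (r + 1) - 1 = 3 * r + 2 by omega, Nat.mul_mod, h1]
      omega) (by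
      rw [Subgroup.orderOf_mk, ← hm]
      refine Nat.Coprime.mul_left ((Nat.Prime.coprime_iff_not_dvd hp.out).2 hpg) ?_
      have h4 : (3 * m - 1) + 1 = m * 3 := by omega
      have h5 : Nat.Coprime ((3 * m - 1) + 1) (3 * m - 1) := by simp only [_root_.Nat.coprime_self_add_left, _root_.Nat.coprime_one_left_eq_true]
      rw [h4] at h5
      exact (Nat.Coprime.coprime_mul_right h5).symm)
    have h4 : IsConj (g : GL ι F) ((g ^ p)⁻¹) := by
      have h5 := tr_of_isConj h3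
      obtain ⟨c, hc⟩ := isConj_iff.1 h3
      refine isConj_iff.2 ⟨c, ?_⟩
      have h6 := congrArg Subtype.val hc
      rw [Subgroup.coe_mul, Subgroup.coe_mul, Subgroup.coe_pow] at h6
      rw [Subgroup.coe_inv] at h6
      rw [h6]
      change g ^ (p * (3 * m - 1)) = (g ^ p)⁻¹
      rw [eq_inv_iff_mul_eq_one, ← pow_add, show p * (3 * m - 1) + p = m * (p * 3) by
        have : (3 * m - 1) + 1 = 3 * m := by omega
        calc p * (3 * m - 1) + p = p * ((3 * m - 1) + 1) := by ring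
          _ = m * (p * 3) := by rw [this]; ring, pow_mul, hm, pow_orderOf_eq_one, one_pow]
    obtain ⟨c, hc⟩ := isConj_iff.1 h4
    have h7 : c * g⁻¹ * c⁻¹ = g ^ p := by
      rw [← _root_.inv_inj, ← hc]; group
    rw [← h7, tr_conj]

end conj

section main

theorem center_sp {w : Sp} (hw : w ∈ Subgroup.center Sp) : w = 1 ∨ w = negG := by
  have h1 : Nat.card (Subgroup.center Sp) = 2 :=
    Cfsg.Agent.LieClassical.SympCenter.card_center (F := ZMod 3) (m := 2) (by norm_num)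
  obtain ⟨y, hy, huniq⟩ := (Nat.card_eq_two_iff' (1 : Subgroup.center Sp)).1 h1
  have hneg : negG ∈ Subgroup.center Sp := by
    rw [Subgroup.mem_center_iff]
    intro g
    apply Subtype.ext
    change g.1 * negG.1 = negG.1 * g.1
    rw [negG_val, mul_neg, neg_mul, mul_one, one_mul]
  have hne : negG ≠ 1 := by
    intro h
    have h4 := congrArg Subtype.val h
    rw [negG_val] at h4
    revert h4
    decide +kernel
  by_cases h : w = 1
  · exact Or.inl h
  · right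
    have a1 := huniq ⟨w, hw⟩ (fun h4 => h (congrArg Subtype.val h4))
    have a2 := huniq ⟨negG, hneg⟩ (fun h4 => hne ((congrArg Subtype.val h4 :)))
    exact congrArg Subtype.val (a1.trans a2.symm)

variable {ι : Type} [Fintype ι] [DecidableEq ι] {F : Type*} [Field F] [Finite F] {P : Subgroup (GL ι F)}

/-- **Cores of type `PSp₄(3)`, degree ≤ 12, characteristic ≠ 2, 3.** -/
theorem u42_stage (hC : Core P) (p : ℕ) [hp : Fact p.Prime] [CharP F p] (hp2 : p ≠ 2) (hp3 : p ≠ 3)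
    (hn : Fintype.card ι ≤ 12) {k : Type*} [Field k] [Fintype k] (hk : Fintype.card k = 3)
    (e : Soc P ≃* PSp 2 k) :
    Fintype.card ι = 4 ∨
    ((Fintype.card ι = 5 ∨ Fintype.card ι = 10) ∧ (scalars ι F).subgroupOf P = ⊥ ∧
      (p % 3 = 1 → Fr P p) ∧ (p % 3 = 2 → Cj P p)) ∨
    (Fintype.card ι = 6 ∧ (scalars ι F).subgroupOf P = ⊥ ∧ SD P ∧ Fr P p) := by
  classical
  have hn2 := hC.two_le
  let e0 : ZMod 3 ≃+* k := ZMod.ringEquivOfPrime k Nat.prime_three hk
  let E : Soc P ≃* PSp 2 (ZMod 3) := e.trans (Cfsg.Agent.LieClassical.FieldTransfer.pspCongr 2 e0).symm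
  let π : P →* PSp 2 (ZMod 3) := E.toMonoidHom.comp (toSoc P)
  have hπ : Function.Surjective π := E.surjective.comp (toSoc_surjective P)
  have hker : π.ker = (scalars ι F).subgroupOf P := ker_comp E
  have hkc : π.ker ≤ Subgroup.center P := by rw [hker]; exact scalars_le_center
  obtain ⟨φ, hφ, hφπ⟩ := H95.StemCover.exists_cover_of_trivial
    (H62.SpMult.perfect_Sp (F := ZMod 3) (m := 2) le_rfl (fun _ => le_refl 3))
    (H62.SpMult.hasTrivial_Sp (F := ZMod 3) (m := 2) le_rfl (fun _ => le_refl 3) (by decide))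
    (QuotientGroup.mk' (Subgroup.center Sp)) (QuotientGroup.mk'_surjective _) (by rw [QuotientGroup.ker_mk'])
    hC.commutator_top π hπ hkc
  let φ' : Sp →* GL ι F := P.subtype.comp φ
  have hrange : φ'.range = P := by
    ext g
    constructor
    · rintro ⟨w, rfl⟩
      exact (φ w).2
    · intro hg
      obtain ⟨w, hw⟩ := hφ ⟨g, hg⟩
      exact ⟨w, congrArg Subtype.val hw⟩
  have hs := H920.span_eq_top hC.absIrred
  let A := AlgebraicClosure F
  have hinj : Function.Injective (algebraMap F A) := (algebraMap F A).injective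
  have hne : ∀ q : ℕ, q.Prime → q ≠ p → (q : A) ≠ 0 := by
    intro q hq hqp h0
    have h4 : ((q : ℕ) : F) = 0 := by
      apply hinj
      rw [map_natCast, map_zero, h0]
    rw [CharP.cast_eq_zero_iff F p] at h4
    exact hqp ((Nat.prime_dvd_prime_iff_eq hp.out hq).1 h4).symm
  have h2 : (2 : A) ≠ 0 := by exact_mod_cast hne 2 Nat.prime_two (Ne.symm hp2)
  have h3 : (3 : A) ≠ 0 := by exact_mod_cast hne 3 Nat.prime_three (Ne.symm hp3)
  have irr₁ := rp_irr A φ' hrange hs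
  have irr₂ := rd_irr A φ' hrange hs
  have hfr : Module.finrank A (ι → A) = Fintype.card ι := Module.finrank_fintype_fun_eq_card A
  have D₁ := degrees (rels (rp A φ')) h2 h3 (irr_of _ irr₁) (by rw [hfr]; exact hn2) (by rw [hfr]; exact hn)
  have D₂ := degrees (rels (rd A φ')) h2 h3 (irr_of _ irr₂) (by rw [hfr]; exact hn2) (by rw [hfr]; exact hn)
  rw [hfr] at D₁ D₂
  simp only [t1t2_eq] at D₁ D₂
  rcases neg_sign (rp A φ') irr₁ with hneg | hneg
  · right
    -- `φ' negG = 1`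
    have hφ1 : φ' negG = 1 := by
      have h4 : (φ' negG : Matrix ι ι F).map (algebraMap F A) = 1 := by
        apply Matrix.toLin'.injective
        rw [Matrix.toLin'_one]
        exact LinearMap.ext hneg
      apply Units.ext
      ext i j
      apply hinj
      have h5 := congrFun (congrFun h4 i) j
      rw [Matrix.map_apply] at h5
      rw [h5, Units.val_one]
      by_cases hij : i = j
      · subst hij; simp
      · simp [hij]
    have hφ1' : φ negG = 1 := Subtype.ext hφ1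
    have hbot : (scalars ι F).subgroupOf P = ⊥ := by
      rw [← hker, eq_bot_iff]
      intro z hz
      obtain ⟨w, rfl⟩ := hφ z
      rw [MonoidHom.mem_ker, hφπ] at hz
      have hw : w ∈ Subgroup.center Sp := (QuotientGroup.eq_one_iff w).1 hz
      rw [Subgroup.mem_bot]
      rcases center_sp hw with rfl | rfl
      · exact map_one φ
      · exact hφ1'
    have hneg2 : ∀ v, rd A φ' negG v = v := by
      intro v
      rw [rd_apply, map_inv, hφ1, inv_one, Units.val_one, Matrix.map_one _ (map_zero _) (map_one _),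
        Matrix.transpose_one, Matrix.one_mulVec]
    -- conjugacy
    have hπi : Function.Injective π := by
      rw [← MonoidHom.ker_eq_bot_iff, hker, hbot]
    obtain ⟨e4⟩ := Cfsg.Agent.S0822.result (F := Cfsg.Agent.Lib.FieldFour.F4) (K := ZMod 3) rfl rfl
    let E' : P ≃* PSU 4 Cfsg.Agent.Lib.FieldFour.F4 2 := (MulEquiv.ofBijective π ⟨hπi, hπ⟩).trans e4.symm
    have hconj : ∀ (g : P) (k : ℕ), k % 3 = 1 → Nat.Coprime k (orderOf g) → IsConj g (g ^ k) := by
      intro g k hk1 hco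
      have h4 := H180.u42_conj_pow (K := Cfsg.Agent.Lib.FieldFour.F4) rfl (E' g) k hk1 (by
        rw [MulEquiv.orderOf_eq]; exact hco)
      have h5 := MonoidHom.map_isConj E'.symm.toMonoidHom h4
      change IsConj (E'.symm (E' g)) (E'.symm ((E' g) ^ k)) at h5
      rwa [map_pow, MulEquiv.symm_apply_apply] at h5
    have hfc := fr_cj_of_conj p hconj
    rcases D₁.2 hneg with h5 | h10 | ⟨h6, T₁⟩
    · exact Or.inl ⟨Or.inl h5, hbot, hfc⟩
    · exact Or.inl ⟨Or.inr h10, hbot, hfc⟩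
    · right
      obtain ⟨ω, w1, w2, w3⟩ := Triple.exists_omega h3
      have hω : Om ω := ⟨w1, w2, w3⟩
      have T₂ : Ty (ops (rd A φ')) ω 0 0 0 1 0 := by
        rcases D₂.2 hneg2 with h5 | h10 | ⟨-, T₂⟩
        · omega
        · omega
        · exact T₂ ω hω
      obtain ⟨f, hf⟩ := iso_of_six (rp A φ') (rd A φ') h2 h3 irr₁ irr₂ hneg hneg2 hω (T₁ ω hω) T₂
      have hSD : SD P := by
        intro g hg
        obtain ⟨w, hw⟩ : ∃ w, φ' w = g := by
          have : g ∈ φ'.range := by rw [hrange]; exact hg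
          exact this
        have h7 := trace_eq_of_iso (rp A φ') (rd A φ') hf w
        rw [trace_rp, trace_rd] at h7
        have h8 := hinj h7
        rw [map_inv, hw] at h8
        exact h8.symm
      refine ⟨h6, hbot, hSD, ?_⟩
      have hp' : p % 3 = 1 ∨ p % 3 = 2 := by
        have h9 : ¬ 3 ∣ p := fun h => hp3 ((Nat.prime_dvd_prime_iff_eq Nat.prime_three hp.out).1 h).symm
        omega
      rcases hp' with h9 | h9
      · exact hfc.1 h9
      · exact Fr.of_sd_cj hSD (hfc.2 h9)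
  · exact Or.inl (D₁.1 hneg)

/-- the same with `PSU₄(2)` -/
theorem u42_stage' (hC : Core P) (p : ℕ) [hp : Fact p.Prime] [CharP F p] (hp2 : p ≠ 2) (hp3 : p ≠ 3)
    (hn : Fintype.card ι ≤ 12) {k : Type*} [Field k] [Fintype k] (hk : Fintype.card k = 4)
    (e : Soc P ≃* PSU 4 k 2) :
    Fintype.card ι = 4 ∨
    ((Fintype.card ι = 5 ∨ Fintype.card ι = 10) ∧ (scalars ι F).subgroupOf P = ⊥ ∧
      (p % 3 = 1 → Fr P p) ∧ (p % 3 = 2 → Cj P p)) ∨
    (Fintype.card ι = 6 ∧ (scalars ι F).subgroupOf P = ⊥ ∧ SD P ∧ Fr P p) := by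
  obtain ⟨e4⟩ := Cfsg.Agent.S0822.result (F := k) (K := ZMod 3) hk rfl
  exact u42_stage hC p hp2 hp3 hn (k := ZMod 3) rfl (e.trans e4)

end main

end Cfsg.Agent.H659.Sp4
end

private theorem dce_a94ad53429b8 : _root_.True := by
  try have : _root_.True := by simp only [_root_.Cfsg.Agent.H659.Sp4.negG.eq_1]
  exact _root_.True.intro
end

-- part: H659/Sp4NotSD
section
prune_inst 0x304000540000000018001400000044200000000000000000e00100080800602040000118100012000808c040080020000000000040000004000400000500000080100010100d00000000000000000000000000000000000000000000000004000000000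
set_option linter.all false
open scoped Cfsg.Agent.FastGrp

/-!
# Self-dual cores of type `PSp₄(3) ≃ PSU₄(2)`, degree ≤ 12, characteristic ≠ 2, 3, have degree 6

In degrees 4, 5, 10 the eigenspaces of a transvection for the two primitive cube roots of unity have different
dimensions.
-/

set_option autoImplicit false
set_option linter.unusedSectionVars false

namespace Cfsg.Agent.H659.Sp4

open Module Cfsg.Agent.H659.Triple

section lin

variable {K : Type*} [Field K] {V : Type*} [AddCommGroup V] [Module K V] {ω : K}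

/-- the operator of `pr` -/
def prL (ω : K) (T : Module.End K V) (a : Fin 3) : Module.End K V :=
  1 + ω ^ (2 * a.val) • T + ω ^ a.val • (T * T)

theorem prL_apply (T : Module.End K V) (a : Fin 3) (v : V) : prL ω T a v = pr ω T a v := rfl

theorem pr_comm {T : Module.End K V} {a : Fin 3} {S : Module.End K V} (h : ∀ v, T (S v) = S (T v)) (v : V) :
    pr ω T a (S v) = S (pr ω T a v) := by
  unfold pr
  rw [map_add, map_add, map_smul, map_smul, h, h]

theorem pr_comm' {T S : Module.End K V} {a b : Fin 3} (h : ∀ v, T (S v) = S (T v)) (v : V) :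
    pr ω T a (pr ω S b v) = pr ω S b (pr ω T a v) := by
  rw [← prL_apply (ω := ω) S b, ← prL_apply (ω := ω) S b, pr_comm]
  intro v
  rw [prL_apply, prL_apply, pr_comm]
  exact fun v => (h v).symm

theorem pr_zero (T : Module.End K V) (a : Fin 3) : pr ω T a 0 = 0 := by
  rw [← prL_apply, map_zero]

theorem pr_neg (T : Module.End K V) (a : Fin 3) (v : V) : pr ω T a (-v) = -pr ω T a v := by
  rw [← prL_apply, ← prL_apply, map_neg]

theorem pr_of_ne (hω : Om ω) {T : Module.End K V} {a b : Fin 3} (hab : a ≠ b) {v : V} (h : T v = ω ^ b.val • v) :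
    pr ω T a v = 0 := by
  unfold pr
  rw [h, map_smul, h]
  have hc := hω.c
  have ha := hω.a
  have key : (1 : K) + ω ^ (2 * a.val) * ω ^ b.val + ω ^ a.val * (ω ^ b.val * ω ^ b.val) = 0 := by
    fin_cases a <;> fin_cases b <;> first | exact absurd rfl hab | skip
    · change (1 : K) + ω ^ 0 * ω ^ 1 + ω ^ 0 * (ω ^ 1 * ω ^ 1) = 0
      linear_combination ha
    · change (1 : K) + ω ^ 0 * ω ^ 2 + ω ^ 0 * (ω ^ 2 * ω ^ 2) = 0
      linear_combination ha + ω * hc
    · change (1 : K) + ω ^ 2 * ω ^ 0 + ω ^ 1 * (ω ^ 0 * ω ^ 0) = 0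
      linear_combination ha
    · change (1 : K) + ω ^ 2 * ω ^ 2 + ω ^ 1 * (ω ^ 2 * ω ^ 2) = 0
      linear_combination ha + (ω + ω ^ 2) * hc
    · change (1 : K) + ω ^ 4 * ω ^ 0 + ω ^ 2 * (ω ^ 0 * ω ^ 0) = 0
      linear_combination ha + ω * hc
    · change (1 : K) + ω ^ 4 * ω ^ 1 + ω ^ 2 * (ω ^ 1 * ω ^ 1) = 0
      linear_combination ha + (ω + ω ^ 2) * hc
  have e : v + ω ^ (2 * a.val) • (ω ^ b.val • v) + ω ^ a.val • (ω ^ b.val • (ω ^ b.val • v)) =
      ((1 : K) + ω ^ (2 * a.val) * ω ^ b.val + ω ^ a.val * (ω ^ b.val * ω ^ b.val)) • v := by module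
  rw [e, key, zero_smul]

/-- fixed by `T` if the other two projections vanish -/
theorem fix_of_pr (hω : Om ω) (h3 : (3 : K) ≠ 0) {T : Module.End K V} (hT : ∀ v, T (T (T v)) = v) {v : V}
    (h1 : pr ω T 1 v = 0) (h2 : pr ω T 2 v = 0) : T v = v := by
  have e := pr_sum hω T v
  rw [h1, h2, add_zero, add_zero] at e
  have e3 := pr_eig hω hT 0 v
  rw [om_zero, e, map_smul] at e3
  have e4 : (3 : K) • (T v - v) = 0 := by rw [smul_sub, e3, sub_self]
  exact sub_eq_zero.1 ((smul_eq_zero.1 e4).resolve_left h3)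

variable [FiniteDimensional K V]

theorem trace_prL (hω : Om ω) (h3 : (3 : K) ≠ 0) {T : Module.End K V} (hT : ∀ v, T (T (T v)) = v) (a : Fin 3) :
    LinearMap.trace K V (prL ω T a) = 3 * (finrank K (Ei T (ω ^ a.val)) : K) := by
  have h : LinearMap.IsProj (Ei T (ω ^ a.val)) ((3 : K)⁻¹ • prL ω T a) := by
    refine ⟨fun v => ?_, fun v hv => ?_⟩
    · rw [LinearMap.smul_apply]
      exact Submodule.smul_mem _ _ (pr_eig hω hT a v)
    · rw [mem_Ei] at hv
      rw [LinearMap.smul_apply, prL_apply]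
      have e := pr_sum hω T v
      have hs : pr ω T a v = (3 : K) • v := by
        fin_cases a
        · rw [pr_of_ne hω (a := 1) (b := 0) (by decide) hv, pr_of_ne hω (a := 2) (b := 0) (by decide) hv,
            add_zero, add_zero] at e
          exact e
        · rw [pr_of_ne hω (a := 0) (b := 1) (by decide) hv, pr_of_ne hω (a := 2) (b := 1) (by decide) hv,
            add_zero, zero_add] at e
          exact e
        · rw [pr_of_ne hω (a := 0) (b := 2) (by decide) hv, pr_of_ne hω (a := 1) (b := 2) (by decide) hv,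
            zero_add, zero_add] at e
          exact e
      rw [hs, smul_smul, inv_mul_cancel₀ h3, one_smul]
  have h4 := h.trace
  rw [map_smul, smul_eq_mul] at h4
  rw [← h4, ← mul_assoc, mul_inv_cancel₀ h3, one_mul]

theorem trace_sub (hω : Om ω) (h3 : (3 : K) ≠ 0) {T : Module.End K V} (hT : ∀ v, T (T (T v)) = v)
    (h : LinearMap.trace K V (T * T) = LinearMap.trace K V T) :
    (finrank K (Ei T ω) : K) = finrank K (Ei T (ω ^ 2)) := by
  have e1 := trace_prL hω h3 hT 1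
  have e2 := trace_prL hω h3 hT 2
  change _ = 3 * (finrank K (Ei T (ω ^ 1)) : K) at e1
  change _ = 3 * (finrank K (Ei T (ω ^ 2)) : K) at e2
  rw [pow_one] at e1
  unfold prL at e1 e2
  rw [map_add, map_add, map_smul, map_smul, h] at e1 e2
  change _ + ω ^ 2 • _ + ω ^ 1 • _ = _ at e1
  change _ + ω ^ 4 • _ + ω ^ 2 • _ = _ at e2
  simp only [smul_eq_mul] at e1 e2
  have e4 : (3 : K) * ((finrank K (Ei T ω) : K) - finrank K (Ei T (ω ^ 2))) = 0 := by
    linear_combination e2 - e1 - (ω * (LinearMap.trace K V T)) * hω.c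
  exact sub_eq_zero.1 ((mul_eq_zero.1 e4).resolve_left h3)

end lin

variable {K : Type*} [Field K] {V : Type*} [AddCommGroup V] [Module K V] {O : Ops K V} {ω : K}
  [FiniteDimensional K V] {m0 a b c : ℕ}

theorem tX_of (R : Rels O) (hω : Om ω) (h2 : (2 : K) ≠ 0) (h3 : (3 : K) ≠ 0) (T : Ty O ω m0 a b 0 0) (hI : Irr O)
    (hn : 2 ≤ finrank K V) (hp : ∀ v, O.t1 (O.t2 v) = v) : ∀ v ∈ Fi O.z1, O.t2 v = -v := by
  have hl := absent_w R hω h3 T (l := 2) (absent_c rfl)
  have T' := T.sq hω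
  have hl' := absent_w R hω.sq h3 T' (l := 2) (absent_c rfl)
  exact t2_neg_X R hω h3 T hI hn (by
    intro l hl0 v hv ht
    have ht' : O.t2 v = -v := by
      fin_cases l
      · exact absurd rfl hl0
      · exact t2_neg_W R hω h2 hp hl hv
      · exact t2_neg_W R hω.sq h2 hp hl' (by rw [W_sq_010 hω]; exact hv)
    exact eq_zero_of_neg h2 (ht.symm.trans ht'))

theorem cls_12 : ∀ k, cls 1 2 k = 3 ∨ cls 1 2 k = 4 := by decide
theorem cls_21 : ∀ k, cls 2 1 k = 3 ∨ cls 2 1 k = 4 := by decide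

/-- no component for `ω²` -/
theorem C_zero (R : Rels O) (hω : Om ω) (h2 : (2 : K) ≠ 0) (h3 : (3 : K) ≠ 0) (T : Ty O ω m0 a b 0 0)
    (tX : ∀ v ∈ Fi O.z1, O.t2 v = -v) (hp : ∀ v, O.t1 (O.t2 v) = v) {v : V} (hv1 : O.z1 v = v)
    (hv2 : O.z2 v = ω • v) : pr ω O.z2 2 (O.j v) = 0 := by
  have abs12 : ∀ u, O.z1 u = ω ^ (1 : Fin 3).val • u → O.z2 u = ω ^ (2 : Fin 3).val • u → u = 0 := by
    intro u a1 a2
    refine absent R hω h3 T (i := 1) (l := 2) ?_ a1 a2
    intro k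
    rcases cls_12 k with h | h <;> rw [h] <;> rfl
  have abs21 : ∀ u, O.z1 u = ω ^ (2 : Fin 3).val • u → O.z2 u = ω ^ (1 : Fin 3).val • u → u = 0 := by
    intro u a1 a2
    refine absent R hω h3 T (i := 2) (l := 1) ?_ a1 a2
    intro k
    rcases cls_21 k with h | h <;> rw [h] <;> rfl
  set C := pr ω O.z2 2 (O.j v) with hC
  have c1 : O.z1 C = C := by
    rw [hC, ← pr_comm (T := O.z2) (S := O.z1) (fun v => (R.z1z2 v).symm), R.z1j, hv1]
  have c2 : O.z2 C = ω ^ (2 : Fin 3).val • C := pr_eig hω R.z2z2z2 2 _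
  have n2 : pr ω O.z1 2 (O.n v) = 0 := by
    refine abs21 _ (pr_eig hω R.z1z1z1 2 _) ?_
    rw [← pr_comm (T := O.z1) (S := O.z2) (fun v => R.z1z2 v), ← R.nz2, hv2, map_smul]
    rw [← prL_apply, map_smul, prL_apply]
    change _ = ω ^ 1 • _
    rw [pow_one]
  have m2 : pr ω O.z1 2 (O.n C) = 0 := by
    have e1 : O.n C = pr ω O.z2 2 (O.j (O.n v)) := by
      rw [hC, ← pr_comm (T := O.z2) (S := O.n) (fun v => (R.nz2 v).symm), R.nj]
    rw [e1, pr_comm' (T := O.z1) (S := O.z2) R.z1z2, pr_comm (T := O.z1) (S := O.j) R.z1j, n2, map_zero, pr_zero]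
  have m1 : pr ω O.z1 1 (O.n C) = 0 := by
    refine abs12 _ (pr_eig hω R.z1z1z1 1 _) ?_
    rw [← pr_comm (T := O.z1) (S := O.z2) (fun v => R.z1z2 v), ← R.nz2, c2, map_smul]
    rw [← prL_apply, map_smul, prL_apply]
  have hnC : O.z1 (O.n C) = O.n C := fix_of_pr hω h3 R.z1z1z1 m1 m2
  have tC : O.t2 C = -C := tX C c1
  have e := R.nz3 C
  rw [c1, hnC, R.nn, t1_eq R hp, tC, map_neg, map_neg, c1] at e
  have e5 : O.n C = C := neg_injective e
  have e6 := R.nn C
  rw [e5, e5, t1_eq R hp, tC] at e6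
  exact eq_zero_of_neg h2 e6

theorem cls_10 : ∀ k, k ≠ 0 → cls 1 0 k = 3 ∨ cls 1 0 k = 4 := by decide

/-- not both `a`, `b` are non-zero -/
theorem b_zero (R : Rels O) (hω : Om ω) (h2 : (2 : K) ≠ 0) (h3 : (3 : K) ≠ 0) (T : Ty O ω m0 a b 0 0) (hI : Irr O)
    (hn : 2 ≤ finrank K V) (hp : ∀ v, O.t1 (O.t2 v) = v) (ha : a ≠ 0) : b = 0 := by
  have tX := tX_of R hω h2 h3 T hI hn hp
  let X1 : Submodule K V := Fi O.z1 ⊓ (LinearMap.ker (prL ω O.z2 2) ⊓ LinearMap.ker (prL ω O.z2 2 * O.j))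
  let N1 : Submodule K V := Ei O.z1 ω
  have mX1 : ∀ v, v ∈ X1 ↔ O.z1 v = v ∧ pr ω O.z2 2 v = 0 ∧ pr ω O.z2 2 (O.j v) = 0 := fun v => Iff.rfl
  have mN1 : ∀ v, v ∈ N1 ↔ O.z1 v = ω • v := fun v => Iff.rfl
  have w010 : ∀ v, O.z1 v = v → O.z2 v = ω • v → v ∈ X1 := by
    intro v a1 a2
    rw [mX1]
    refine ⟨a1, pr_of_ne hω (a := 2) (b := 1) (by decide) (by change _ = ω ^ 1 • v; rw [pow_one]; exact a2), ?_⟩
    exact C_zero R hω h2 h3 T tX hp a1 a2
  have xj : ∀ v ∈ X1, O.j v ∈ X1 := by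
    intro v hv
    rw [mX1] at hv ⊢
    obtain ⟨a1, a2, a3⟩ := hv
    refine ⟨by rw [R.z1j, a1], a3, ?_⟩
    rw [R.jj, tX v a1, pr_neg, a2, neg_zero]
  have xs : ∀ v ∈ X1, O.s v ∈ X1 ⊔ N1 := by
    intro v hv
    have hv' := (mX1 v).1 hv
    obtain ⟨a1, a2, a3⟩ := hv'
    have e := pr_sum hω O.z2 v
    rw [a2, add_zero] at e
    have p1 : O.z2 (pr ω O.z2 1 v) = ω • pr ω O.z2 1 v := by
      have := pr_eig hω R.z2z2z2 1 v
      change _ = ω ^ 1 • _ at this
      rwa [pow_one] at this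
    have q1 : O.z1 (pr ω O.z2 1 v) = pr ω O.z2 1 v := by
      rw [← pr_comm (T := O.z2) (S := O.z1) (fun v => (R.z1z2 v).symm), a1]
    have q0 : O.z1 (pr ω O.z2 0 v) = pr ω O.z2 0 v := by
      rw [← pr_comm (T := O.z2) (S := O.z1) (fun v => (R.z1z2 v).symm), a1]
    have p0 : O.z2 (pr ω O.z2 0 v) = pr ω O.z2 0 v := by
      have := pr_eig hω R.z2z2z2 0 v
      rwa [om_zero] at this
    have x1 : pr ω O.z2 1 v ∈ X1 := w010 _ q1 p1
    have x0 : pr ω O.z2 0 v ∈ X1 := by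
      have : pr ω O.z2 0 v = (3 : K) • v - pr ω O.z2 1 v := by rw [← e, add_sub_cancel_right]
      rw [this]
      exact X1.sub_mem (X1.smul_mem _ hv) x1
    have s0 : O.s (pr ω O.z2 0 v) = -pr ω O.z2 0 v := by
      set u := pr ω O.z2 0 v
      have hy := y_fix R hω h3 T q0
      have hs1 : O.z1 (O.s u) = O.s u := by rw [R.z1s, p0]
      have hys : O.y (O.s u) = O.s u := y_fix R hω h3 T hs1
      have e := R.s_eq u
      rw [hy, tX u q0, map_neg, map_neg, hys, map_neg, R.ss, map_neg, map_neg, hy, hy] at e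
      exact e
    have s1 : O.s (pr ω O.z2 1 v) ∈ N1 := by
      rw [mN1]
      rw [R.z1s, p1, map_smul]
    have h4 : O.s v = (3 : K)⁻¹ • (O.s (pr ω O.z2 0 v) + O.s (pr ω O.z2 1 v)) := by
      rw [← map_add, e, map_smul, smul_smul, inv_mul_cancel₀ h3, one_smul]
    rw [h4, s0]
    exact Submodule.smul_mem _ _ (Submodule.add_mem _ (Submodule.mem_sup_left (X1.neg_mem x0))
      (Submodule.mem_sup_right s1))
  have ns : ∀ v ∈ N1, O.s v ∈ X1 ⊔ N1 := by
    intro v hv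
    have : v ∈ (X1 ⊔ N1).comap O.s := by
      refine decomp hω h3 (T := O.z2) R.z2z2z2 N1 _ ?_ ?_ hv
      · rintro u (u1 : O.z1 u = ω • u)
        rw [mN1]
        rw [R.z1z2, u1, map_smul]
      · intro l u hu hl
        refine decomp hω h3 (T := O.x) R.xxx (N1 ⊓ Ei O.z2 (ω ^ l.val)) _ ?_ ?_ (v := u) ⟨hu, hl⟩
        · rintro u ⟨(u1 : O.z1 u = ω • u), (u2 : O.z2 u = ω ^ l.val • u)⟩
          refine Submodule.mem_inf.2 ⟨?_, ?_⟩
          · rw [mN1]
            rw [R.z1x, u1, map_smul]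
          · rw [mem_Ei, R.z2x, u2, map_smul]
        · rintro k w ⟨(w1 : O.z1 w = ω • w), (w2 : O.z2 w = ω ^ l.val • w)⟩ w3
          rw [Submodule.mem_comap]
          have hw : w ∈ O.W ω 1 l k := mem_W.2 ⟨by rw [om_one]; exact w1, w2, w3⟩
          fin_cases l
          · by_cases hk : k = 0
            · subst hk
              apply Submodule.mem_sup_left
              apply w010
              · change O.z1 (O.s w) = O.s w
                have : O.z2 w = w := by rw [w2]; exact om_zero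
                rw [R.z1s, this]
              · rw [R.z2s, w1, map_smul]
            · have : w = 0 := T.eq_zero (i := 1) (j := 0) (k := k) (by
                rcases cls_10 k hk with h | h <;> rw [h] <;> rfl) hw
              rw [this, map_zero]
              exact Submodule.zero_mem _
          · apply Submodule.mem_sup_right
            rw [mN1]
            rw [R.z1s, w2]
            change O.s (ω ^ 1 • w) = _
            rw [pow_one, map_smul]
          · have : w = 0 := T.eq_zero (i := 1) (j := 2) (k := k) (by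
                rcases cls_12 k with h | h <;> rw [h] <;> rfl) hw
            rw [this, map_zero]
            exact Submodule.zero_mem _
    exact this
  have hy : ∀ v ∈ X1 ⊔ N1, O.y v ∈ X1 ⊔ N1 := by
    intro v hv
    obtain ⟨x, hx, n, hn, rfl⟩ := Submodule.mem_sup.1 hv
    rw [map_add, y_fix R hω h3 T hx.1]
    refine Submodule.add_mem _ (Submodule.mem_sup_left hx) (Submodule.mem_sup_right ?_)
    rw [mN1]
    rw [R.z1y, show O.z1 n = ω • n from hn, map_smul]
  have hs : ∀ v ∈ X1 ⊔ N1, O.s v ∈ X1 ⊔ N1 := by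
    intro v hv
    obtain ⟨x, hx, n, hn, rfl⟩ := Submodule.mem_sup.1 hv
    rw [map_add]
    exact Submodule.add_mem _ (xs x hx) (ns n hn)
  have hj : ∀ v ∈ X1 ⊔ N1, O.j v ∈ X1 ⊔ N1 := by
    intro v hv
    obtain ⟨x, hx, n, hn, rfl⟩ := Submodule.mem_sup.1 hv
    rw [map_add]
    refine Submodule.add_mem _ (Submodule.mem_sup_left (xj x hx)) (Submodule.mem_sup_right ?_)
    rw [mN1]
    rw [R.z1j, show O.z1 n = ω • n from hn, map_smul]
  rcases hI _ hy hs hj with h | h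
  · exfalso
    obtain ⟨v, hv, hv0⟩ := T.exists_ne (i := 0) (j := 1) (k := 0) (by change a ≠ 0; exact ha)
    rw [mem_W, om_zero, om_one] at hv
    have : v ∈ X1 ⊔ N1 := Submodule.mem_sup_left (w010 v hv.1 hv.2.1)
    rw [h] at this
    exact hv0 ((Submodule.mem_bot K).1 this)
  · by_contra hb
    obtain ⟨w, hw, hw0⟩ := T.exists_ne (i := 2) (j := 0) (k := 0) (by change b ≠ 0; exact hb)
    have hw1 : O.z1 w = ω ^ (2 : Fin 3).val • w := (mem_W.1 hw).1
    have hm : w ∈ X1 ⊔ N1 := by rw [h]; trivial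
    obtain ⟨x, hx, n, hn, hxn⟩ := Submodule.mem_sup.1 hm
    have e1 : pr ω O.z1 2 x = 0 := pr_of_ne hω (a := 2) (b := 0) (by decide) (by rw [om_zero]; exact hx.1)
    have e2 : pr ω O.z1 2 n = 0 := pr_of_ne hω (a := 2) (b := 1) (by decide) (by rw [om_one]; exact hn)
    have e3 : pr ω O.z1 2 w = 0 := by
      rw [← hxn, ← prL_apply, map_add, prL_apply, prL_apply, e1, e2, add_zero]
    have e4 := pr_sum hω O.z1 w
    rw [e3, pr_of_ne hω (a := 0) (b := 2) (by decide) hw1, pr_of_ne hω (a := 1) (b := 2) (by decide) hw1,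
      add_zero, add_zero] at e4
    exact hw0 ((smul_eq_zero.1 e4.symm).resolve_left h3)

/-- self-duality forces degree 6 -/
theorem ty_ne [IsAlgClosed K] (R : Rels O) (hω : Om ω) (h2 : (2 : K) ≠ 0) (h3 : (3 : K) ≠ 0)
    (T : Ty O ω m0 a b c 0) (hI : Irr O) (hn : 2 ≤ finrank K V) (hn' : finrank K V ≤ 12) (h6 : finrank K V ≠ 6)
    (hs : (∀ v, O.t1 (O.t2 v) = v) ∨ (∀ v, O.t1 (O.t2 v) = -v)) : a ≠ b := by
  rintro rfl
  have ht := T.tot
  -- all weights zero is impossible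
  have key : a = 0 → c = 0 → False := by
    rintro rfl rfl
    have hX := finrank_X R hω h3 T
    have htop : Fi O.z1 = ⊤ := Submodule.eq_top_of_finrank_eq (by omega)
    have : Nontrivial V := Module.nontrivial_of_finrank_pos (R := K) (by omega)
    obtain ⟨v, hv⟩ := exists_ne (0 : V)
    apply hv
    have hf : ∀ v : V, O.z1 v = v := fun v => by
      have : v ∈ Fi O.z1 := by rw [htop]; trivial
      exact this
    refine Y_zero R hω h3 T hI hn ⊤ (fun v _ => hf v) (fun _ _ => trivial) (fun _ _ => trivial) ?_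
      (v := v) trivial
    intro l hl w _ hw
    have hw' := mem_W_X R hω h3 T (hf w) hw
    refine T.eq_zero ?_ hw'
    fin_cases l
    · exact absurd rfl hl
    · rfl
    · rfl
  rcases hs with hp | hm
  · by_cases hc : c = 0
    · subst hc
      by_cases ha : a = 0
      · exact key ha rfl
      · exact ha (b_zero R hω h2 h3 T hI hn hp ha)
    · have ha : a = 0 := by omega
      subst ha
      have h := casePlusSix R hω h2 h3 T hc hI hn hp
      exact h6 h.1
  · have h4 := caseMinus R hω h2 h3 T hI hn hn' hm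
    exact key (by omega) (by omega)

/-- the eigenspace of `z1` for `ω` -/
theorem le_finrank_Ei (R : Rels O) (hω : Om ω) (h3 : (3 : K) ≠ 0) (T : Ty O ω m0 a b c 0) :
    3 * (a + c) ≤ finrank K (Ei O.z1 ω) := by
  have hinj : Function.Injective (fun t : Fin 3 × Fin 3 => ((1 : Fin 3), t.1, t.2)) := by
    intro s t hst
    have := congrArg Prod.snd hst
    exact this
  have hsum := SevenU42.sum_finrank_le_of_le ((indep_W R hω h3).comp hinj) (Ei O.z1 ω) (fun t v hv => by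
    have := (mem_W.1 hv).1
    change O.z1 v = ω ^ 1 • v at this
    rw [pow_one] at this
    exact this)
  refine le_trans (le_of_eq ?_) hsum
  have h' : ∀ t : Fin 3 × Fin 3, finrank K (O.W ω 1 t.1 t.2) = ![m0, a, b, c, 0] (cls 1 t.1 t.2) := fun t => T.dim _ _ _
  change _ = ∑ t : Fin 3 × Fin 3, finrank K (O.W ω 1 t.1 t.2)
  rw [Finset.sum_congr rfl fun t _ => h' t]
  simp only [Fintype.sum_prod_type, Fin.sum_univ_three]
  simp only [show cls 1 0 0 = 1 from rfl, show cls 1 0 1 = 4 from rfl, show cls 1 0 2 = 4 from rfl,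
    show cls 1 1 0 = 3 from rfl, show cls 1 1 1 = 1 from rfl, show cls 1 1 2 = 1 from rfl,
    show cls 1 2 0 = 4 from rfl, show cls 1 2 1 = 3 from rfl, show cls 1 2 2 = 3 from rfl]
  simp only [Matrix.cons_val_one, Matrix.cons_val]
  ring

theorem finrank_Ei (R : Rels O) (hω : Om ω) (h3 : (3 : K) ≠ 0) (T : Ty O ω m0 a b c 0) [IsAlgClosed K] :
    finrank K (Ei O.z1 ω) = 3 * (a + c) ∧ finrank K (Ei O.z1 (ω ^ 2)) = 3 * (b + c) := by
  have h1 := le_finrank_Ei R hω h3 T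
  have h4 := le_finrank_Ei R hω.sq h3 (T.sq hω)
  have h0 := finrank_X R hω h3 T
  have hsum : finrank K (Fi O.z1) + finrank K (Ei O.z1 ω) + finrank K (Ei O.z1 (ω ^ 2)) = finrank K V := by
    have := HeisLine.sum_eigen (cube1 R) h3 hω.a hω.b hω.c
    rw [Fin.sum_univ_three] at this
    have e0 : O.z1.eigenspace (ω ^ (0 : Fin 3).val) = Fi O.z1 := by
      ext v
      rw [Module.End.mem_eigenspace_iff, mem_Fi, om_zero]
    have e1 : O.z1.eigenspace (ω ^ (1 : Fin 3).val) = Ei O.z1 ω := by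
      ext v
      rw [Module.End.mem_eigenspace_iff, mem_Ei, om_one]
    have e2 : O.z1.eigenspace (ω ^ (2 : Fin 3).val) = Ei O.z1 (ω ^ 2) := by
      ext v
      rw [Module.End.mem_eigenspace_iff, mem_Ei]
      rfl
    rw [e0, e1, e2] at this
    exact this
  have ht := T.tot
  omega

section main

open Cfsg Cfsg.Geo Matrix SevenU42 Ac
open Cfsg.Agent.H915.LD

variable {ι : Type} [Fintype ι] [DecidableEq ι] {F : Type*} [Field F] [Finite F] {P : Subgroup (GL ι F)}

/-- a core of type `PSp₄(3)` is an image of `Sp₄(3)` -/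
theorem exists_hom (hC : Core P) {k : Type*} [Field k] [Fintype k] (hk : Fintype.card k = 3) (e : Soc P ≃* PSp 2 k) :
    ∃ φ : Sp →* GL ι F, φ.range = P := by
  classical
  let e0 : ZMod 3 ≃+* k := ZMod.ringEquivOfPrime k Nat.prime_three hk
  let E : Soc P ≃* PSp 2 (ZMod 3) := e.trans (Cfsg.Agent.LieClassical.FieldTransfer.pspCongr 2 e0).symm
  let π : P →* PSp 2 (ZMod 3) := E.toMonoidHom.comp (toSoc P)
  have hπ : Function.Surjective π := E.surjective.comp (toSoc_surjective P)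
  have hker : π.ker = (scalars ι F).subgroupOf P := ker_comp E
  have hkc : π.ker ≤ Subgroup.center P := by rw [hker]; exact scalars_le_center
  obtain ⟨φ, hφ, -⟩ := H95.StemCover.exists_cover_of_trivial
    (H62.SpMult.perfect_Sp (F := ZMod 3) (m := 2) le_rfl (fun _ => le_refl 3))
    (H62.SpMult.hasTrivial_Sp (F := ZMod 3) (m := 2) le_rfl (fun _ => le_refl 3) (by decide))
    (QuotientGroup.mk' (Subgroup.center Sp)) (QuotientGroup.mk'_surjective _) (by rw [QuotientGroup.ker_mk'])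
    hC.commutator_top π hπ hkc
  refine ⟨P.subtype.comp φ, ?_⟩
  ext g
  constructor
  · rintro ⟨w, rfl⟩
    exact (φ w).2
  · intro hg
    obtain ⟨w, hw⟩ := hφ ⟨g, hg⟩
    exact ⟨w, congrArg Subtype.val hw⟩

/-- **A self-dual core of type `PSp₄(3)` of degree ≤ 12, characteristic ≠ 2, 3, has degree 6.** -/
theorem sd_six (hC : Core P) (p : ℕ) [hp : Fact p.Prime] [CharP F p] (hp2 : p ≠ 2) (hp3 : p ≠ 3)
    (hn : Fintype.card ι ≤ 12) {k : Type*} [Field k] [Fintype k] (hk : Fintype.card k = 3)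
    (e : Soc P ≃* PSp 2 k) (hSD : SD P) : Fintype.card ι = 6 := by
  classical
  by_contra h6
  have hn2 := hC.two_le
  obtain ⟨φ', hrange⟩ := exists_hom hC hk e
  have hs := H920.span_eq_top hC.absIrred
  let A := AlgebraicClosure F
  have hinj : Function.Injective (algebraMap F A) := (algebraMap F A).injective
  have hne : ∀ q : ℕ, q.Prime → q ≠ p → (q : A) ≠ 0 := by
    intro q hq hqp h0
    have h4 : ((q : ℕ) : F) = 0 := by
      apply hinj
      rw [map_natCast, map_zero, h0]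
    rw [CharP.cast_eq_zero_iff F p] at h4
    exact hqp ((Nat.prime_dvd_prime_iff_eq hp.out hq).1 h4).symm
  have h2 : (2 : A) ≠ 0 := by exact_mod_cast hne 2 Nat.prime_two (Ne.symm hp2)
  have h3 : (3 : A) ≠ 0 := by exact_mod_cast hne 3 Nat.prime_three (Ne.symm hp3)
  have irr₁ := rp_irr A φ' hrange hs
  have hfr : Module.finrank A (ι → A) = Fintype.card ι := Module.finrank_fintype_fun_eq_card A
  obtain ⟨ω, w1, w2, w3⟩ := Triple.exists_omega h3
  have hω : Om ω := ⟨w1, w2, w3⟩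
  have R := rels (rp A φ')
  obtain ⟨m0, a, b, c, d, T⟩ := exists_ty R hω h3
  have hd := d_zero R hω h3 T (by rw [hfr]; exact hn)
  subst hd
  have hsign : (∀ v, (ops (rp A φ')).t1 ((ops (rp A φ')).t2 v) = v) ∨
      (∀ v, (ops (rp A φ')).t1 ((ops (rp A φ')).t2 v) = -v) := by
    simp only [t1t2_eq]
    exact neg_sign (rp A φ') irr₁
  have hab := ty_ne R hω h2 h3 T (irr_of _ irr₁) (by rw [hfr]; exact hn2) (by rw [hfr]; exact hn)
    (by rw [hfr]; exact h6) hsign
  obtain ⟨f1, f2⟩ := finrank_Ei R hω h3 T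
  -- the trace of a transvection
  have hz3 : ∀ v, rp A φ' (U 7 2) (rp A φ' (U 7 2) (rp A φ' (U 7 2) v)) = v := R.z1z1z1
  have hzi : (U 7 2 : Sp)⁻¹ = U 7 2 * U 7 2 := by
    rw [inv_eq_iff_mul_eq_one]
    exact Subtype.ext (by decide +kernel)
  have htr : LinearMap.trace A (ι → A) (rp A φ' (U 7 2) * rp A φ' (U 7 2)) =
      LinearMap.trace A (ι → A) (rp A φ' (U 7 2)) := by
    rw [← map_mul, ← hzi, trace_rp, trace_rp, map_inv]
    congr 1
    have hm : φ' (U 7 2) ∈ P := by rw [← hrange]; exact ⟨_, rfl⟩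
    exact hSD _ hm
  have h7 := trace_sub hω h3 hz3 htr
  have f1' : Module.finrank A (Ei (rp A φ' (U 7 2)) ω) = 3 * (a + c) := f1
  have f2' : Module.finrank A (Ei (rp A φ' (U 7 2)) (ω ^ 2)) = 3 * (b + c) := f2
  rw [f1', f2'] at h7
  have ht := T.tot
  rw [hfr] at ht
  -- in characteristic ≥ 5
  have h8 : (3 : A) * ((a : A) - b) = 0 := by
    have h7' : ((3 * (a + c) : ℕ) : A) = ((3 * (b + c) : ℕ) : A) := h7
    rw [Nat.cast_mul, Nat.cast_mul, Nat.cast_add, Nat.cast_add, Nat.cast_ofNat] at h7'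
    linear_combination h7'
  have h9 : (a : A) = b := sub_eq_zero.1 ((mul_eq_zero.1 h8).resolve_left h3)
  have hA : CharP A p := charP_of_injective_algebraMap hinj p
  have h10 : a ≡ b [MOD p] := (CharP.natCast_eq_natCast A p).1 h9
  have hp5 : 5 ≤ p := by
    have := hp.out.two_le
    by_contra hlt
    have h4 : p = 2 ∨ p = 3 ∨ p = 4 := by omega
    rcases h4 with h | h | h
    · exact hp2 h
    · exact hp3 h
    · rw [h] at hp
      exact absurd hp.out (by norm_num)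
  have h11 : a % p = b % p := h10
  rw [Nat.mod_eq_of_lt (by omega), Nat.mod_eq_of_lt (by omega)] at h11
  exact hab h11

/-- the same with `PSU₄(2)` -/
theorem sd_six' (hC : Core P) (p : ℕ) [hp : Fact p.Prime] [CharP F p] (hp2 : p ≠ 2) (hp3 : p ≠ 3)
    (hn : Fintype.card ι ≤ 12) {k : Type*} [Field k] [Fintype k] (hk : Fintype.card k = 4)
    (e : Soc P ≃* PSU 4 k 2) (hSD : SD P) : Fintype.card ι = 6 := by
  obtain ⟨e4⟩ := Cfsg.Agent.S0822.result (F := k) (K := ZMod 3) hk rfl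
  exact sd_six hC p hp2 hp3 hn (k := ZMod 3) rfl (e.trans e4) hSD

end main

end Cfsg.Agent.H659.Sp4
end
end
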