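import Mathlib
import Cfsg.Agent.H94.Sp.Base_m3
import Cfsg.Agent.KFacts.MM.OutAut
import Cfsg.Agent.KFacts.MM.Cent
import Cfsg.Agent.H635.SporTh31
import Cfsg.Agent.FastGrp
import Cfsg.Agent.Prune
set_option linter.all false

section
prune_inst 0x7f00000000000000000000000000000000000000000000000000000000000000000000000000000000000000000000000000000000000000000000000000000000000000000000000000000000000000003fffffffffffffffffffffffffffbeffbdffffffff

-- part: H581/HC
section
set_option linter.all false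
open scoped Cfsg.Agent.FastGrp

/-!
# Hall coverings (helper581, for S4388): the interface

* `IsHallFor σ H` : `H` is a Hall `σ`-subgroup (no prime of `σ` divides the index, only primes of `σ` divide the order);
* `HC S σ` : `2 ∈ σ`; no element of `S` has an order divisible by a prime in `σ` and a prime not in `σ`; some prime divisor
  of `|S|` is not in `σ`; **every element whose order is divisible by a prime in `σ` lies in a Hall `σ`-subgroup**;
* `HC.adj`, `HC.conn`, `HC.commute` : `σ` is closed under adjacency in the prime graph;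
* `HC.ne_top`, `HC.congr`, `IsHallFor.exists_conj_le` (a Hall `σ`-subgroup contains a conjugate of every `r`-subgroup, `r ∈ σ`).
-/

set_option autoImplicit false
set_option linter.unusedSectionVars false

namespace Cfsg.Agent.H581

open Subgroup

variable {S S' : Type*} [Group S] [Group S'] {σ : Set ℕ}

/-- `H` is a Hall `σ`-subgroup. -/
structure IsHallFor (σ : Set ℕ) (H : Subgroup S) : Prop where
  index : ∀ r : ℕ, r.Prime → r ∈ σ → ¬ r ∣ H.index
  card : ∀ r : ℕ, r.Prime → r ∣ Nat.card H → r ∈ σ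

/-- The Hall covering property of `S` for the set of primes `σ` containing `2`. -/
structure HC (S : Type*) [Group S] (σ : Set ℕ) : Prop where
  two : 2 ∈ σ
  iso : ∀ (g : S) (a b : ℕ), a.Prime → b.Prime → a ∣ orderOf g → b ∣ orderOf g → a ∈ σ → b ∈ σ
  ne : ∃ r : ℕ, r.Prime ∧ r ∣ Nat.card S ∧ r ∉ σ
  cov : ∀ (g : S) (a : ℕ), a.Prime → a ∣ orderOf g → a ∈ σ → ∃ H : Subgroup S, g ∈ H ∧ IsHallFor σ H

/-! ### Hall subgroups -/

theorem IsHallFor.map_equiv {H : Subgroup S} (h : IsHallFor σ H) (e : S ≃* S') :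
    IsHallFor σ (H.map e.toMonoidHom) := by
  refine ⟨fun r hr hrσ hd => h.index r hr hrσ ?_, fun r hr hd => h.card r hr ?_⟩
  · rwa [Subgroup.index_map_of_bijective e.bijective] at hd
  · rwa [← Nat.card_congr (H.equivMapOfInjective _ e.injective).toEquiv] at hd

theorem IsHallFor.conj {H : Subgroup S} (h : IsHallFor σ H) (g : S) :
    IsHallFor σ (H.map (MulAut.conj g).toMonoidHom) := h.map_equiv (MulAut.conj g)

/-- a Hall `σ`-subgroup contains a conjugate of every `r`-subgroup, `r ∈ σ` -/
theorem IsHallFor.exists_conj_le [Finite S] {H R : Subgroup S} (h : IsHallFor σ H) {r : ℕ} (hr : r.Prime) (hrσ : r ∈ σ)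
    (hR : IsPGroup r R) : ∃ g : S, R.map (MulAut.conj g).toMonoidHom ≤ H := by
  have : Fact r.Prime := ⟨hr⟩
  obtain ⟨P⟩ : Nonempty (Sylow r ↥H) := inferInstance
  let P' : Subgroup S := (P : Subgroup ↥H).map H.subtype
  have hP' : IsPGroup r P' := P.isPGroup'.map _
  have hidx : ¬ r ∣ P'.index := by
    have h1 : P'.index = (P : Subgroup ↥H).index * H.index := Subgroup.index_map_subtype (P : Subgroup ↥H)
    rw [h1, hr.dvd_mul]
    rintro (h2 | h2)
    · exact P.not_dvd_index h2
    · exact h.index r hr hrσ h2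
  obtain ⟨Q, hQ⟩ := hR.exists_le_sylow
  let P'' : Sylow r S := hP'.toSylow hidx
  obtain ⟨g, hg⟩ := MulAction.exists_smul_eq S Q P''
  refine ⟨g, ?_⟩
  have h3 : (g • Q : Sylow r S) = P'' := hg
  have h4 : ((g • Q : Sylow r S) : Subgroup S) ≤ H := by
    rw [h3]
    exact Subgroup.map_subtype_le _
  refine le_trans ?_ h4
  exact Subgroup.map_mono hQ

/-- the order of a Hall `σ`-subgroup, prime by prime -/
theorem IsHallFor.factorization [Finite S] {H : Subgroup S} (h : IsHallFor σ H) {r : ℕ} (hr : r.Prime) (hrσ : r ∈ σ) :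
    (Nat.card H).factorization r = (Nat.card S).factorization r := by
  have h1 : Nat.card H * H.index = Nat.card S := H.card_mul_index
  have h2 : H.index.factorization r = 0 := Nat.factorization_eq_zero_of_not_dvd (h.index r hr hrσ)
  rw [← h1, Nat.factorization_mul Nat.card_pos.ne' Subgroup.index_ne_zero_of_finite, Finsupp.add_apply, h2, add_zero]

theorem IsHallFor.dvd_card [Finite S] {H : Subgroup S} (h : IsHallFor σ H) {r k : ℕ} (hr : r.Prime) (hrσ : r ∈ σ)
    (hk : r ^ k ∣ Nat.card S) : r ^ k ∣ Nat.card H := by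
  rw [← H.card_mul_index] at hk
  exact Nat.Coprime.dvd_of_dvd_mul_right
    (Nat.Coprime.pow_left k ((Nat.Prime.coprime_iff_not_dvd hr).2 (h.index r hr hrσ))) hk

/-! ### the covering property -/

theorem HC.congr (e : S ≃* S') (h : HC S σ) : HC S' σ := by
  refine ⟨h.two, ?_, ?_, ?_⟩
  · intro g a b ha hb hda hdb haσ
    have h1 : orderOf (e.symm g) = orderOf g := MulEquiv.orderOf_eq e.symm g
    exact h.iso (e.symm g) a b ha hb (by rwa [h1]) (by rwa [h1]) haσ
  · obtain ⟨r, hr, hd, hn⟩ := h.ne
    exact ⟨r, hr, by rwa [← Nat.card_congr e.toEquiv], hn⟩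
  · intro g a ha hda haσ
    have h1 : orderOf (e.symm g) = orderOf g := MulEquiv.orderOf_eq e.symm g
    obtain ⟨H, hg, hH⟩ := h.cov (e.symm g) a ha (by rwa [h1]) haσ
    exact ⟨H.map e.toMonoidHom, ⟨e.symm g, hg, by simp⟩, hH.map_equiv e⟩

theorem HC.adj {a b : ℕ} (h : HC S σ) (ha : a ∈ σ) (hab : H94.PG.Adj S a b) : b ∈ σ := by
  obtain ⟨hap, hbp, hne, x, y, hx, hy, hc⟩ := hab
  have hco : (orderOf x).Coprime (orderOf y) := by
    rw [hx, hy]; exact (Nat.coprime_primes hap hbp).2 hne
  have h1 : orderOf (x * y) = a * b := by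
    rw [hc.orderOf_mul_eq_mul_orderOf_of_coprime hco, hx, hy]
  exact h.iso (x * y) a b hap hbp (by rw [h1]; exact dvd_mul_right _ _) (by rw [h1]; exact dvd_mul_left _ _) ha

/-- `σ` contains the component of each of its members -/
theorem HC.conn {a b : ℕ} (h : HC S σ) (ha : a ∈ σ) (hab : H94.PG.Conn S a b) : b ∈ σ := by
  induction hab with
  | refl => exact ha
  | tail _ hbc ih => exact h.adj ih hbc

/-- commuting elements -/
theorem HC.commute [Finite S] {a b : ℕ} (h : HC S σ) (ha : a ∈ σ) {x y : S} (hxy : Commute x y) (hap : a.Prime)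
    (hbp : b.Prime) (hx : a ∣ orderOf x) (hy : b ∣ orderOf y) : b ∈ σ := by
  rcases eq_or_ne a b with rfl | hne
  · exact ha
  · exact h.adj ha (H94.PG.adj_of_dvd hap hbp hne hxy hx hy (orderOf_pos x).ne' (orderOf_pos y).ne')

/-- the Hall subgroups of the covering are proper -/
theorem HC.ne_top {H : Subgroup S} (h : HC S σ) (hH : IsHallFor σ H) : H ≠ ⊤ := by
  rintro rfl
  obtain ⟨r, hr, hd, hn⟩ := h.ne
  refine hn (hH.card r hr ?_)
  rwa [Subgroup.card_top]

theorem HC.even_card [Finite S] (h : HC S σ) {H : Subgroup S} (hH : IsHallFor σ H) : ¬ 2 ∣ H.index :=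
  hH.index 2 Nat.prime_two h.two

/-- there is a Hall `σ`-subgroup if `|S|` is even -/
theorem HC.exists_hall [Finite S] (h : HC S σ) (h2 : 2 ∣ Nat.card S) : ∃ H : Subgroup S, IsHallFor σ H := by
  have : Fact (Nat.Prime 2) := ⟨Nat.prime_two⟩
  obtain ⟨x, hx⟩ := exists_prime_orderOf_dvd_card' (G := S) 2 h2
  obtain ⟨H, -, hH⟩ := h.cov x 2 Nat.prime_two (by rw [hx]) h.two
  exact ⟨H, hH⟩

/-- all Hall `σ`-subgroups have the same order -/
theorem IsHallFor.card_eq [Finite S] {H K : Subgroup S} (hH : IsHallFor σ H) (hK : IsHallFor σ K) :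
    Nat.card H = Nat.card K := by
  refine Nat.eq_of_factorization_eq Nat.card_pos.ne' Nat.card_pos.ne' fun r => ?_
  by_cases hr : r.Prime
  · by_cases hrσ : r ∈ σ
    · rw [hH.factorization hr hrσ, hK.factorization hr hrσ]
    · rw [Nat.factorization_eq_zero_of_not_dvd fun hd => hrσ (hH.card r hr hd),
        Nat.factorization_eq_zero_of_not_dvd fun hd => hrσ (hK.card r hr hd)]
  · rw [Nat.factorization_eq_zero_of_not_prime _ hr, Nat.factorization_eq_zero_of_not_prime _ hr]

/-- a normal `σ`-subgroup is contained in every Hall `σ`-subgroup -/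
theorem IsHallFor.normal_le [Finite S] {H N : Subgroup S} (hH : IsHallFor σ H) [N.Normal]
    (hN : ∀ r : ℕ, r.Prime → r ∣ Nat.card N → r ∈ σ) : N ≤ H := by
  have hle : H ≤ H ⊔ N := le_sup_left
  have h2 : H.relIndex (H ⊔ N) = 1 := by
    by_contra hne
    obtain ⟨r, hr, hd⟩ := Nat.exists_prime_and_dvd hne
    have h3 : r ∣ H.index := hd.trans (Subgroup.relIndex_dvd_index_of_le hle)
    have h4 : r ∣ Nat.card ↥(H ⊔ N) := hd.trans (Subgroup.relIndex_dvd_card H (H ⊔ N))
    have h5 : Nat.card N * N.relIndex H = Nat.card ↥(H ⊔ N) := by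
      rw [← Subgroup.relIndex_sup_right H N, Subgroup.relIndex,
        ← Nat.card_congr (Subgroup.subgroupOfEquivOfLe (le_sup_right : N ≤ H ⊔ N)).toEquiv]
      exact (N.subgroupOf (H ⊔ N)).card_mul_index
    rw [← h5, hr.dvd_mul] at h4
    have h6 : r ∈ σ := by
      rcases h4 with h4 | h4
      · exact hN r hr h4
      · exact hH.card r hr (h4.trans (Subgroup.relIndex_dvd_card N H))
    exact hH.index r hr h6 h3
  exact le_sup_right.trans (Subgroup.relIndex_eq_one.1 h2)

end Cfsg.Agent.H581
end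

-- part: H937/HCM22
section
set_option linter.all false
open scoped Cfsg.Agent.FastGrp

-- part: H937/HCGen
section
/-!
# Hall coverings of almost simple groups: generalities (helper937, for S4388)
-/

set_option autoImplicit false

namespace Cfsg.Agent.H937.HCGen

open Cfsg.Agent.H581

variable {X : Type*} [Group X] {σ : Set ℕ} {S : Subgroup X}

theorem relIndex_dvd_index [Finite X] (H S : Subgroup X) [S.Normal] : H.relIndex S ∣ H.index := by
  have h1 : Nat.card ↥(S ⊔ H) = Nat.card S * S.relIndex (S ⊔ H) := by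
    rw [Subgroup.relIndex, ← Nat.card_congr (Subgroup.subgroupOfEquivOfLe (le_sup_left : S ≤ S ⊔ H)).toEquiv]
    exact (S.subgroupOf (S ⊔ H)).card_mul_index.symm
  have h2 : Nat.card ↥(S ⊔ H) = Nat.card H * H.relIndex (S ⊔ H) := by
    rw [Subgroup.relIndex, ← Nat.card_congr (Subgroup.subgroupOfEquivOfLe (le_sup_right : H ≤ S ⊔ H)).toEquiv]
    exact (H.subgroupOf (S ⊔ H)).card_mul_index.symm
  have h3 : S.relIndex (S ⊔ H) = S.relIndex H := by
    rw [sup_comm, Subgroup.relIndex_sup_right]
  have h4 : Nat.card (H.subgroupOf S) * H.relIndex S = Nat.card S := (H.subgroupOf S).card_mul_index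
  have h5 : Nat.card (S.subgroupOf H) * S.relIndex H = Nat.card H := (S.subgroupOf H).card_mul_index
  have h6 : Nat.card (H.subgroupOf S) = Nat.card (S.subgroupOf H) := by
    rw [← Subgroup.inf_subgroupOf_right H S, ← Subgroup.inf_subgroupOf_left S H,
      Nat.card_congr (Subgroup.subgroupOfEquivOfLe (inf_le_right : H ⊓ S ≤ S)).toEquiv,
      Nat.card_congr (Subgroup.subgroupOfEquivOfLe (inf_le_left : H ⊓ S ≤ H)).toEquiv]
  have h7 : H.relIndex S = H.relIndex (S ⊔ H) := by
    rw [h3, ← h4, h6] at h1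
    rw [← h5, h1] at h2
    have h8 : 0 < Nat.card (S.subgroupOf H) * S.relIndex H := by rw [h5]; exact Nat.card_pos
    apply Nat.eq_of_mul_eq_mul_left h8
    rw [← h2]; ring
  rw [h7]
  exact Subgroup.relIndex_dvd_index_of_le le_sup_right

/-- a Hall subgroup of `X` cuts the normal subgroup `S` in a Hall subgroup of `S` -/
theorem hall_inf [Finite X] [S.Normal] {H : Subgroup X} (h : IsHallFor σ H) : IsHallFor σ (H.subgroupOf S) := by
  refine ⟨fun r hr hrσ hd => h.index r hr hrσ ?_, fun r hr hd => h.card r hr ?_⟩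
  · exact hd.trans (relIndex_dvd_index H S)
  · refine hd.trans ?_
    have h1 : Nat.card (H.subgroupOf S) = Nat.card ((H ⊓ S : Subgroup X)) := by
      rw [← Subgroup.inf_subgroupOf_right]
      exact Nat.card_congr (Subgroup.subgroupOfEquivOfLe inf_le_right).toEquiv
    rw [h1]
    exact Subgroup.card_dvd_of_le inf_le_left

/-- a prime divisor of `|S|` outside `σ` -/
theorem exists_not_mem (hσ : ∀ r : ℕ, r.Prime → r ∣ S.index → r ∈ σ) (hc : HC X σ) :
    ∃ r : ℕ, r.Prime ∧ r ∣ Nat.card S ∧ r ∉ σ := by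
  obtain ⟨r, hr, hd, hn⟩ := hc.ne
  refine ⟨r, hr, ?_, hn⟩
  rw [← S.card_mul_index, hr.dvd_mul] at hd
  rcases hd with hd | hd
  · exact hd
  · exact absurd (hσ r hr hd) hn

theorem hall_ne_top [Finite X] [S.Normal] (hσ : ∀ r : ℕ, r.Prime → r ∣ S.index → r ∈ σ) (hc : HC X σ) {H : Subgroup X}
    (h : IsHallFor σ H) : H.subgroupOf S ≠ ⊤ := by
  intro htop
  obtain ⟨r, hr, hd, hn⟩ := exists_not_mem hσ hc
  refine hn ((hall_inf (S := S) h).card r hr ?_)
  rwa [htop, Subgroup.card_top]

theorem sup_eq_top (hσ : ∀ r : ℕ, r.Prime → r ∣ S.index → r ∈ σ) {H : Subgroup X}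
    (h : IsHallFor σ H) : H ⊔ S = ⊤ := by
  rw [← Subgroup.index_eq_one]
  by_contra hne
  obtain ⟨r, hr, hd⟩ := Nat.exists_prime_and_dvd hne
  exact h.index r hr (hσ r hr (hd.trans (Subgroup.index_dvd_of_le le_sup_right)))
    (hd.trans (Subgroup.index_dvd_of_le le_sup_left))

/-- if all elements of order `p` of `S` are conjugate in `S < X`, then `p ∈ σ` -/
theorem mem_of_conj [Finite X] [S.Normal] (hS : S ≠ ⊤) (hσ : ∀ r : ℕ, r.Prime → r ∣ S.index → r ∈ σ) (hc : HC X σ)
    {p : ℕ} (hp : p.Prime) (hex : p ∣ Nat.card S)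
    (hconj : ∀ x y : S, orderOf x = p → orderOf y = p → IsConj x y) : p ∈ σ := by
  have : Fact p.Prime := ⟨hp⟩
  obtain ⟨x, hx⟩ := exists_prime_orderOf_dvd_card' (G := S) p hex
  have hidx : S.index ≠ 1 := fun h => hS (Subgroup.index_eq_one.1 h)
  obtain ⟨t, ht, htd⟩ := Nat.exists_prime_and_dvd hidx
  have htσ : t ∈ σ := hσ t ht htd
  -- `C_X(x)` covers `X / S`
  let f : Subgroup.centralizer ({(x : X)} : Set X) →* X ⧸ S := (QuotientGroup.mk' S).comp (Subgroup.subtype _)
  have hf : Function.Surjective f := by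
    intro y
    obtain ⟨g, rfl⟩ := QuotientGroup.mk_surjective y
    have h1 : orderOf (⟨g * x * g⁻¹, (inferInstance : S.Normal).conj_mem x x.2 g⟩ : S) = p := by
      rw [← Subgroup.orderOf_coe, ← hx, ← Subgroup.orderOf_coe x]
      exact (MulEquiv.orderOf_eq (MulAut.conj g) (x : X))
    obtain ⟨s, hs⟩ := isConj_iff.1 (hconj x _ hx h1)
    have h2 : (s : X) * x * (s : X)⁻¹ = g * x * g⁻¹ := congrArg Subtype.val hs
    have h3 : (s : X)⁻¹ * g ∈ Subgroup.centralizer ({(x : X)} : Set X) := by
      rw [Subgroup.mem_centralizer_singleton_iff]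
      have h4 : (s : X) * x * (s : X)⁻¹ * g = g * x := by rw [h2]; group
      calc (s : X)⁻¹ * g * x = (s : X)⁻¹ * (g * x) := by group
        _ = (s : X)⁻¹ * ((s : X) * x * (s : X)⁻¹ * g) := by rw [h4]
        _ = x * ((s : X)⁻¹ * g) := by group
    refine ⟨⟨_, h3⟩, ?_⟩
    show ((((s : X)⁻¹ * g : X)) : X ⧸ S) = (g : X ⧸ S)
    rw [QuotientGroup.mk_mul, QuotientGroup.mk_inv, (QuotientGroup.eq_one_iff (s : X)).2 s.2, inv_one, one_mul]
  have h5 : Nat.card (X ⧸ S) ∣ Nat.card (Subgroup.centralizer ({(x : X)} : Set X)) :=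
    Subgroup.card_dvd_of_surjective f hf
  have : Fact t.Prime := ⟨ht⟩
  obtain ⟨y, hy⟩ := exists_prime_orderOf_dvd_card' (G := Subgroup.centralizer ({(x : X)} : Set X)) t (htd.trans h5)
  refine hc.commute htσ (x := (y : X)) (y := (x : X)) ?_ ht hp ?_ ?_
  · exact (Subgroup.mem_centralizer_singleton_iff.1 y.2)
  · rw [Subgroup.orderOf_coe, hy]
  · rw [Subgroup.orderOf_coe, hx]

end Cfsg.Agent.H937.HCGen
end

-- part: H937/HCM22
section
/-!
# `Aut(M22)` has no Hall covering (helper937, for S4388)
-/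

set_option autoImplicit false

namespace Cfsg.Agent.H937.HCM22

open Cfsg Cfsg.Agent.SporadicA.GolayBase Cfsg.Agent.SporadicA.GolayPerm
open Cfsg.Agent.KFacts.MM.El Cfsg.Agent.KFacts.MM.Sub
open Cfsg.Agent.J4Type.Aut22 (D22 mem_D22_iff M22_le_D22 card_D22)
open Cfsg.Agent.H581 Cfsg.Agent.H937.HCGen

/-- the involution and the element of order 7 -/
def A7 : ℕ := 26070786408970238771869303816967383
def B7 : ℕ := 969882090181696397478823866598181376
/-- the involution and the element of order 5 -/
def A5 : ℕ := 10469587675279712673148643472725623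
def B5 : ℕ := 981850654835269645372321212595082272
/-- the involution and the element of order 3 -/
def A3 : ℕ := 970050117505640693923058692703490368
def B3 : ℕ := 962046806486857785381032192834261024

theorem mem_swap {P : ℕ} (h1 : isPerm P = true) (h2 : isAut P = true) (h3 : papp P 23 = 0) (h4 : papp P 0 = 23) :
    pm P ∈ D22 := by
  have hn : pm P none = some 0 := by
    have h5 := val_pm h1 (i := 23) (by norm_num)
    rw [h3] at h5
    have h6 := pt_val (pm P) 23
    rw [h5] at h6
    exact h6.symm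
  have h0 : pm P (some 0) = none := by
    have h5 := val_pm h1 (i := 0) (by norm_num)
    rw [h4] at h5
    have h6 := pt_val (pm P) 0
    rw [h5] at h6
    exact h6.symm
  exact (mem_D22_iff _).2 ⟨pm_mem_M24 h1 h2, Or.inr ⟨hn, h0⟩⟩

theorem mem_fix {P : ℕ} (h1 : isPerm P = true) (h2 : isAut P = true) (h3 : papp P 23 = 23) (h4 : papp P 0 = 0) :
    pm P ∈ D22 := by
  have hn : pm P none = none := by
    have h5 := val_pm h1 (i := 23) (by norm_num)
    rw [h3] at h5
    have h6 := pt_val (pm P) 23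
    rw [h5] at h6
    exact h6.symm
  have h0 : pm P (some 0) = some 0 := by
    have h5 := val_pm h1 (i := 0) (by norm_num)
    rw [h4] at h5
    have h6 := pt_val (pm P) 0
    rw [h5] at h6
    exact h6.symm
  exact (mem_D22_iff _).2 ⟨pm_mem_M24 h1 h2, Or.inl ⟨hn, h0⟩⟩

theorem order_of {P : ℕ} (h1 : isPerm P = true) {p : ℕ} (hp : p.Prime) (l : List ℕ) (hl : okl l = true)
    (hpr : pr l = pm P ^ p) (h2 : weq l [] = true) (h3 : weq [P] [] = false) : orderOf (pm P) = p := by
  have : Fact p.Prime := ⟨hp⟩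
  refine orderOf_eq_prime ?_ ?_
  · rw [← hpr, pr_of_weq hl rfl h2, pr_nil]
  · rw [← pr_one, ← pr_nil]
    exact pr_ne (okl1 h1) rfl h3

theorem comm_of {P Q : ℕ} (h1 : isPerm P = true) (h2 : isPerm Q = true) (h : weq [P, Q] [Q, P] = true) :
    Commute (pm P) (pm Q) := by
  have h3 := pr_of_weq (okl2 h1 h2) (okl2 h2 h1) h
  show pm P * pm Q = pm Q * pm P
  simpa [pr] using h3

theorem A7_mem : pm A7 ∈ D22 := mem_swap (by decide +kernel) (by decide +kernel) (by decide +kernel) (by decide +kernel)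
theorem A5_mem : pm A5 ∈ D22 := mem_swap (by decide +kernel) (by decide +kernel) (by decide +kernel) (by decide +kernel)
theorem A3_mem : pm A3 ∈ D22 := mem_fix (by decide +kernel) (by decide +kernel) (by decide +kernel) (by decide +kernel)
theorem B7_mem : pm B7 ∈ D22 := mem_fix (by decide +kernel) (by decide +kernel) (by decide +kernel) (by decide +kernel)
theorem B5_mem : pm B5 ∈ D22 := mem_fix (by decide +kernel) (by decide +kernel) (by decide +kernel) (by decide +kernel)
theorem B3_mem : pm B3 ∈ D22 := mem_fix (by decide +kernel) (by decide +kernel) (by decide +kernel) (by decide +kernel)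

theorem A7_ord : orderOf (pm A7) = 2 := order_of (by decide +kernel) Nat.prime_two [A7, A7] (by decide +kernel)
  (by simp [pr, pow_succ, mul_assoc]) (by decide +kernel) (by decide +kernel)
theorem A5_ord : orderOf (pm A5) = 2 := order_of (by decide +kernel) Nat.prime_two [A5, A5] (by decide +kernel)
  (by simp [pr, pow_succ, mul_assoc]) (by decide +kernel) (by decide +kernel)
theorem A3_ord : orderOf (pm A3) = 2 := order_of (by decide +kernel) Nat.prime_two [A3, A3] (by decide +kernel)
  (by simp [pr, pow_succ, mul_assoc]) (by decide +kernel) (by decide +kernel)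
theorem B7_ord : orderOf (pm B7) = 7 := order_of (by decide +kernel) (by norm_num) [B7, B7, B7, B7, B7, B7, B7]
  (by decide +kernel) (by simp [pr, pow_succ, mul_assoc]) (by decide +kernel) (by decide +kernel)
theorem B5_ord : orderOf (pm B5) = 5 := order_of (by decide +kernel) (by norm_num) [B5, B5, B5, B5, B5]
  (by decide +kernel) (by simp [pr, pow_succ, mul_assoc]) (by decide +kernel) (by decide +kernel)
theorem B3_ord : orderOf (pm B3) = 3 := order_of (by decide +kernel) (by norm_num) [B3, B3, B3]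
  (by decide +kernel) (by simp [pr, pow_succ, mul_assoc]) (by decide +kernel) (by decide +kernel)

theorem comm7 : Commute (pm A7) (pm B7) := comm_of (by decide +kernel) (by decide +kernel) (by decide +kernel)
theorem comm5 : Commute (pm A5) (pm B5) := comm_of (by decide +kernel) (by decide +kernel) (by decide +kernel)
theorem comm3 : Commute (pm A3) (pm B3) := comm_of (by decide +kernel) (by decide +kernel) (by decide +kernel)

/-- `X` is isomorphic to `M22 : 2` -/
theorem exists_theta {X : Type*} [Group X] [Finite X] {S : Subgroup X} [S.Normal]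
    (hC : Subgroup.centralizer (S : Set X) = ⊥) (hS : S ≠ ⊤) (h : Spor.IsoM22 S) :
    ∃ θ : X →* Equiv.Perm GolayPt, Function.Injective θ ∧ θ.range = D22 := by
  obtain ⟨ι, hi, hr, -⟩ := Cfsg.Agent.KFacts.MM.OutAut.exists_iota h
  have hcard : Nat.card S = 443520 := by
    obtain ⟨e⟩ := h
    rw [Nat.card_congr e.toEquiv, SporadicA.MathieuRecog.card_M22]
  refine ⟨ι.comp MulAut.conjNormal, ?_, ?_⟩
  · refine hi.comp ((injective_iff_map_eq_one _).2 fun g hg => ?_)
    have h1 : g ∈ Subgroup.centralizer (S : Set X) := by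
      rw [Subgroup.mem_centralizer_iff]
      intro s hs
      have h2 : g * s * g⁻¹ = s := by
        have h3 : (MulAut.conjNormal g : MulAut S) ⟨s, hs⟩ = ⟨s, hs⟩ := by rw [hg]; rfl
        have h4 := congrArg Subtype.val h3
        rwa [MulAut.conjNormal_apply] at h4
      calc s * g = g * s * g⁻¹ * g := by rw [h2]
        _ = g * s := by group
    rw [hC] at h1
    exact Subgroup.mem_bot.1 h1
  · have hinj : Function.Injective (ι.comp (MulAut.conjNormal : X →* MulAut S)) := by
      refine hi.comp ((injective_iff_map_eq_one _).2 fun g hg => ?_)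
      have h1 : g ∈ Subgroup.centralizer (S : Set X) := by
        rw [Subgroup.mem_centralizer_iff]
        intro s hs
        have h2 : g * s * g⁻¹ = s := by
          have h3 : (MulAut.conjNormal g : MulAut S) ⟨s, hs⟩ = ⟨s, hs⟩ := by rw [hg]; rfl
          have h4 := congrArg Subtype.val h3
          rwa [MulAut.conjNormal_apply] at h4
        calc s * g = g * s * g⁻¹ * g := by rw [h2]
          _ = g * s := by group
      rw [hC] at h1
      exact Subgroup.mem_bot.1 h1
    apply Subgroup.eq_of_le_of_card_ge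
    · rw [← hr]
      rintro _ ⟨g, rfl⟩
      exact ⟨_, rfl⟩
    · rw [card_D22, ← Nat.card_congr (MonoidHom.ofInjective hinj).toEquiv, ← S.card_mul_index, hcard]
      have h5 : S.index ≠ 1 := fun h => hS (Subgroup.index_eq_one.1 h)
      have h6 : S.index ≠ 0 := Subgroup.index_ne_zero_of_finite
      have h7 : 2 ≤ S.index := by omega
      calc 887040 = 443520 * 2 := by norm_num
        _ ≤ 443520 * S.index := Nat.mul_le_mul_left _ h7

/-- an almost simple group with socle `M22`, different from it, has no Hall covering -/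
theorem not_M22 {X : Type*} [Group X] [Finite X] {σ : Set ℕ} {S : Subgroup X} [S.Normal]
    (hC : Subgroup.centralizer (S : Set X) = ⊥)
    (hS : S ≠ ⊤) (hσ : ∀ r : ℕ, r.Prime → r ∣ S.index → r ∈ σ) (hc : HC X σ) (h : Spor.IsoM22 S) : False := by
  obtain ⟨θ, hi, hr⟩ := exists_theta hC hS h
  have hcard : Nat.card S = 443520 := by
    obtain ⟨e⟩ := h
    rw [Nat.card_congr e.toEquiv, SporadicA.MathieuRecog.card_M22]
  have hsimple : IsSimpleGroup S := by
    obtain ⟨e⟩ := h
    have := SporadicA.MathieuRecog.simple_M22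
    exact (MulEquiv.isSimpleGroup_congr e).2 this
  have key : ∀ {a b : Equiv.Perm GolayPt} {p : ℕ}, p.Prime → a ∈ D22 → b ∈ D22 → orderOf a = 2 → orderOf b = p →
      Commute a b → p ∈ σ := by
    intro a b p hp ha hb hoa hob hab
    rw [← hr] at ha hb
    obtain ⟨x, rfl⟩ := ha
    obtain ⟨y, rfl⟩ := hb
    rw [orderOf_injective θ hi] at hoa hob
    refine hc.commute hc.two (x := x) (y := y) (hi ?_) Nat.prime_two hp (by rw [hoa]) (by rw [hob])
    rw [map_mul, map_mul]
    exact hab
  have h7 : 7 ∈ σ := key (by norm_num) A7_mem B7_mem A7_ord B7_ord comm7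
  have h5 : 5 ∈ σ := key (by norm_num) A5_mem B5_mem A5_ord B5_ord comm5
  have h3 : 3 ∈ σ := key (by norm_num) A3_mem B3_mem A3_ord B3_ord comm3
  obtain ⟨L, hL⟩ := hc.exists_hall (by
    have h2 : 2 ∣ Nat.card S := by rw [hcard]; norm_num
    exact h2.trans (Subgroup.card_subgroup_dvd_card S))
  have hLS := hall_inf (S := S) hL
  have hne := hall_ne_top hσ hc hL
  have hidx : (L.subgroupOf S).index ∣ 443520 := by
    rw [← hcard]
    exact (L.subgroupOf S).index_dvd_card
  have hcop : (L.subgroupOf S).index.Coprime 40320 := by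
    have h1 : (40320 : ℕ) = 2 ^ 7 * (3 ^ 2 * (5 * 7)) := by norm_num
    have hc' : ∀ r : ℕ, r.Prime → r ∈ σ → (L.subgroupOf S).index.Coprime r := fun r hr hrσ =>
      ((Nat.Prime.coprime_iff_not_dvd hr).2 (hLS.index r hr hrσ)).symm
    rw [h1]
    exact Nat.Coprime.mul_right (Nat.Coprime.pow_right _ (hc' 2 Nat.prime_two hc.two))
      (Nat.Coprime.mul_right (Nat.Coprime.pow_right _ (hc' 3 Nat.prime_three h3))
        (Nat.Coprime.mul_right (hc' 5 Nat.prime_five h5) (hc' 7 (by norm_num) h7)))
  have h11 : (L.subgroupOf S).index ∣ 11 := by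
    have h1 : (443520 : ℕ) = 40320 * 11 := by norm_num
    rw [h1] at hidx
    exact hcop.dvd_of_dvd_mul_left hidx
  rcases (Nat.dvd_prime (by norm_num)).1 h11 with h1 | h1
  · exact hne (Subgroup.index_eq_one.1 h1)
  · have h2 := Cfsg.Agent.H964.NoHall.factorial_le_of_prime_index (q := 11) (r := 7) (by norm_num) h1 (by norm_num)
      (by norm_num) (by norm_num) (by rw [hcard]; norm_num)
    rw [hcard] at h2
    have h3 : (11 : ℕ).factorial = 39916800 := by decide +kernel
    omega

end Cfsg.Agent.H937.HCM22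
end

private theorem dce_5b02457b2329 : _root_.True := by
  try have : _root_.True := by simp only [_root_.Cfsg.Agent.KFacts.MM.El.pr.eq_1]
  exact _root_.True.intro
end
end
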