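import Cfsg.Agent.H937.T2Rep_m3
import Cfsg.Agent.H882.Del.Stein
import Cfsg.Agent.S0242
import Cfsg.Agent.H464.L2StageOne_m3
import Cfsg.Agent.H920.SympD
import Cfsg.Agent.H875.TwoQuad
import Cfsg.Agent.FastGrp
import Cfsg.Agent.Prune
set_option linter.all false
prune_inst 0x7ff3edfbfbfcf9dfdfff7e7fa6decffdfdbb3fffe6dff9cbffe061ff2bdf6b92c9e56b8d8beb13fe1ef6e21410fc7bc3fdffdeffe86bfc7ffffdfff41ffbffcfedf73508519e88b40fbc0ff703f0678e7f3fffffffffffffffffffffffffffbeffbfffffffff
open scoped Cfsg.Agent.FastGrp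

-- part: H937/T2Stein
section
/-!
# `PSL₂(q)` in dimension `q` lies in `A_{q+1}` (helper937)

`ρ : SL₂(E) → GL(ι, F)` with range `P`, `v0` fixed by the Borel subgroup and unique (up to scalars) fixed by `U`,
`|ι| = |E|`: if `P` is the residual core of a maximal subgroup of `Ω(Q)` then `Soc P ≃ A_{q+1}`.
-/

set_option autoImplicit false
set_option linter.unusedSectionVars false

namespace Cfsg.Agent.H937.T2

open Matrix Module Cfsg Cfsg.Geo Cfsg.Agent.H915.LD Cfsg.Agent.H464.Sl2
open Cfsg.Agent.LieClassical.OrthCore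

universe u' v'

variable {ι : Type} [Fintype ι] [DecidableEq ι] {F : Type u'} [Field F] {P : Subgroup (GL ι F)}
  {E : Type v'} [Field E]

/-- A Borel-fixed vector, unique up to scalars among the `U`-fixed vectors. -/
structure Stein (ρ : _root_.Matrix.SpecialLinearGroup (Fin 2) E →* GL ι F) (v0 : ι → F) : Prop where
  ne : v0 ≠ 0
  fix_u : ∀ x : E, (ρ (u x) : Matrix ι ι F) *ᵥ v0 = v0
  fix_t : ∀ a : Eˣ, (ρ (t a) : Matrix ι ι F) *ᵥ v0 = v0
  uniq : ∀ v : ι → F, (∀ x : E, (ρ (u x) : Matrix ι ι F) *ᵥ v = v) → ∃ c : F, v = c • v0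

variable {ρ : _root_.Matrix.SpecialLinearGroup (Fin 2) E →* GL ι F} {v0 : ι → F}

theorem mul_vec (a b : _root_.Matrix.SpecialLinearGroup (Fin 2) E) (v : ι → F) :
    (ρ (a * b) : Matrix ι ι F) *ᵥ v = (ρ a : Matrix ι ι F) *ᵥ ((ρ b : Matrix ι ι F) *ᵥ v) := by
  rw [map_mul, Units.val_mul, Matrix.mulVec_mulVec]

theorem eq_of_inv {a : _root_.Matrix.SpecialLinearGroup (Fin 2) E} {v w : ι → F} (h : (ρ a : Matrix ι ι F) *ᵥ v = w) :
    (ρ a⁻¹ : Matrix ι ι F) *ᵥ w = v := by
  rw [← h, ← mul_vec, inv_mul_cancel, map_one, Units.val_one, Matrix.one_mulVec]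

theorem w_eq (c : Eˣ) : w c = w 1 * t c := (w_one_mul_t c).symm

theorem Stein.big (S : Stein ρ v0) (x y : E) (c : Eˣ) :
    (ρ (u x * w c * u y) : Matrix ι ι F) *ᵥ v0 = (ρ (u x) : Matrix ι ι F) *ᵥ ((ρ (w 1) : Matrix ι ι F) *ᵥ v0) := by
  rw [mul_vec, mul_vec, S.fix_u, w_eq, mul_vec, S.fix_t]

theorem Stein.small (S : Stein ρ v0) (x : E) (a : Eˣ) : (ρ (u x * t a) : Matrix ι ι F) *ᵥ v0 = v0 := by
  rw [mul_vec, S.fix_t, S.fix_u]

theorem Stein.w_ne (S : Stein ρ v0) (hρ : ρ.range = P) (hC : Core P) : (ρ (w 1) : Matrix ι ι F) *ᵥ v0 ≠ v0 := by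
  intro hw
  have hall : ∀ g ∈ P, (g : Matrix ι ι F) *ᵥ v0 = v0 := by
    intro g hg
    rw [← hρ] at hg
    obtain ⟨x, rfl⟩ := hg
    rcases bruhat x with ⟨x, a, rfl⟩ | ⟨x, c, y, rfl⟩
    · exact S.small x a
    · rw [S.big, hw, S.fix_u]
  have h2 := hC.two_le
  rcases hC.absIrred.1 (Submodule.span F {v0}) (by
    rintro _ ⟨g, hg, rfl⟩ _ ⟨w, hw, rfl⟩
    obtain ⟨c, rfl⟩ := Submodule.mem_span_singleton.1 hw
    rw [Matrix.toLin'_apply, Matrix.mulVec_smul, hall g hg]
    exact Submodule.smul_mem _ _ (Submodule.mem_span_singleton_self _)) with h | h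
  · exact S.ne (Submodule.span_singleton_eq_bot.1 h)
  · have h1 := finrank_span_singleton (K := F) S.ne
    rw [h, finrank_top, Module.finrank_fintype_fun_eq_card] at h1
    omega

/-- the stabiliser of `v0` in `P` -/
def stab (P : Subgroup (GL ι F)) (v0 : ι → F) : Subgroup P where
  carrier := {g | ((g : GL ι F) : Matrix ι ι F) *ᵥ v0 = v0}
  mul_mem' := by
    intro a b ha hb
    change (((a * b : P) : GL ι F) : Matrix ι ι F) *ᵥ v0 = v0
    rw [Subgroup.coe_mul, Units.val_mul, ← Matrix.mulVec_mulVec]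
    rw [show ((b : GL ι F) : Matrix ι ι F) *ᵥ v0 = v0 from hb, show ((a : GL ι F) : Matrix ι ι F) *ᵥ v0 = v0 from ha]
  one_mem' := by
    change (((1 : P) : GL ι F) : Matrix ι ι F) *ᵥ v0 = v0
    rw [Subgroup.coe_one, Units.val_one, Matrix.one_mulVec]
  inv_mem' := by
    intro a ha
    change (((a⁻¹ : P) : GL ι F) : Matrix ι ι F) *ᵥ v0 = v0
    have ha' : ((a : GL ι F) : Matrix ι ι F) *ᵥ v0 = v0 := ha
    conv_lhs => rw [← ha']
    rw [Matrix.mulVec_mulVec, ← Units.val_mul, ← Subgroup.coe_mul, inv_mul_cancel, Subgroup.coe_one, Units.val_one,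
      Matrix.one_mulVec]

theorem mem_stab {g : P} : g ∈ stab P v0 ↔ ((g : GL ι F) : Matrix ι ι F) *ᵥ v0 = v0 := Iff.rfl

theorem exists_big {x y : E} (hxy : x ≠ y) :
    ∃ (a : E) (c : Eˣ) (b : E), (u x * w 1)⁻¹ * (u y * w 1) = u a * w c * u b := by
  have hz : y - x ≠ 0 := sub_ne_zero.2 (Ne.symm hxy)
  have e1 : (w (1 : Eˣ))⁻¹ = w (-1) := by
    rw [inv_eq_iff_mul_eq_one, w_mul_w]
    have : (-(-1 / 1) : Eˣ) = 1 := by rw [div_one, neg_neg]
    rw [this, t_one]
  have e2 : (u x : _root_.Matrix.SpecialLinearGroup (Fin 2) E)⁻¹ = u (-x) := by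
    rw [inv_eq_iff_mul_eq_one, ← u_add, add_neg_cancel, u_zero]
  have e3 : (u x * w 1)⁻¹ * (u y * w 1) = w (-1) * u ((Units.mk0 _ hz : Eˣ) : E) * w 1 := by
    rw [_root_.mul_inv_rev, e1, e2, mul_assoc, ← mul_assoc (u (-x)), ← u_add, ← mul_assoc, Units.val_mk0]
    have : -x + y = y - x := by ring
    rw [this]
  rw [e3, w_u_w]
  exact ⟨_, _, _, rfl⟩

section index

variable (S : Stein ρ v0) (hρ : ρ.range = P) (hC : Core P)

include hρ in
theorem mem_P (g : _root_.Matrix.SpecialLinearGroup (Fin 2) E) : ρ g ∈ P := by rw [← hρ]; exact ⟨g, rfl⟩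

include S hρ hC

/-- big cell elements do not fix `v0` -/
theorem not_big (x y : E) (c : Eˣ) : (ρ (u x * w c * u y) : Matrix ι ι F) *ᵥ v0 ≠ v0 := by
  intro h
  rw [S.big] at h
  apply S.w_ne hρ hC
  have h1 := eq_of_inv h
  have h2 := eq_of_inv (S.fix_u x)
  rw [h2] at h1
  exact h1.symm

/-- representatives of the cosets -/
def rep (E : Type v') [Field E] : Option E → _root_.Matrix.SpecialLinearGroup (Fin 2) E
  | none => 1
  | some x => u x * w 1

omit S hρ hC in
theorem exists_rep_mul (g : _root_.Matrix.SpecialLinearGroup (Fin 2) E) :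
    ∃ (o : Option E) (x : E) (a : Eˣ) (b : Bool), g = rep E o * (if b then u x * t a else t a * u x) := by
  rcases bruhat g with ⟨x, a, rfl⟩ | ⟨x, c, y, rfl⟩
  · exact ⟨none, x, a, true, by simp [rep]⟩
  · refine ⟨some x, y, c, false, ?_⟩
    simp only [rep, Bool.false_eq_true, if_false]
    rw [w_eq c]
    group

theorem rep_sep {o o' : Option E} (h : o ≠ o') :
    (ρ ((rep E o)⁻¹ * rep E o') : Matrix ι ι F) *ᵥ v0 ≠ v0 := by
  have key : ∀ x : E, (ρ (u x * w 1) : Matrix ι ι F) *ᵥ v0 ≠ v0 := by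
    intro x h
    have h3 := not_big S hρ hC x 0 1
    rw [u_zero, mul_one] at h3
    exact h3 h
  rcases o with _ | x <;> rcases o' with _ | y
  · exact absurd rfl h
  · intro h1
    simp only [rep, inv_one, one_mul] at h1
    exact key y h1
  · intro h1
    simp only [rep, mul_one] at h1
    have h2 := eq_of_inv h1
    rw [inv_inv] at h2
    exact key x h2
  · have hxy : x ≠ y := fun h0 => h (by rw [h0])
    obtain ⟨a, c, b, e⟩ := exists_big hxy
    simp only [rep]
    rw [e]
    exact not_big S hρ hC a b c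

theorem index_stab [Fintype E] : (stab P v0).index = Fintype.card E + 1 := by
  classical
  rw [← Fintype.card_option, ← Nat.card_eq_fintype_card, Subgroup.index]
  symm
  let r : Option E → P := fun o => ⟨ρ (rep E o), mem_P hρ _⟩
  have hr : ∀ o o', (((r o)⁻¹ * r o' : P) : GL ι F) = ρ ((rep E o)⁻¹ * rep E o') := by
    intro o o'
    rw [map_mul, map_inv]
    rfl
  apply Nat.card_congr
  refine Equiv.ofBijective (fun o => ((r o : P) : P ⧸ stab P v0)) ⟨?_, ?_⟩
  · intro o o' h
    by_contra hne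
    have h2 : (r o)⁻¹ * r o' ∈ stab P v0 := QuotientGroup.eq.1 h
    rw [mem_stab, hr] at h2
    exact rep_sep S hρ hC hne h2
  · intro q
    induction q using QuotientGroup.induction_on with
    | H g =>
      obtain ⟨s, hs⟩ : (g : GL ι F) ∈ ρ.range := by rw [hρ]; exact g.2
      obtain ⟨o, x, a, b, e⟩ := exists_rep_mul s
      refine ⟨o, QuotientGroup.eq.2 ?_⟩
      rw [mem_stab]
      have h3 : (((r o)⁻¹ * g : P) : GL ι F) = ρ (if b then u x * t a else t a * u x) := by
        change (ρ (rep E o))⁻¹ * (g : GL ι F) = _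
        rw [← hs, e, map_mul, inv_mul_cancel_left]
      rw [h3]
      cases b
      · simp only [Bool.false_eq_true, if_false]
        rw [mul_vec, S.fix_u, S.fix_t]
      · simp only [if_true]
        exact S.small x a

theorem dcoset : ∀ g ∉ stab P v0, ∀ g' ∉ stab P v0, ∃ k ∈ stab P v0, ∃ k' ∈ stab P v0, g' = k * g * k' := by
  have hex : ∀ g : P, g ∉ stab P v0 → ∃ (x : E) (c : Eˣ) (y : E), (g : GL ι F) = ρ (u x * w c * u y) := by
    rintro ⟨g, hg⟩ hn
    rw [← hρ] at hg
    obtain ⟨s, rfl⟩ := hg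
    rcases bruhat s with ⟨x, a, rfl⟩ | ⟨x, c, y, rfl⟩
    · exact absurd (S.small x a) hn
    · exact ⟨x, c, y, rfl⟩
  intro g hg g' hg'
  obtain ⟨x, c, y, e⟩ := hex g hg
  obtain ⟨x', c', y', e'⟩ := hex g' hg'
  refine ⟨⟨ρ (u x' * u (-x)), mem_P hρ _⟩, ?_, ⟨ρ (u (-y) * t (c⁻¹ * c') * u y'), mem_P hρ _⟩, ?_, ?_⟩
  · rw [mem_stab]
    change (ρ (u x' * u (-x)) : Matrix ι ι F) *ᵥ v0 = v0
    rw [mul_vec, S.fix_u, S.fix_u]
  · rw [mem_stab]
    change (ρ (u (-y) * t (c⁻¹ * c') * u y') : Matrix ι ι F) *ᵥ v0 = v0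
    rw [mul_vec, mul_vec, S.fix_u, S.fix_t, S.fix_u]
  · apply Subtype.ext
    change (g' : GL ι F) = ρ (u x' * u (-x)) * (g : GL ι F) * ρ (u (-y) * t (c⁻¹ * c') * u y')
    rw [e, e', ← map_mul, ← map_mul]
    congr 1
    have e2 : ∀ x : E, (u (-x) : _root_.Matrix.SpecialLinearGroup (Fin 2) E) = (u x)⁻¹ := by
      intro x
      rw [eq_inv_iff_mul_eq_one, ← u_add, neg_add_cancel, u_zero]
    have e3 : (w c' : _root_.Matrix.SpecialLinearGroup (Fin 2) E) = w c * t (c⁻¹ * c') := by
      rw [w_eq c, mul_assoc, ← t_mul, mul_inv_cancel_left, ← w_eq]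
    rw [e2, e2, e3]
    group

end index

/-- the unipotent subgroup -/
def uHom : Multiplicative E →* _root_.Matrix.SpecialLinearGroup (Fin 2) E where
  toFun x := u (Multiplicative.toAdd x)
  map_one' := u_zero
  map_mul' _ _ := u_add _ _

theorem u_injective : Function.Injective (uHom : Multiplicative E →* _root_.Matrix.SpecialLinearGroup (Fin 2) E) := by
  intro x y h
  have h1 : (u (Multiplicative.toAdd x) : _root_.Matrix.SpecialLinearGroup (Fin 2) E).1 0 1 = (u (Multiplicative.toAdd y)).1 0 1 := by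
    have h2 : (u (Multiplicative.toAdd x) : _root_.Matrix.SpecialLinearGroup (Fin 2) E) = u (Multiplicative.toAdd y) := h
    rw [h2]
  simpa using h1

/-- `U` is a Sylow subgroup -/
theorem exists_sylow [Fintype E] (r : ℕ) [hr : Fact r.Prime] [CharP E r] :
    ∃ S : Sylow r (_root_.Matrix.SpecialLinearGroup (Fin 2) E), (S : Subgroup (_root_.Matrix.SpecialLinearGroup (Fin 2) E)) = uHom.range := by
  obtain ⟨n, -, hn⟩ := FiniteField.card E r
  have hcU : Nat.card (uHom : Multiplicative E →* _root_.Matrix.SpecialLinearGroup (Fin 2) E).range = Fintype.card E := by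
    have h1 := Nat.card_congr (MonoidHom.ofInjective (u_injective (E := E))).toEquiv
    rw [← h1, Nat.card_eq_fintype_card]
    exact Fintype.card_congr Multiplicative.toAdd
  have hUp : IsPGroup r (uHom : Multiplicative E →* _root_.Matrix.SpecialLinearGroup (Fin 2) E).range :=
    IsPGroup.of_card (n := n) (by rw [hcU, hn])
  have hcG := S0242.result (F := E) rfl 2 (by norm_num)
  rw [Fin.prod_univ_two] at hcG
  simp only [Fin.val_zero, Fin.val_one, pow_zero, pow_one] at hcG
  set q := Fintype.card E with hq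
  have hq2 : 2 ≤ q := Fintype.one_lt_card
  have hidx := Subgroup.index_mul_card (uHom : Multiplicative E →* _root_.Matrix.SpecialLinearGroup (Fin 2) E).range
  rw [hcU] at hidx
  set i := (uHom : Multiplicative E →* _root_.Matrix.SpecialLinearGroup (Fin 2) E).range.index with hi
  have hi2 : i = q ^ 2 - 1 := by
    have h1 : (q - 1) * (i * q) = (q - 1) * ((q ^ 2 - 1) * q) := by
      rw [hidx, hcG]
      have h3 : q ^ 2 - q = (q - 1) * q := by rw [Nat.sub_mul, one_mul, pow_two]
      rw [h3]; ring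
    have h2 := Nat.eq_of_mul_eq_mul_left (by omega) h1
    exact Nat.eq_of_mul_eq_mul_right (by omega) h2
  have hnd : ¬ r ∣ i := by
    intro h
    have h1 : r ∣ q := by rw [hn]; exact dvd_pow_self r n.ne_zero
    have h2 : r ∣ q ^ 2 := dvd_pow h1 two_ne_zero
    rw [hi2] at h
    have h3 := (Nat.dvd_sub h2 h)
    have h4 : q ^ 2 - (q ^ 2 - 1) = 1 := by
      have : 1 ≤ q ^ 2 := Nat.one_le_pow _ _ (by omega)
      omega
    rw [h4] at h3
    exact hr.out.one_lt.ne' (Nat.dvd_one.1 h3)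
  exact ⟨hUp.toSylow hnd, rfl⟩

/-- **`PSL₂(q)` in dimension `q`.** -/
theorem stein_main [Finite F] [Fintype E] (h2 : (2 : F) ≠ 0) {Q : QuadraticForm F (ι → F)} (hQ : Nondeg Q)
    (h5 : 5 ≤ Fintype.card ι) {H : Subgroup (GL ι F)} (hH : IsMaximalIn (omegaGL (Q : (ι → F) → F)) H)
    (hPc : IsResidualCore H P) (S : Stein ρ v0) (hρ : ρ.range = P) (hq : Fintype.card ι = Fintype.card E) {m : ℕ}
    (hm : Fintype.card ι + 1 = m) :
    Nonempty (Soc P ≃* alternatingGroup (Fin m)) ∧ (m : F) ≠ 0 ∧ ((3 : F) ≠ 0 → (m : F) + 1 ≠ 0) := by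
  have hC : Core P := core_of_residual hPc
  refine Cfsg.Agent.H882.Del.mat_main h2 hQ h5 hH hPc (K := stab P v0) (by rw [index_stab S hρ hC, hq]) S.ne
    (fun k hk => hk) (dcoset S hρ hC) ?_ hm
  intro h hh
  obtain ⟨r, hch⟩ := CharP.exists E
  have hr : Fact r.Prime := ⟨CharP.char_is_prime E r⟩
  obtain ⟨T, hT⟩ := exists_sylow (E := E) r
  -- the map onto `P`
  let θ : _root_.Matrix.SpecialLinearGroup (Fin 2) E →* P := ρ.codRestrict P (fun g => mem_P hρ g)
  have hθ : Function.Surjective θ := by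
    rintro ⟨g, hg⟩
    have hg' := hg
    rw [← hρ] at hg'
    obtain ⟨s, rfl⟩ := hg'
    exact ⟨s, rfl⟩
  let T' : Sylow r P := T.mapSurjective hθ
  have hT' : ∀ x, x ∈ (T' : Subgroup P) ↔ ∃ y : E, x = θ (u y) := by
    intro x
    constructor
    · rintro ⟨s, hs, rfl⟩
      have hs' : s ∈ (T : Subgroup _) := hs
      rw [hT] at hs'
      obtain ⟨y, rfl⟩ := hs'
      exact ⟨Multiplicative.toAdd y, rfl⟩
    · rintro ⟨y, rfl⟩
      refine ⟨u y, ?_, rfl⟩
      change u y ∈ (T : Subgroup _)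
      rw [hT]
      exact ⟨Multiplicative.ofAdd y, rfl⟩
  -- conjugation by `h`
  let φ : MulAut P := 
    { toFun := fun x => ⟨h * x * h⁻¹, hPc.normal h hh x x.2⟩
      invFun := fun x => ⟨h⁻¹ * x * h, by
        have := hPc.normal h⁻¹ (inv_mem hh) x x.2
        rwa [inv_inv] at this⟩
      left_inv := fun x => by apply Subtype.ext; change h⁻¹ * (h * x * h⁻¹) * h = x; group
      right_inv := fun x => by apply Subtype.ext; change h * (h⁻¹ * x * h) * h⁻¹ = x; group
      map_mul' := fun x y => by apply Subtype.ext; change h * (x * y) * h⁻¹ = (h * x * h⁻¹) * (h * y * h⁻¹); group }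
  have hφ : ∀ x : P, ((φ x : P) : GL ι F) = h * x * h⁻¹ := fun x => rfl
  obtain ⟨g, hg⟩ := MulAction.exists_smul_eq P T' (φ • T')
  -- `h v0` is fixed by `g T' g⁻¹ = h T' h⁻¹`
  refine ⟨g, g.2, ?_⟩
  obtain ⟨c, hc⟩ := S.uniq (((g⁻¹ : P) : GL ι F).1 *ᵥ ((h : Matrix ι ι F) *ᵥ v0)) (by
    intro x
    have h3 : g * θ (u x) * g⁻¹ ∈ ((g • T' : Sylow r P) : Subgroup P) :=
      ⟨θ (u x), (hT' _).2 ⟨x, rfl⟩, rfl⟩
    rw [hg] at h3
    obtain ⟨z, hz, hzx⟩ := h3
    obtain ⟨y, rfl⟩ := (hT' z).1 hz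
    have h4 : h * ρ (u y) * h⁻¹ = (g : GL ι F) * ρ (u x) * (g : GL ι F)⁻¹ := congrArg Subtype.val hzx
    have h5 : ρ (u x) * ((g⁻¹ : P) : GL ι F) * h = ((g⁻¹ : P) : GL ι F) * h * ρ (u y) := by
      rw [Subgroup.coe_inv]
      calc ρ (u x) * (g : GL ι F)⁻¹ * h = (g : GL ι F)⁻¹ * ((g : GL ι F) * ρ (u x) * (g : GL ι F)⁻¹) * h := by group
        _ = (g : GL ι F)⁻¹ * (h * ρ (u y) * h⁻¹) * h := by rw [h4]
        _ = _ := by group
    rw [Matrix.mulVec_mulVec, Matrix.mulVec_mulVec, ← Units.val_mul, ← Units.val_mul, h5, Units.val_mul,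
      Units.val_mul, ← Matrix.mulVec_mulVec, S.fix_u, Matrix.mulVec_mulVec])
  refine ⟨c, ?_⟩
  rw [← Matrix.mulVec_smul, ← hc, Matrix.mulVec_mulVec, ← Units.val_mul, ← Subgroup.coe_mul, mul_inv_cancel,
    Subgroup.coe_one, Units.val_one, Matrix.one_mulVec]

end Cfsg.Agent.H937.T2
end

-- part: H931/L2Type
section
/-!
# The type of the invariant form of an irreducible self-dual `SL₂(q)`-module, cross characteristic (helper931)

`R : SL₂(K) → End V`, `V` over a field `k` of characteristic `≠ 2` with `|K| ≠ 0`, `R` spans `End V`, both weights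
`b`, `-b` (`b ≠ 0`) of the unipotent group occur. An invariant form with `f w v = κ f v w` (`κ = ± 1`) has `κ = ε`, where
`R(-1) = ε`.
-/

set_option autoImplicit false
set_option linter.unusedSectionVars false

namespace Cfsg.Agent.H931.L2T

open Matrix Module Cfsg Cfsg.Geo Cfsg.Agent.H464.Sl2 Cfsg.Agent.H915.LD

section Form

variable {K : Type*} [Field K] [Fintype K] {k : Type*} [Field k] {V : Type*} [AddCommGroup V] [Module k V]
  (R : _root_.Matrix.SpecialLinearGroup (Fin 2) K →* Module.End k V) {ψ : AddChar K k}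

theorem adj (f : V →ₗ[k] V →ₗ[k] k) (hf : ∀ g v w, f (R g v) (R g w) = f v w) (b : K) (v w : V) :
    f (E R ψ b v) w = f v (E R ψ (-b) w) := by
  have h1 : ∀ x v w, f (R (u x) v) w = f v (R (u (-x)) w) := by
    intro x v w
    rw [← hf (u (-x)) (R (u x) v) w, ← Module.End.mul_apply, ← map_mul, ← u_add, neg_add_cancel, u_zero, map_one,
      Module.End.one_apply]
  simp only [E, LinearMap.smul_apply, LinearMap.sum_apply, map_smul, map_sum, smul_eq_mul, h1]
  congr 1
  rw [← Equiv.sum_comp (Equiv.neg K)]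
  refine Finset.sum_congr rfl fun x _ => ?_
  rw [Equiv.neg_apply, neg_neg]
  congr 3
  ring

variable [FiniteDimensional k V] (hψ : ψ.IsPrimitive) (hK : (Fintype.card K : k) ≠ 0)

end Form

section Ext

variable {G : Type*} [Group G] {ι : Type} [Fintype ι] [DecidableEq ι] {F : Type*} [Field F] (ρ : G →* GL ι F)

/-- An absolutely irreducible group of matrices spans the matrix algebra. -/
theorem span_eq_topI (habs : ActsAbsolutelyIrreducibly (matrixSet ρ.range)) :
    Submodule.span F (Set.range fun g : G => (ρ g : Matrix ι ι F)) = ⊤ := by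
  have h := Cfsg.Agent.H919.adjoin_eq_top_of_absIrr habs
  rw [eq_top_iff]
  intro x _
  have hx : x ∈ Algebra.adjoin F (matrixSet ρ.range) := by rw [h]; trivial
  induction hx using Algebra.adjoin_induction with
  | mem x hx =>
    obtain ⟨_, ⟨g, rfl⟩, rfl⟩ := hx
    exact Submodule.subset_span ⟨g, rfl⟩
  | algebraMap r =>
    rw [Algebra.algebraMap_eq_smul_one]
    refine Submodule.smul_mem _ _ (Submodule.subset_span ⟨1, ?_⟩)
    simp
  | add x y _ _ hx hy => exact Submodule.add_mem _ (hx trivial) (hy trivial)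
  | mul x y _ _ hx hy =>
    have h1 := Submodule.mul_mem_mul (hx trivial) (hy trivial)
    rw [Submodule.span_mul_span] at h1
    refine Submodule.span_mono ?_ h1
    rintro _ ⟨_, ⟨g, rfl⟩, _, ⟨g', rfl⟩, rfl⟩
    exact ⟨g * g', by simp⟩

variable (k : Type*) [Field k] [Algebra F k]

/-- The representation over an extension field. -/
noncomputable def extI : G →* Module.End k (ι → k) :=
  (Matrix.toLinAlgEquiv' : Matrix ι ι k ≃ₐ[k] _).toAlgHom.toRingHom.toMonoidHom.comp
    ((algebraMap F k).mapMatrix.toMonoidHom.comp ((Units.coeHom _).comp ρ))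

theorem extI_apply (g : G) : extI ρ k g = Matrix.toLin' ((ρ g : Matrix ι ι F).map (algebraMap F k)) := rfl

theorem trace_extI (g : G) : LinearMap.trace k _ (extI ρ k g) = algebraMap F k (tr (ρ g)) := by
  rw [extI_apply, Matrix.trace_toLin'_eq]
  simp only [Matrix.trace, tr, _root_.Matrix.diag_apply, _root_.Matrix.map_apply, _root_.map_sum]

theorem span_extI (h : Submodule.span F (Set.range fun g : G => (ρ g : Matrix ι ι F)) = ⊤) :
    Submodule.span k (Set.range (extI ρ k)) = ⊤ := by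
  classical
  have h1 : ∀ M : Matrix ι ι F,
      Matrix.toLin' (M.map (algebraMap F k)) ∈ Submodule.span k (Set.range (extI ρ k)) := by
    intro M
    have hM : M ∈ Submodule.span F (Set.range fun g : G => (ρ g : Matrix ι ι F)) := by
      rw [h]; trivial
    induction hM using Submodule.span_induction with
    | mem x hx =>
      obtain ⟨g, rfl⟩ := hx
      exact Submodule.subset_span ⟨g, rfl⟩
    | zero =>
      rw [Matrix.map_zero _ (map_zero _), map_zero]
      exact Submodule.zero_mem _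
    | add x y _ _ hx hy =>
      rw [Matrix.map_add _ (map_add _), map_add]
      exact Submodule.add_mem _ hx hy
    | smul a x _ hx =>
      have h2 : (a • x).map (algebraMap F k) = (algebraMap F k a) • x.map (algebraMap F k) := by
        ext i j
        simp
      rw [h2, map_smul]
      exact Submodule.smul_mem _ _ hx
  rw [eq_top_iff]
  intro f _
  have h2 : f = Matrix.toLin' (LinearMap.toMatrix' f) := by simp
  rw [h2, Matrix.matrix_eq_sum_single (LinearMap.toMatrix' f), map_sum]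
  refine Submodule.sum_mem _ fun i _ => ?_
  rw [map_sum]
  refine Submodule.sum_mem _ fun j _ => ?_
  have h3 : Matrix.single i j (LinearMap.toMatrix' f i j) =
      (LinearMap.toMatrix' f i j) • (Matrix.single i j (1 : F)).map (algebraMap F k) := by
    rw [Matrix.map_single, map_one, Matrix.smul_single, smul_eq_mul, mul_one]
  rw [h3, map_smul]
  exact Submodule.smul_mem _ _ (h1 _)

theorem extI_ne_one (hρ : ρ ≠ 1) : extI ρ k ≠ 1 := by
  intro h
  apply hρ
  ext1 g
  have h1 : extI ρ k g = 1 := by rw [h]; rfl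
  apply Units.ext
  change (ρ g : Matrix ι ι F) = 1
  have h2 : (ρ g : Matrix ι ι F).map (algebraMap F k) = 1 := by
    apply Matrix.toLin'.injective
    rw [← extI_apply, h1, Matrix.toLin'_one]
    rfl
  ext i j
  have h3 := congrFun (congrFun h2 i) j
  rw [Matrix.map_apply] at h3
  apply (algebraMap F k).injective
  rw [h3]
  by_cases hij : i = j
  · rw [hij]; simp
  · rw [Matrix.one_apply_ne hij, Matrix.one_apply_ne hij, map_zero]

end Ext

end Cfsg.Agent.H931.L2T
end

-- part: H931/L2Prin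
section
/-!
# Irreducible `SL₂(q)`-modules with `U`-fixed vectors, cross characteristic (helper931)

`R : SL₂(K) → End V` spanning `End V`, `k` algebraically closed, `|K| ≠ 0` in `k`, `v` a `U`-fixed vector with
`R (t a) v = lam a • v`. The vectors `e none = v`, `e (some y) = R (u y) (R (w 1) v)` span `V` and are permuted up to
scalars.

* `finrank_le_one_of_sq` : `lam ^ 2 = 1` ⟹ the space of `U`-fixed vectors is one-dimensional;
* `trace_nonsplit_prin` : dimension `q + 1`: elements without eigenvalue have trace `0`;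
* `steinberg` : dimension `q`: `lam = 1` and the trace of `g` is the number of finite fixed points minus the number of
  finite points mapped to infinity.
-/

set_option autoImplicit false
set_option linter.unusedSectionVars false

namespace Cfsg.Agent.H931.L2T

open Matrix Module Cfsg Cfsg.Geo Cfsg.Agent.H464.Sl2

variable {K : Type*} [Field K] [Fintype K] {k : Type*} [Field k] {V : Type*} [AddCommGroup V] [Module k V]
  [FiniteDimensional k V] (R : _root_.Matrix.SpecialLinearGroup (Fin 2) K →* Module.End k V) {ψ : AddChar K k}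
  (hψ : ψ.IsPrimitive) (hK : (Fintype.card K : k) ≠ 0)

theorem coe_ut (x : K) (a : Kˣ) : (u x * t a).1 = !![(a : K), x * ((a⁻¹ : Kˣ) : K); 0, ((a⁻¹ : Kˣ) : K)] := by
  change (u x).1 * (t a).1 = _
  have e1 : (u x).1 = !![1, x; 0, 1] := rfl
  have e2 : (t a).1 = !![(a : K), 0; 0, ((a⁻¹ : Kˣ) : K)] := rfl
  rw [e1, e2]
  ext i j
  (revert i j; simp only [Matrix.mul_apply, Fin.sum_univ_two, _root_.Fin.forall_fin_succ, _root_.Units.val_inv_eq_inv_val, _root_.Matrix.of_apply, _root_.Matrix.cons_val', _root_.Matrix.cons_val_fin_one, Fin.isValue, _root_.Matrix.cons_val_zero, _root_.Matrix.cons_val_one, _root_.MulZeroClass.mul_zero, _root_.add_zero, _root_.Matrix.cons_val_succ, _root_.zero_add, _root_.forall_const, _root_.one_mul, _root_.and_self, _root_.MulZeroClass.zero_mul, _root_.implies_true])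

theorem coe_uwu (x y : K) (c : Kˣ) : (u x * w c * u y).1 =
    !![x * c, -((c⁻¹ : Kˣ) : K) + x * c * y; (c : K), c * y] := by
  change (u x).1 * (w c).1 * (u y).1 = _
  have e1 : ∀ x : K, (u x).1 = !![1, x; 0, 1] := fun _ => rfl
  have e2 : (w c).1 = !![0, -((c⁻¹ : Kˣ) : K); (c : K), 0] := rfl
  rw [e1, e1, e2]
  ext i j
  (revert i j; simp only [Matrix.mul_apply, Fin.sum_univ_two, _root_.Fin.forall_fin_succ, _root_.Units.val_inv_eq_inv_val, _root_.Matrix.cons_mul, _root_.Nat.succ_eq_add_one, Nat.reduceAdd, _root_.Matrix.vecMul_cons, _root_.Matrix.head_cons, _root_.one_smul, _root_.Matrix.tail_cons, _root_.Matrix.smul_cons, _root_.smul_eq_mul, _root_.MulZeroClass.mul_zero, _root_.Matrix.smul_empty, _root_.Matrix.empty_vecMul, _root_.add_zero, _root_.Matrix.add_cons, _root_.zero_add, _root_.Matrix.empty_add_empty, _root_.zero_smul, _root_.Matrix.empty_mul, _root_.Equiv.symm_apply_apply, _root_.Matrix.of_apply, _root_.Matrix.cons_val', _root_.Matrix.cons_val_fin_one,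 Fin.isValue, _root_.Matrix.cons_val_zero, _root_.Matrix.cons_val_one, _root_.mul_one, _root_.Matrix.cons_val_succ, _root_.forall_const, _root_.implies_true, _root_.and_true, _root_.true_and]) <;> (repeat' with_reducible apply And.intro)
  ring

/-- The points of the projective line. -/
noncomputable def ep (v : V) : Option K → V
  | none => v
  | some y => R (u y) (R (w 1) v)

/-- A `U`-fixed `T`-eigenvector. -/
structure Prin (v : V) (lam : Kˣ → k) : Prop where
  ne : v ≠ 0
  fix : ∀ x, R (u x) v = v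
  eig : ∀ a, R (t a) v = lam a • v

variable {R}

theorem Prin.one {v : V} {lam : Kˣ → k} (h : Prin R v lam) : lam 1 = 1 := by
  have h1 := h.eig 1
  rw [t_one, map_one, Module.End.one_apply] at h1
  have h2 : (1 - lam 1) • v = 0 := by rw [sub_smul, one_smul, ← h1, sub_self]
  exact (sub_eq_zero.1 ((smul_eq_zero.1 h2).resolve_right h.ne)).symm

theorem Prin.mul {v : V} {lam : Kˣ → k} (h : Prin R v lam) (a b : Kˣ) : lam (a * b) = lam a * lam b := by
  have h1 := h.eig (a * b)
  rw [t_mul, map_mul, Module.End.mul_apply, h.eig, map_smul, h.eig, smul_smul] at h1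
  have h2 : (lam b * lam a - lam (a * b)) • v = 0 := by rw [sub_smul, h1, sub_self]
  have h3 := sub_eq_zero.1 ((smul_eq_zero.1 h2).resolve_right h.ne)
  rw [← h3, mul_comm]

theorem Prin.inv {v : V} {lam : Kˣ → k} (h : Prin R v lam) (a : Kˣ) : lam a⁻¹ * lam a = 1 := by
  rw [← h.mul, inv_mul_cancel, h.one]

theorem Prin.ne_zero {v : V} {lam : Kˣ → k} (h : Prin R v lam) (a : Kˣ) : lam a ≠ 0 := by
  intro h0
  have := h.inv a
  rw [h0, mul_zero] at this
  exact zero_ne_one this

/-- The action on `v`. -/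
theorem Prin.apply_of_zero {v : V} {lam : Kˣ → k} (h : Prin R v lam) {g : _root_.Matrix.SpecialLinearGroup (Fin 2) K}
    (hg : g.1 1 0 = 0) : ∃ a : Kˣ, (a : K) = g.1 0 0 ∧ R g v = lam a • v := by
  rcases bruhat g with ⟨x, a, rfl⟩ | ⟨x, c, y, rfl⟩
  · refine ⟨a, ?_, ?_⟩
    · rw [coe_ut]; rfl
    · rw [map_mul, Module.End.mul_apply, h.eig, map_smul, h.fix]
  · exfalso
    have : (u x * w c * u y).1 1 0 = (c : K) := by rw [coe_uwu]; rfl
    rw [this] at hg
    exact c.ne_zero hg

theorem Prin.apply_of_ne {v : V} {lam : Kˣ → k} (h : Prin R v lam) {g : _root_.Matrix.SpecialLinearGroup (Fin 2) K}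
    (hg : g.1 1 0 ≠ 0) : R g v = lam (Units.mk0 _ hg) • ep R v (some (g.1 0 0 / g.1 1 0)) := by
  rcases bruhat g with ⟨x, a, rfl⟩ | ⟨x, c, y, rfl⟩
  · exfalso
    apply hg
    rw [coe_ut]; rfl
  · have h1 : Units.mk0 _ hg = c := by
      apply Units.ext
      rw [Units.val_mk0, coe_uwu]; rfl
    have h2 : (u x * w c * u y).1 0 0 / (u x * w c * u y).1 1 0 = x := by
      rw [coe_uwu]
      change x * (c : K) / (c : K) = x
      rw [mul_div_cancel_right₀ _ c.ne_zero]
    rw [h1, h2, map_mul, Module.End.mul_apply, h.fix, map_mul, Module.End.mul_apply, ← w_one_mul_t c, map_mul,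
      Module.End.mul_apply, h.eig, map_smul, map_smul]
    rfl

/-- The action of `g` on a finite point. -/
theorem entries (g : _root_.Matrix.SpecialLinearGroup (Fin 2) K) (y : K) :
    (g * (u y * w 1)).1 0 0 = g.1 0 0 * y + g.1 0 1 ∧ (g * (u y * w 1)).1 1 0 = g.1 1 0 * y + g.1 1 1 := by
  have e : (u y * w 1).1 = !![y, -1; 1, 0] := by
    change (u y).1 * (w 1).1 = _
    have e1 : (u y).1 = !![1, y; 0, 1] := rfl
    have e2 : (w (1 : Kˣ)).1 = !![0, -(((1 : Kˣ)⁻¹ : Kˣ) : K); ((1 : Kˣ) : K), 0] := rfl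
    rw [e1, e2]
    ext i j
    (revert i j; simp only [Matrix.mul_apply, Fin.sum_univ_two, _root_.Fin.forall_fin_succ, _root_.inv_one, _root_.Units.val_one, _root_.Matrix.of_apply, _root_.Matrix.cons_val', _root_.Matrix.cons_val_fin_one, Fin.isValue, _root_.Matrix.cons_val_zero, _root_.Matrix.cons_val_one, _root_.MulZeroClass.mul_zero, _root_.mul_one, _root_.zero_add, _root_.Matrix.cons_val_succ, _root_.mul_neg, _root_.add_zero, _root_.forall_const, _root_.true_and, _root_.neg_zero, _root_.implies_true, _root_.and_self])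
  constructor
  · change (g.1 * (u y * w 1).1) 0 0 = _
    rw [e]
    simp [Matrix.mul_apply, Fin.sum_univ_two]
  · change (g.1 * (u y * w 1).1) 1 0 = _
    rw [e]
    simp [Matrix.mul_apply, Fin.sum_univ_two]

theorem ep_some (v : V) (y : K) : ep R v (some y) = R (u y * w 1) v := by
  rw [map_mul]; rfl

theorem Prin.ep_of_ne {v : V} {lam : Kˣ → k} (h : Prin R v lam) {g : _root_.Matrix.SpecialLinearGroup (Fin 2) K} {y : K}
    (hg : g.1 1 0 * y + g.1 1 1 ≠ 0) :
    R g (ep R v (some y)) = lam (Units.mk0 _ hg) •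
      ep R v (some ((g.1 0 0 * y + g.1 0 1) / (g.1 1 0 * y + g.1 1 1))) := by
  obtain ⟨h1, h2⟩ := entries g y
  have h3 := h.apply_of_ne (g := g * (u y * w 1)) (by rw [h2]; exact hg)
  rw [map_mul, Module.End.mul_apply, ← ep_some] at h3
  rw [h3]
  simp only [h1, h2]

theorem Prin.ep_of_zero {v : V} {lam : Kˣ → k} (h : Prin R v lam) {g : _root_.Matrix.SpecialLinearGroup (Fin 2) K} {y : K}
    (hg : g.1 1 0 * y + g.1 1 1 = 0) : ∃ a : Kˣ, (a : K) = g.1 0 0 * y + g.1 0 1 ∧
      R g (ep R v (some y)) = lam a • v := by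
  obtain ⟨h1, h2⟩ := entries g y
  obtain ⟨a, ha, h3⟩ := h.apply_of_zero (g := g * (u y * w 1)) (by rw [h2]; exact hg)
  rw [map_mul, Module.End.mul_apply, ← ep_some] at h3
  exact ⟨a, by rw [ha, h1], h3⟩

/-- The points span. -/
theorem Prin.span {v : V} {lam : Kˣ → k} (h : Prin R v lam) (hspan : Submodule.span k (Set.range R) = ⊤) :
    Submodule.span k (Set.range (ep R v)) = ⊤ := by
  rw [eq_top_iff]
  intro y _
  obtain ⟨φ, hφ⟩ := exists_dual (k := k) h.ne
  have h1 : ∀ A : Module.End k V, A v ∈ Submodule.span k (Set.range (ep R v)) := by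
    intro A
    have hA : A ∈ Submodule.span k (Set.range R) := by rw [hspan]; trivial
    induction hA using Submodule.span_induction with
    | mem x hx =>
      obtain ⟨g, rfl⟩ := hx
      by_cases hg : g.1 1 0 = 0
      · obtain ⟨a, -, h2⟩ := h.apply_of_zero hg
        rw [h2]
        exact Submodule.smul_mem _ _ (Submodule.subset_span ⟨none, rfl⟩)
      · rw [h.apply_of_ne hg]
        exact Submodule.smul_mem _ _ (Submodule.subset_span ⟨_, rfl⟩)
    | zero => exact Submodule.zero_mem _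
    | add x y _ _ hx hy => exact Submodule.add_mem _ hx hy
    | smul a x _ hx => exact Submodule.smul_mem _ _ hx
  have h2 := h1 (φ.smulRight y)
  rwa [LinearMap.smulRight_apply, hφ, one_smul] at h2

include hψ hK in
/-- Existence of such a vector. -/
theorem exists_prin [IsAlgClosed k] (h0 : E R ψ 0 ≠ 0) : ∃ (v : V) (lam : Kˣ → k), Prin R v lam ∧ E R ψ 0 v = v := by
  obtain ⟨v, hv0, hv, ht⟩ := exists_eigen R hψ hK (fun h => h0 (LinearMap.range_eq_bot.1 h))
  choose lam hlam using ht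
  refine ⟨v, lam, ⟨hv0, ?_, hlam⟩, hv⟩
  intro x
  have h3 := congrArg (fun f : Module.End k V => f v) (R_mul_E R ψ 0 x)
  simp only [Module.End.mul_apply, hv, zero_mul, AddChar.map_zero_eq_one, one_smul] at h3
  exact h3

include hψ hK in
/-- Dimension `q + 1`: elements without eigenvector have trace zero. -/
theorem Prin.trace_nonsplit {v : V} {lam : Kˣ → k} (h : Prin R v lam)
    (hspan : Submodule.span k (Set.range R) = ⊤) (hdim : finrank k V = Fintype.card K + 1)
    {g : _root_.Matrix.SpecialLinearGroup (Fin 2) K} (hg : ∀ x : K, x * x - (g.1 0 0 + g.1 1 1) * x + 1 ≠ 0) :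
    LinearMap.trace k V (R g) = 0 := by
  classical
  have hcard : Fintype.card (Option K) = finrank k V := by rw [Fintype.card_option, hdim]
  let B := basisOfTopLeSpanOfCardEqFinrank (ep R v) (h.span hspan).ge hcard
  have hB : ∀ P, B P = ep R v P := fun P => by
    rw [coe_basisOfTopLeSpanOfCardEqFinrank]
  rw [LinearMap.trace_eq_matrix_trace k B, Matrix.trace]
  refine Finset.sum_eq_zero fun P _ => ?_
  rw [Matrix.diag_apply, LinearMap.toMatrix_apply, hB]
  have hdet : g.1 0 0 * g.1 1 1 - g.1 0 1 * g.1 1 0 = 1 := by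
    have := g.2
    rwa [Matrix.det_fin_two] at this
  have hc : g.1 1 0 ≠ 0 := by
    intro hc
    apply hg (g.1 0 0)
    rw [hc, mul_zero, sub_zero] at hdet
    linear_combination -hdet
  rcases P with _ | y
  · change B.repr (R g v) none = 0
    rw [h.apply_of_ne hc, map_smul, ← hB, Basis.repr_self, Finsupp.smul_single, Finsupp.single_apply]
    simp
  · by_cases hy : g.1 1 0 * y + g.1 1 1 = 0
    · obtain ⟨a, -, h2⟩ := h.ep_of_zero hy
      rw [h2]
      change B.repr (lam a • ep R v none) (some y) = 0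
      rw [map_smul, ← hB, Basis.repr_self, Finsupp.smul_single, Finsupp.single_apply]
      simp
    · rw [h.ep_of_ne hy, map_smul, ← hB, Basis.repr_self, Finsupp.smul_single, Finsupp.single_apply, if_neg]
      intro h3
      rw [Option.some_inj, div_eq_iff hy] at h3
      -- `y` is fixed
      apply hg (g.1 0 0 - g.1 1 0 * y)
      linear_combination -g.1 1 0 * h3 - hdet

section Steinberg

variable {v : V} {lam : Kˣ → k}

theorem Prin.w_zero (h : Prin R v lam) : R (w 1) (ep R v (some 0)) = lam (-1) • v := by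
  rw [ep_some, u_zero, one_mul, ← Module.End.mul_apply, ← map_mul, w_mul_w, div_self', h.eig]

theorem w_entries : (w (1 : Kˣ)).1 0 0 = 0 ∧ (w (1 : Kˣ)).1 0 1 = -1 ∧ (w (1 : Kˣ)).1 1 0 = 1 ∧
    (w (1 : Kˣ)).1 1 1 = 0 := by
  have e2 : (w (1 : Kˣ)).1 = !![0, -(((1 : Kˣ)⁻¹ : Kˣ) : K); ((1 : Kˣ) : K), 0] := rfl
  rw [e2]
  simp

theorem Prin.w_ne (h : Prin R v lam) {y : K} (hy : y ≠ 0) :
    R (w 1) (ep R v (some y)) = lam (Units.mk0 y hy) • ep R v (some (-y⁻¹)) := by
  obtain ⟨e1, e2, e3, e4⟩ := w_entries (K := K)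
  have h1 : (w (1 : Kˣ)).1 1 0 * y + (w (1 : Kˣ)).1 1 1 = y := by rw [e3, e4]; ring
  have h2 := h.ep_of_ne (g := w 1) (y := y) (by rw [h1]; exact hy)
  rw [h2]
  have h3 : ((w (1 : Kˣ)).1 0 0 * y + (w (1 : Kˣ)).1 0 1) / ((w (1 : Kˣ)).1 1 0 * y + (w (1 : Kˣ)).1 1 1) = -y⁻¹ := by
    rw [h1, e1, e2]
    field_simp
    ring
  rw [h3]
  congr 2
  exact Units.ext h1

theorem sum_ep (v : V) (hK : (Fintype.card K : k) ≠ 0) :
    ∑ y : K, ep R v (some y) = (Fintype.card K : k) • E R ψ 0 (R (w 1) v) := by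
  rw [E, LinearMap.smul_apply, smul_smul, mul_inv_cancel₀ hK, one_smul, LinearMap.sum_apply]
  refine Finset.sum_congr rfl fun y _ => ?_
  rw [zero_mul, neg_zero, AddChar.map_zero_eq_one, one_smul]
  rfl

include hψ hK in
/-- **The Steinberg module**: dimension `q`. -/
theorem Prin.stein (h : Prin R v lam) (hv : E R ψ 0 v = v) (hspan : Submodule.span k (Set.range R) = ⊤)
    (hdim : finrank k V = Fintype.card K) (hr : finrank k (LinearMap.range (E R ψ 0)) ≤ 1) :
    (∀ a, lam a = 1) ∧ ∑ y : K, ep R v (some y) = -v := by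
  classical
  obtain ⟨j, hj⟩ : ∃ j : k, E R ψ 0 (R (w 1) v) = j • v := by
    rw [finrank_le_one_iff] at hr
    obtain ⟨v₀, hv₀⟩ := hr
    obtain ⟨α, hα⟩ := hv₀ ⟨v, ⟨v, hv⟩⟩
    obtain ⟨β, hβ⟩ := hv₀ ⟨_, ⟨R (w 1) v, rfl⟩⟩
    have hα' : α • (v₀ : V) = v := congrArg Subtype.val hα
    have hβ' : β • (v₀ : V) = E R ψ 0 (R (w 1) v) := congrArg Subtype.val hβ
    have hα0 : α ≠ 0 := by
      rintro rfl
      rw [zero_smul] at hα'
      exact h.ne hα'.symm
    refine ⟨β * α⁻¹, ?_⟩
    rw [← hβ', ← hα', smul_smul, mul_assoc, inv_mul_cancel₀ hα0, mul_one]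
  have hsum : ∑ y : K, ep R v (some y) = ((Fintype.card K : k) * j) • v := by
    rw [sum_ep (ψ := ψ) v hK, hj, smul_smul]
  have hEe : ∀ y : K, E R ψ 0 (ep R v (some y)) = j • v := by
    intro y
    change E R ψ 0 (R (u y) (R (w 1) v)) = _
    rw [← Module.End.mul_apply, E_mul_R, zero_mul, AddChar.map_zero_eq_one, one_smul, hj]
  -- apply `w`
  have hw : lam (-1) • v + ∑ y ∈ Finset.univ.erase (0 : K), R (w 1) (ep R v (some y)) =
      ((Fintype.card K : k) * j) • R (w 1) v := by
    rw [← map_smul, ← hsum, map_sum, ← Finset.add_sum_erase _ _ (Finset.mem_univ (0 : K)), h.w_zero]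
  have hj0 : j ≠ 0 := by
    rintro rfl
    have h1 := congrArg (E R ψ 0) hw
    rw [map_add, map_smul, map_smul, map_sum, hv, hj, zero_smul, smul_zero, Finset.sum_eq_zero, add_zero] at h1
    · exact (smul_ne_zero (h.ne_zero _) h.ne) h1
    · intro y hy
      rw [h.w_ne (Finset.ne_of_mem_erase hy), map_smul, hEe, zero_smul, smul_zero]
  set c := (Fintype.card K : k) * j with hc
  have hc0 : c ≠ 0 := mul_ne_zero hK hj0
  have hvs : v = c⁻¹ • ∑ y : K, ep R v (some y) := by rw [hsum, smul_smul, inv_mul_cancel₀ hc0, one_smul]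
  -- the finite points are a basis
  have hsp : Submodule.span k (Set.range fun y : K => ep R v (some y)) = ⊤ := by
    rw [eq_top_iff, ← h.span hspan, Submodule.span_le]
    rintro _ ⟨P, rfl⟩
    rcases P with _ | y
    · have h5 : c⁻¹ • ∑ y : K, ep R v (some y) ∈ Submodule.span k (Set.range fun y : K => ep R v (some y)) :=
        Submodule.smul_mem _ _ (Submodule.sum_mem _ fun y _ => Submodule.subset_span ⟨y, rfl⟩)
      rwa [← hvs] at h5
    · exact Submodule.subset_span ⟨y, rfl⟩
  let B := basisOfTopLeSpanOfCardEqFinrank (fun y : K => ep R v (some y)) hsp.ge hdim.symm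
  have hB : ∀ y, B y = ep R v (some y) := fun P => by
    rw [coe_basisOfTopLeSpanOfCardEqFinrank]
  have hrep : ∀ y z : K, B.repr (ep R v (some y)) z = if y = z then 1 else 0 := by
    intro y z
    rw [← hB, Basis.repr_self, Finsupp.single_apply]
  have hrepv : ∀ z : K, B.repr v z = c⁻¹ := by
    intro z
    conv_lhs => rw [hvs]
    rw [map_smul, map_sum, Finsupp.smul_apply, Finsupp.finsetSum_apply, Finset.sum_congr rfl fun y _ => hrep y z,
      Finset.sum_ite_eq' Finset.univ z, if_pos (Finset.mem_univ _), smul_eq_mul, mul_one]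
  have key : ∀ z : K, (hz : z ≠ 0) → lam (-1) * c⁻¹ + lam (-(Units.mk0 z hz)⁻¹) = 0 := by
    intro z hz
    have h1 := congrArg (fun x => B.repr x z) hw
    simp only [map_add, map_smul, map_sum, Finsupp.add_apply, Finsupp.smul_apply, Finsupp.finsetSum_apply, hrepv,
      smul_eq_mul] at h1
    have h2 : R (w 1) v = ep R v (some 0) := by
      change _ = R (u 0) (R (w 1) v)
      rw [u_zero, map_one, Module.End.one_apply]
    rw [h2, hrep, if_neg (Ne.symm hz), mul_zero, Finset.sum_eq_single (-z⁻¹)] at h1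
    · have hz' : -z⁻¹ ≠ 0 := neg_ne_zero.2 (inv_ne_zero hz)
      rw [h.w_ne hz', map_smul, Finsupp.smul_apply, hrep, if_pos (by rw [inv_neg, inv_inv, neg_neg]), smul_eq_mul,
        mul_one] at h1
      have h3 : Units.mk0 (-z⁻¹) hz' = -(Units.mk0 z hz)⁻¹ := by
        apply Units.ext
        simp
      rwa [h3] at h1
    · intro y hy hne
      rw [h.w_ne (Finset.ne_of_mem_erase hy), map_smul, Finsupp.smul_apply, hrep, if_neg, smul_zero]
      intro h3
      apply hne
      rw [← h3, inv_neg, inv_inv, neg_neg]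
    · intro hn
      exact absurd (Finset.mem_erase.2 ⟨neg_ne_zero.2 (inv_ne_zero hz), Finset.mem_univ _⟩) hn
  have hm1 : lam (-1) * c⁻¹ = -1 := by
    have h1 := key (-1) (neg_ne_zero.2 one_ne_zero)
    have h2 : (-(Units.mk0 (-1 : K) (neg_ne_zero.2 one_ne_zero))⁻¹ : Kˣ) = 1 := by
      apply Units.ext
      simp
    rw [h2, h.one] at h1
    linear_combination h1
  have hall : ∀ a, lam a = 1 := by
    intro a
    have h0 : (-((a⁻¹ : Kˣ) : K)) ≠ 0 := neg_ne_zero.2 (Units.ne_zero _)
    have h1 := key _ h0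
    have h2 : (-(Units.mk0 (-((a⁻¹ : Kˣ) : K)) h0)⁻¹ : Kˣ) = a := by
      apply Units.ext
      simp
    rw [h2, hm1] at h1
    linear_combination h1
  refine ⟨hall, ?_⟩
  rw [hall, one_mul] at hm1
  have h3 : c = -1 := by
    rw [← inv_inv c, hm1]
    norm_num
  rw [hsum, h3, neg_smul, one_smul]

end Steinberg

end Cfsg.Agent.H931.L2T
end

-- part: H937/T2Nine
section
/-!
# `PSL₂(q)` in dimension `q`: the Borel-fixed vector; `A₆` in dimension nine (helper937)

* `exists_stein_cross` : `|E| ≠ 0` in `F`; `exists_stein_own` : `E` and `F` of the same characteristic;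
* `psl_main` : `P` residual core of a maximal subgroup of `Ω(Q)`, `Soc P ≃ PSL₂(E)`, `dim = |E|` ⟹ `Soc P ≃ A_{q+1}`;
* `a6_nine` : `Soc P ≃ A₆`, `dim = 9` ⟹ `False`.
-/

set_option autoImplicit false
set_option linter.unusedSectionVars false

namespace Cfsg.Agent.H937.T2

open Matrix Module Cfsg Cfsg.Geo Cfsg.Agent.H915.LD Cfsg.Agent.H464.Sl2
open Cfsg.Agent.LieClassical.OrthCore Cfsg.Agent.H931.L2T

universe u' v'

variable {ι : Type} [Fintype ι] [DecidableEq ι] {F : Type u'} [Field F] {P : Subgroup (GL ι F)}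
  {E : Type v'} [Field E] {ρ : _root_.Matrix.SpecialLinearGroup (Fin 2) E →* GL ι F}

/-- `v` over `F` seen over `k` -/
theorem map_vec (k : Type*) [Field k] [Algebra F k] (M : Matrix ι ι F) (v : ι → F) :
    (M.map (algebraMap F k)) *ᵥ (fun a => algebraMap F k (v a)) = fun a => algebraMap F k ((M *ᵥ v) a) := by
  funext a
  simp only [Matrix.mulVec, dotProduct, _root_.Matrix.map_apply, _root_.map_sum, _root_.map_mul]

theorem vec_inj {k : Type*} [Field k] [Algebra F k] {v w : ι → F}
    (h : (fun a => algebraMap F k (v a)) = fun a => algebraMap F k (w a)) : v = w := by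
  funext a
  exact (algebraMap F k).injective (congrFun h a)

theorem mulVec_eq_iff {k : Type*} [Field k] [Algebra F k] (M : Matrix ι ι F) (v w : ι → F) :
    (M.map (algebraMap F k)) *ᵥ (fun a => algebraMap F k (v a)) = (fun a => algebraMap F k (w a)) ↔ M *ᵥ v = w := by
  rw [map_vec]
  exact ⟨vec_inj, fun h => by rw [h]⟩

/-- From uniqueness over an extension field to `Stein`. -/
theorem stein_of_ext (k : Type*) [Field k] [Algebra F k] {v0 : ι → F} (h0 : v0 ≠ 0)
    (hu : ∀ x : E, (ρ (u x) : Matrix ι ι F) *ᵥ v0 = v0) {v1 : ι → k}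
    (ht : ∀ a : Eˣ, ((ρ (t a) : Matrix ι ι F).map (algebraMap F k)) *ᵥ v1 = v1)
    (huniq : ∀ v : ι → k, (∀ x : E, ((ρ (u x) : Matrix ι ι F).map (algebraMap F k)) *ᵥ v = v) → ∃ c : k, v = c • v1) :
    Stein ρ v0 := by
  obtain ⟨i, hi⟩ := Function.ne_iff.1 h0
  obtain ⟨c0, hc0⟩ := huniq (fun a => algebraMap F k (v0 a)) fun x => (mulVec_eq_iff _ _ _).2 (hu x)
  have hc00 : c0 ≠ 0 := by
    rintro rfl
    have h1 := congrFun hc0 i
    simp only [zero_smul, Pi.zero_apply] at h1
    exact hi ((algebraMap F k).injective (by rw [h1, Pi.zero_apply, map_zero]))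
  refine ⟨h0, hu, fun a => ?_, fun v hv => ?_⟩
  · rw [← mulVec_eq_iff (k := k), hc0, Matrix.mulVec_smul, ht]
  · obtain ⟨c, hc⟩ := huniq (fun a => algebraMap F k (v a)) fun x => (mulVec_eq_iff _ _ _).2 (hv x)
    refine ⟨v i / v0 i, ?_⟩
    apply vec_inj (k := k)
    have e1 := congrFun hc i
    have e0 := congrFun hc0 i
    simp only [Pi.smul_apply, smul_eq_mul] at e1 e0
    have hv1 : v1 i ≠ 0 := by
      intro h
      rw [h, mul_zero] at e0
      exact hi ((algebraMap F k).injective (by rw [e0, Pi.zero_apply, map_zero]))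
    funext a
    have ea := congrFun hc a
    have ea0 := congrFun hc0 a
    simp only [Pi.smul_apply, smul_eq_mul] at ea ea0 ⊢
    rw [map_mul, map_div₀, ea, e1, e0, ea0]
    field_simp

section cross

variable [Fintype E]

/-- **Cross characteristic.** -/
theorem exists_stein_cross (habs : ActsAbsolutelyIrreducibly (matrixSet ρ.range)) (hρ : ρ ≠ 1)
    (hK : (Fintype.card E : F) ≠ 0) (hn : Fintype.card ι = Fintype.card E) : ∃ v0, Stein ρ v0 := by
  classical
  let k := AlgebraicClosure F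
  have hKk : (Fintype.card E : k) ≠ 0 := by
    intro h
    apply hK
    apply (algebraMap F k).injective
    rw [map_natCast, h, map_zero]
  obtain ⟨ψ, hψ⟩ := exists_prim (K := E) hKk
  have hspan := span_extI ρ k (span_eq_topI ρ habs)
  have hne := extI_ne_one ρ k hρ
  have hfin : finrank k (ι → k) = Fintype.card E := by rw [Module.finrank_fintype_fun_eq_card, hn]
  have hq2 : 2 ≤ Fintype.card E := Fintype.one_lt_card
  have h1 := dim_cases (extI ρ k) hψ hKk hspan hne
  have hall : ∀ b : E, b ≠ 0 → finrank k (LinearMap.range (Cfsg.Agent.H464.Sl2.E (extI ρ k) ψ b)) = 1 := by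
    rcases h1 with h | h
    · exact h.1
    · rw [hfin] at h; omega
  have h2 := finrank_eq (extI ρ k) hψ hKk
  rw [hfin, Finset.sum_congr rfl (fun b hb => hall b (Finset.ne_of_mem_erase hb)), Finset.sum_const,
    Finset.card_erase_of_mem (Finset.mem_univ _), Finset.card_univ, smul_eq_mul, mul_one] at h2
  have hr0 : finrank k (LinearMap.range (Cfsg.Agent.H464.Sl2.E (extI ρ k) ψ 0)) = 1 := by omega
  have hE0 : Cfsg.Agent.H464.Sl2.E (extI ρ k) ψ 0 ≠ 0 := by
    intro h
    rw [h, LinearMap.range_zero, finrank_bot] at hr0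
    omega
  obtain ⟨v, lam, hv, hEv⟩ := exists_prin hψ hKk hE0
  obtain ⟨hlam, -⟩ := hv.stein hψ hKk hEv hspan hfin hr0.le
  -- a fixed vector over `F`
  let M : Matrix ι ι F := ∑ x : E, (ρ (u x) : Matrix ι ι F)
  have hM : (M.map (algebraMap F k)) ≠ 0 := by
    intro h
    apply hE0
    have h3 : ∑ x : E, extI ρ k (u x) = 0 := by
      have h4 : ∀ x : E, extI ρ k (u x) = Matrix.toLin' ((algebraMap F k).mapMatrix (ρ (u x) : Matrix ι ι F)) :=
        fun x => rfl
      rw [Finset.sum_congr rfl fun x _ => h4 x, ← map_sum, ← map_sum]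
      have h5 : (algebraMap F k).mapMatrix M = 0 := h
      rw [h5, map_zero]
    unfold Cfsg.Agent.H464.Sl2.E
    have h6 : ∀ x : E, ψ (-(0 * x)) • extI ρ k (u x) = extI ρ k (u x) := fun x => by
      rw [zero_mul, neg_zero, AddChar.map_zero_eq_one, one_smul]
    rw [Finset.sum_congr rfl fun x _ => h6 x, h3, smul_zero]
  have hM0 : M ≠ 0 := by
    intro h
    apply hM
    rw [h]
    ext i j
    simp
  have hMu : ∀ y : E, (ρ (u y) : Matrix ι ι F) * M = M := by
    intro y
    change (ρ (u y) : Matrix ι ι F) * ∑ x : E, (ρ (u x) : Matrix ι ι F) = ∑ x : E, (ρ (u x) : Matrix ι ι F)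
    rw [Finset.mul_sum, ← Equiv.sum_comp (Equiv.addLeft y) (fun x : E => (ρ (u x) : Matrix ι ι F))]
    refine Finset.sum_congr rfl fun x _ => ?_
    rw [Equiv.coe_addLeft, u_add, map_mul, Units.val_mul]
  obtain ⟨w0, hw0⟩ : ∃ w0 : ι → F, M *ᵥ w0 ≠ 0 := by
    by_contra hcon
    push Not at hcon
    apply hM0
    ext i j
    have := congrFun (hcon (Pi.single j 1)) i
    rw [Matrix.mulVec_single] at this
    simpa using this
  refine ⟨M *ᵥ w0, stein_of_ext k hw0 (fun x => by rw [Matrix.mulVec_mulVec, hMu]) (v1 := v) ?_ ?_⟩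
  · intro a
    have h3 := hv.eig a
    rw [hlam, one_smul] at h3
    exact h3
  · intro x hx
    have h3 : Cfsg.Agent.H464.Sl2.E (extI ρ k) ψ 0 x = x := by
      unfold Cfsg.Agent.H464.Sl2.E
      have h6 : ∀ y : E, (ψ (-(0 * y)) • extI ρ k (u y)) x = x := fun y => by
        rw [zero_mul, neg_zero, AddChar.map_zero_eq_one, one_smul]
        exact hx y
      rw [LinearMap.smul_apply, LinearMap.sum_apply, Finset.sum_congr rfl fun y _ => h6 y, Finset.sum_const,
        Finset.card_univ, ← Nat.cast_smul_eq_nsmul k, smul_smul, inv_mul_cancel₀ hKk, one_smul]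
    have h4 := finrank_le_one_iff.1 hr0.le
    obtain ⟨e, he⟩ := h4
    obtain ⟨α, hα⟩ := he ⟨v, ⟨v, hEv⟩⟩
    obtain ⟨β, hβ⟩ := he ⟨x, ⟨x, h3⟩⟩
    have hα' : α • (e : ι → k) = v := congrArg Subtype.val hα
    have hβ' : β • (e : ι → k) = x := congrArg Subtype.val hβ
    have hα0 : α ≠ 0 := by
      rintro rfl
      rw [zero_smul] at hα'
      exact hv.ne hα'.symm
    exact ⟨β * α⁻¹, by rw [← hβ', ← hα', smul_smul, mul_assoc, inv_mul_cancel₀ hα0, mul_one]⟩

end cross

section own

variable [Fintype E]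

theorem exists_emb (p : ℕ) [hp : Fact p.Prime] [CharP F p] [CharP E p] : Nonempty (E →+* AlgebraicClosure F) := by
  have hk : CharP (AlgebraicClosure F) p := charP_of_injective_algebraMap (algebraMap F (AlgebraicClosure F)).injective p
  let _ : Algebra (ZMod p) E := ZMod.algebra E p
  let _ : Algebra (ZMod p) (AlgebraicClosure F) := ZMod.algebra _ p
  exact ⟨(IsAlgClosed.lift : E →ₐ[ZMod p] AlgebraicClosure F).toRingHom⟩

/-- **Own characteristic.** -/
theorem exists_stein_own (p : ℕ) [hp : Fact p.Prime] [CharP F p] [CharP E p]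
    (habs : ActsAbsolutelyIrreducibly (matrixSet ρ.range)) (hn : Fintype.card ι = Fintype.card E) :
    ∃ v0, Stein ρ v0 := by
  classical
  let k := AlgebraicClosure F
  have hk : CharP k p := charP_of_injective_algebraMap (algebraMap F k).injective p
  obtain ⟨j⟩ := exists_emb (F := F) (E := E) p
  have hq2 : 2 ≤ Fintype.card E := Fintype.one_lt_card
  obtain ⟨r, Φ, h⟩ := H875.Fn.exists_isModel_lin (algebraMap F k) j ρ p habs (by omega)
  have hfin := h.finrank p
  rw [Module.finrank_fintype_fun_eq_card, hn] at hfin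
  have hle := h.le
  have hr : r = Fintype.card E - 1 := by
    have h1 : (H875.Fn.SS p r).card ≤ r + 1 := by
      unfold H875.Fn.SS
      exact (Finset.card_filter_le _ _).trans (Finset.card_range _).le
    omega
  obtain ⟨v, hv0, -, hU, hw, huniq⟩ := h.exists_hw
  -- a fixed vector over `F`
  have hnt : Nontrivial (ι → F) := by
    have : Nonempty ι := Fintype.card_pos_iff.1 (by omega)
    infer_instance
  obtain ⟨v0, h0, hfix⟩ := H875.Fn.exists_common_fix (k := F) (V := ι → F) p
    (fun x : E => Matrix.toLin' (ρ (u x) : Matrix ι ι F)) (fun x y => by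
      rw [Module.End.mul_eq_comp, Module.End.mul_eq_comp, ← Matrix.toLin'_mul, ← Matrix.toLin'_mul, ← Units.val_mul,
        ← Units.val_mul, ← map_mul, ← map_mul, ← u_add, ← u_add, add_comm]) (fun x => by
      rw [← Matrix.toLin'_pow, ← Units.val_pow_eq_pow_val, ← map_pow]
      have h1 : ∀ n : ℕ, (u x : _root_.Matrix.SpecialLinearGroup (Fin 2) E) ^ n = u (n * x) := by
        intro n
        induction n with
        | zero => rw [pow_zero, Nat.cast_zero, zero_mul, u_zero]
        | succ n ih => rw [pow_succ, ih, ← u_add, Nat.cast_succ, add_mul, one_mul]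
      rw [h1, CharP.cast_eq_zero, zero_mul, u_zero, map_one, Units.val_one, Matrix.toLin'_one]
      rfl) Finset.univ
  have hUu : ∀ x : E, H911.SLTwo.U x = u x := fun x => Subtype.ext rfl
  have hht : ∀ a : Eˣ, H911.SLTwo.hh a = t a := fun x => Subtype.ext rfl
  refine ⟨v0, stein_of_ext k h0 (fun x => by
    have := hfix x (Finset.mem_univ _)
    rwa [Matrix.toLin'_apply] at this) (v1 := v) ?_ ?_⟩
  · intro a
    have h3 := hw a
    rw [hht, hr, ← map_pow] at h3
    have h4 : (a : E) ^ (Fintype.card E - 1) = 1 := FiniteField.pow_card_sub_one_eq_one _ a.ne_zero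
    rw [h4, map_one, one_smul] at h3
    exact h3
  · intro x hx
    exact huniq x fun y => by
      rw [hUu]
      exact hx y

end own

/-- **`PSL₂(q)` in dimension `q`, orthogonal: inside `A_{q+1}`.** -/
theorem psl_main [Finite F] [Fintype E] (p : ℕ) [hp : Fact p.Prime] [CharP F p] (h2 : (2 : F) ≠ 0)
    {Q : QuadraticForm F (ι → F)} (hQ : Nondeg Q)
    (h5 : 5 ≤ Fintype.card ι) {H : Subgroup (GL ι F)} (hH : IsMaximalIn (omegaGL (Q : (ι → F) → F)) H)
    (hPc : IsResidualCore H P) {r : ℕ} (hr : r.Prime) [CharP E r]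
    (hcop : (Nat.card ((scalars ι F).subgroupOf P)).Coprime r)
    (e : Soc P ≃* ProjectiveSpecialLinearGroup (Fin 2) E) (hq : Fintype.card ι = Fintype.card E) {m : ℕ}
    (hm : Fintype.card ι + 1 = m) :
    Nonempty (Soc P ≃* alternatingGroup (Fin m)) ∧ (m : F) ≠ 0 ∧ ((3 : F) ≠ 0 → (m : F) + 1 ≠ 0) := by
  have hC : Core P := core_of_residual hPc
  obtain ⟨ρ, hρ, -⟩ := exists_rep hC hr (by omega) hcop e
  have habs : ActsAbsolutelyIrreducibly (matrixSet ρ.range) := by rw [hρ]; exact hC.absIrred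
  have hS : ∃ v0, Stein ρ v0 := by
    by_cases hpr : p = r
    · subst hpr
      exact exists_stein_own p habs hq
    · refine exists_stein_cross habs ?_ ?_ hq
      · intro h
        rw [h, MonoidHom.range_eq_bot_iff.2 rfl] at hρ
        apply hC.nonabelian
        subst hρ
        exact ⟨⟨fun a b => by
          induction a using QuotientGroup.induction_on with
          | H a =>
            induction b using QuotientGroup.induction_on with
            | H b => rw [Subsingleton.elim a b]⟩⟩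
      · obtain ⟨n, -, hn⟩ := FiniteField.card E r
        rw [hn, Nat.cast_pow]
        exact pow_ne_zero _ (prime_ne_zero p hr hpr)
  obtain ⟨v0, S⟩ := hS
  exact stein_main h2 hQ h5 hH hPc S hρ hq hm

/-- the scalars of a subgroup of `Ω(Q)` have order at most two -/
theorem scalars_two_of_omega [Finite F] {Q : QuadraticForm F (ι → F)} (hQ : Nondeg Q) (h0 : 0 < Fintype.card ι)
    (hP : P ≤ omegaGL (Q : (ι → F) → F)) {r : ℕ} (hr : r.Prime) (hr2 : r ≠ 2) :
    ¬ r ∣ Nat.card ((scalars ι F).subgroupOf P) := by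
  intro h
  have := Fact.mk hr
  obtain ⟨z, hz⟩ := exists_prime_orderOf_dvd_card' r h
  have h1 := z.2
  rw [Subgroup.mem_subgroupOf, mem_scalars_iff] at h1
  obtain ⟨c, hc⟩ := h1
  obtain ⟨g, -, hg⟩ := hP (z : P).2
  have hiso : ∀ x, Q (((z : P) : GL ι F).1 *ᵥ x) = Q x := by
    rw [← hg]
    exact fun x => g.2 x x
  obtain ⟨i⟩ : Nonempty ι := Fintype.card_pos_iff.1 h0
  have hne : (Pi.single i 1 : ι → F) ≠ 0 := by
    intro h
    have := congrFun h i
    simp at this
  obtain ⟨y, hy⟩ := hQ.exists_polar_ne hne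
  obtain ⟨x, hx⟩ : ∃ x, Q x ≠ 0 := by
    by_contra hcon
    push Not at hcon
    apply hy
    rw [QuadraticMap.polar, hcon, hcon, hcon]
    ring
  have h2 := hiso x
  rw [hc, Matrix.smul_mulVec, Matrix.one_mulVec, QuadraticMap.map_smul, smul_eq_mul] at h2
  have h3 : (c : F) * (c : F) = 1 := by
    have h4 : ((c : F) * (c : F) - 1) * Q x = 0 := by linear_combination h2
    exact sub_eq_zero.1 ((mul_eq_zero.1 h4).resolve_right hx)
  have h5 : (z : P) ^ 2 = 1 := by
    apply Subtype.ext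
    apply Units.ext
    rw [Subgroup.coe_pow, Units.val_pow_eq_pow_val, hc, smul_pow, one_pow, pow_two, h3, one_smul]
    rfl
  have h6 : z ^ 2 = 1 := Subtype.ext h5
  have h7 := orderOf_dvd_of_pow_eq_one h6
  rw [hz] at h7
  exact hr2 ((Nat.prime_dvd_prime_iff_eq hr Nat.prime_two).1 h7)

/-- **`A₆` in dimension nine.** -/
theorem a6_nine [Finite F] (p : ℕ) [hp : Fact p.Prime] [CharP F p] (h2 : (2 : F) ≠ 0)
    {Q : QuadraticForm F (ι → F)} (hQ : Nondeg Q) (h9 : Fintype.card ι = 9) {H : Subgroup (GL ι F)}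
    (hH : IsMaximalIn (omegaGL (Q : (ι → F) → F)) H) (hPc : IsResidualCore H P)
    (e : Soc P ≃* alternatingGroup (Fin 6)) : False := by
  obtain ⟨K, _, _, hK, _, ⟨f⟩⟩ := exists_nine e
  have h3 : ¬ 3 ∣ Nat.card ((scalars ι F).subgroupOf P) :=
    scalars_two_of_omega hQ (by omega) (hPc.le.trans hH.1.le) Nat.prime_three (by norm_num)
  obtain ⟨⟨e'⟩, -⟩ := psl_main p h2 hQ (by omega) hH hPc Nat.prime_three
    (((Nat.Prime.coprime_iff_not_dvd Nat.prime_three).2 h3).symm) f (by rw [h9, hK]) rfl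
  have h4 := Nat.card_congr (e.symm.trans e').toEquiv
  rw [h9] at h4
  have h6 : Nat.card (alternatingGroup (Fin 6)) = 360 := by
    have := nat_card_alternatingGroup (α := Fin 6)
    rw [this, Nat.card_eq_fintype_card, Fintype.card_fin]
    rfl
  have h10 : Nat.card (alternatingGroup (Fin (9 + 1))) = 1814400 := by
    have := nat_card_alternatingGroup (α := Fin (9 + 1))
    rw [this, Nat.card_eq_fintype_card, Fintype.card_fin]
    rfl
  rw [h6, h10] at h4
  omega

end Cfsg.Agent.H937.T2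
end

private theorem dce_179f5b5141a1 : _root_.True := by
  try have : _root_.True := by simp only [_root_.Cfsg.Agent.H915.LD.tr.eq_1]
  try have : _root_.True := by simp only [_root_.Cfsg.Agent.H937.T2.rep.eq_2]
  try have : _root_.True := by simp only [_root_.Cfsg.Agent.H937.T2.rep.eq_1]
  exact _root_.True.intro
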