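import Cfsg.Agent.H937.T2Nine
import Cfsg.Agent.H906.SL2Real
import Mathlib.NumberTheory.LegendreSymbol.QuadraticChar.Basic
import Mathlib.NumberTheory.LegendreSymbol.AddCharacter
import Cfsg.Agent.H464.L2TrF_m3
import Cfsg.Agent.H875.TwoQuad
import Cfsg.Agent.H914.SixBase
import Cfsg.Agent.H392.TD.Main
import Cfsg.Agent.Prune
set_option linter.all false

section
prune_inst 0x7fffadf9bbbddbdfdf7f7e7fa6dccffc3a931fffa6dff94bffe069ff0b9f038209456b8d0de010fe0ed6e21410b87853fbfefeffe86bfc7ffffdfff41ffbee4fe5f73508519488340f300ff603f0678e7f3fffffffffffffffffffffffffffbeffbfffffffff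

-- part: H937/T2Eight
section
prune_inst 0x4006404220200080018050032001c52820004000008000000000a0407810c4800010821b23001020080804460300040100000204000000000000000011900800800020080480008c00010000100000000000000000000000000000000000000000000000
set_option linter.all false
open scoped Cfsg.Agent.FastGrp

-- part: H931/L2Class
section
/-!
# Conjugacy classes of `SL₂(q)` and traces (helper931)

* `conj_companion` : an element of trace `τ`, `τ² ≠ 4`, of `SL₂(K)`, `K` finite, is conjugate to `u τ * w 1`;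
* `trace_eq_X` : its trace on `V`; `trace_int_of_pm` : for `τ² = 4` the trace is an integer if all weights `b ≠ 0` occur.
-/

set_option autoImplicit false
set_option linter.unusedSectionVars false

namespace Cfsg.Agent.H931.L2T

open Matrix Module Cfsg Cfsg.Geo Cfsg.Agent.H464.Sl2

/-- the matrix trace -/
def mt {K : Type*} [Field K] (g : _root_.Matrix.SpecialLinearGroup (Fin 2) K) : K := g.1 0 0 + g.1 1 1

section Conj

variable {K : Type*} [Field K]

theorem coe_uw (τ : K) : (u τ * w 1).1 = !![τ, -1; 1, 0] := by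
  change (u τ).1 * (w 1).1 = _
  have e1 : (u τ).1 = !![1, τ; 0, 1] := rfl
  have e2 : (w (1 : Kˣ)).1 = !![0, -(((1 : Kˣ)⁻¹ : Kˣ) : K); ((1 : Kˣ) : K), 0] := rfl
  rw [e1, e2]
  ext i j
  (revert i j; simp only [Matrix.mul_apply, Fin.sum_univ_two, _root_.Fin.forall_fin_succ, _root_.inv_one, _root_.Units.val_one, _root_.Matrix.of_apply, _root_.Matrix.cons_val', _root_.Matrix.cons_val_fin_one, Fin.isValue, _root_.Matrix.cons_val_zero, _root_.Matrix.cons_val_one, _root_.MulZeroClass.mul_zero, _root_.mul_one, _root_.zero_add, _root_.Matrix.cons_val_succ, _root_.mul_neg, _root_.add_zero, _root_.forall_const, _root_.true_and, _root_.neg_zero, _root_.implies_true, _root_.and_self])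

theorem mt_uw (τ : K) : mt (u τ * w 1) = τ := by
  rw [mt, coe_uw]; simp

theorem mt_t (a : Kˣ) : mt (t a) = (a : K) + ((a⁻¹ : Kˣ) : K) := rfl

theorem mt_conj (h g : _root_.Matrix.SpecialLinearGroup (Fin 2) K) : mt (h * g * h⁻¹) = mt g := by
  have e : ∀ g : _root_.Matrix.SpecialLinearGroup (Fin 2) K, mt g = g.1.trace := fun g => by
    rw [mt, Matrix.trace_fin_two]
  rw [e, e]
  change (h.1 * g.1 * (h⁻¹).1).trace = _
  rw [Matrix.trace_mul_comm, ← Matrix.mul_assoc]
  have h1 : (h⁻¹).1 * h.1 = 1 := by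
    change (h⁻¹ * h).1 = 1
    rw [inv_mul_cancel]
    rfl
  rw [h1, Matrix.one_mul]

/-- The form `det (x, g x)` represents `1`. -/
theorem exists_vec [Finite K] (g : _root_.Matrix.SpecialLinearGroup (Fin 2) K) (ht : mt g ^ 2 - 4 ≠ 0) :
    ∃ x z : K, g.1 1 0 * x ^ 2 + (g.1 1 1 - g.1 0 0) * x * z - g.1 0 1 * z ^ 2 = 1 := by
  have hdet : g.1 0 0 * g.1 1 1 - g.1 0 1 * g.1 1 0 = 1 := by
    have := g.2
    rwa [Matrix.det_fin_two] at this
  have hD : mt g ^ 2 - 4 = (g.1 1 1 - g.1 0 0) ^ 2 + 4 * (g.1 0 1 * g.1 1 0) := by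
    rw [mt]
    linear_combination 4 * hdet
  by_cases hc : g.1 1 0 = 0
  · have h1 : g.1 1 1 - g.1 0 0 ≠ 0 := by
      intro h
      apply ht
      rw [hD, h, hc]
      ring
    refine ⟨(1 + g.1 0 1) / (g.1 1 1 - g.1 0 0), 1, ?_⟩
    rw [hc]
    field_simp
    ring
  · by_cases h2 : (2 : K) = 0
    · have hp2 : CharP K 2 := CharTwo.of_one_ne_zero_of_two_eq_zero one_ne_zero h2
      have : Fact (Nat.Prime 2) := ⟨Nat.prime_two⟩
      obtain ⟨y, hy⟩ := Finite.injective_iff_surjective.1 (frobenius_inj K 2) (g.1 1 0)⁻¹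
      rw [frobenius_def] at hy
      refine ⟨y, 0, ?_⟩
      rw [hy]
      field_simp
      ring
    · obtain ⟨X, z, hXz⟩ := Cfsg.Agent.H906.exists_sq_sub h2 (mt g ^ 2 - 4) (4 * g.1 1 0) ht
      refine ⟨(X - (g.1 1 1 - g.1 0 0) * z) / (2 * g.1 1 0), z, ?_⟩
      rw [hD] at hXz
      have h4 : (4 : K) ≠ 0 := by
        have : (4 : K) = 2 * 2 := by norm_num
        rw [this]
        exact mul_ne_zero h2 h2
      field_simp
      linear_combination hXz

/-- **Elements of trace `τ ≠ ± 2` are conjugate to the companion matrix.** -/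
theorem conj_companion [Finite K] (g : _root_.Matrix.SpecialLinearGroup (Fin 2) K) (ht : mt g ^ 2 - 4 ≠ 0) :
    ∃ h : _root_.Matrix.SpecialLinearGroup (Fin 2) K, g = h * (u (mt g) * w 1) * h⁻¹ := by
  obtain ⟨x, z, hxz⟩ := exists_vec g ht
  have hdet : g.1 0 0 * g.1 1 1 - g.1 0 1 * g.1 1 0 = 1 := by
    have := g.2
    rwa [Matrix.det_fin_two] at this
  obtain ⟨h, hh⟩ : ∃ h : _root_.Matrix.SpecialLinearGroup (Fin 2) K,
      h.1 = !![x, g.1 0 0 * x + g.1 0 1 * z - mt g * x; z, g.1 1 0 * x + g.1 1 1 * z - mt g * z] := by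
    refine ⟨⟨_, ?_⟩, rfl⟩
    rw [Matrix.det_fin_two_of, mt]
    linear_combination hxz
  refine ⟨h, ?_⟩
  rw [eq_mul_inv_iff_mul_eq]
  apply Subtype.ext
  change g.1 * h.1 = h.1 * (u (mt g) * w 1).1
  rw [coe_uw, hh]
  ext i j
  rw [Matrix.mul_apply, Matrix.mul_apply, Fin.sum_univ_two, Fin.sum_univ_two]
  (revert i j; simp only [mt, _root_.Fin.forall_fin_succ, Fin.isValue, _root_.Matrix.of_apply, _root_.Matrix.cons_val', _root_.Matrix.cons_val_fin_one, _root_.Matrix.cons_val_zero, _root_.Matrix.cons_val_one, _root_.mul_one, _root_.Matrix.cons_val_succ, _root_.mul_neg, _root_.MulZeroClass.mul_zero, _root_.add_zero, _root_.forall_const, _root_.Fin.succ_zero_eq_one, _root_.IsEmpty.forall_iff, _root_.and_true, _root_.true_and]) <;> (repeat' with_reducible apply And.intro)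
  · ring
  · linear_combination (-x) * hdet
  · ring
  · linear_combination (-z) * hdet

end Conj

section Trace

variable {K : Type*} [Field K] [Fintype K] {k : Type*} [Field k] {V : Type*} [AddCommGroup V] [Module k V]
  [FiniteDimensional k V] (R : _root_.Matrix.SpecialLinearGroup (Fin 2) K →* Module.End k V) {ψ : AddChar K k}
  (hψ : ψ.IsPrimitive) (hK : (Fintype.card K : k) ≠ 0)

/-- The trace of `V` as a function of the matrix trace. -/
noncomputable def X (τ : K) : k := LinearMap.trace k V (R (u τ * w 1))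

theorem tr_conj' (h g : _root_.Matrix.SpecialLinearGroup (Fin 2) K) :
    LinearMap.trace k V (R (h * g * h⁻¹)) = LinearMap.trace k V (R g) := by
  rw [map_mul, LinearMap.trace_mul_comm, ← map_mul, ← mul_assoc, inv_mul_cancel, one_mul]

theorem trace_eq_X (g : _root_.Matrix.SpecialLinearGroup (Fin 2) K) (ht : mt g ^ 2 - 4 ≠ 0) :
    LinearMap.trace k V (R g) = X R (mt g) := by
  obtain ⟨h, hh⟩ := conj_companion g ht
  conv_lhs => rw [hh]
  rw [tr_conj', X]

include hψ hK in
/-- Traces of unipotent elements. -/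
theorem trace_u_ne (hall : ∀ b : K, b ≠ 0 → finrank k (LinearMap.range (E R ψ b)) = 1) {x : K} (hx : x ≠ 0) :
    LinearMap.trace k V (R (u x)) = (finrank k (LinearMap.range (E R ψ 0)) : k) - 1 := by
  classical
  rw [trace_u R hψ hK, ← Finset.add_sum_erase _ _ (Finset.mem_univ (0 : K)), zero_mul, AddChar.map_zero_eq_one, one_mul]
  have h1 : ∑ b ∈ Finset.univ.erase (0 : K), ψ (b * x) * (finrank k (LinearMap.range (E R ψ b)) : k) =
      ∑ b ∈ Finset.univ.erase (0 : K), ψ (b * x) := by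
    refine Finset.sum_congr rfl fun b hb => ?_
    rw [hall b (Finset.ne_of_mem_erase hb), Nat.cast_one, mul_one]
  have h2 : ∑ b : K, ψ (b * x) = 0 := by
    rw [AddChar.sum_mulShift x hψ, if_neg hx, Nat.cast_zero]
  rw [← Finset.add_sum_erase _ _ (Finset.mem_univ (0 : K)), zero_mul, AddChar.map_zero_eq_one] at h2
  rw [h1]
  linear_combination h2

include hψ hK in
/-- On the elements of trace `± 2` the trace is an integer. -/
theorem trace_int_of_pm (hall : ∀ b : K, b ≠ 0 → finrank k (LinearMap.range (E R ψ b)) = 1)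
    {c : k} (hc1 : c = 1 ∨ c = -1) (hc : R (t (-1)) = c • 1) (g : _root_.Matrix.SpecialLinearGroup (Fin 2) K)
    (ht : mt g ^ 2 - 4 = 0) : ∃ m : ℤ, LinearMap.trace k V (R g) = m := by
  obtain ⟨h, ε, y, hε, rfl⟩ := exists_conj_unip g ht
  rw [tr_conj']
  have h1 : ε = 1 ∨ ε = -1 := by
    have h2 : (ε : K) ^ 2 = 1 := by
      rw [← Units.val_pow_eq_pow_val, hε, Units.val_one]
    rw [sq] at h2
    rcases mul_self_eq_one_iff.1 h2 with h | h
    · exact Or.inl (Units.ext h)
    · exact Or.inr (Units.ext h)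
  have h3 : ∃ m : ℤ, LinearMap.trace k V (R (u y)) = m := by
    by_cases hy : y = 0
    · refine ⟨finrank k V, ?_⟩
      rw [hy, u_zero, map_one, LinearMap.trace_one]
      simp only [_root_.Int.cast_natCast]
    · refine ⟨(finrank k (LinearMap.range (E R ψ 0)) : ℤ) - 1, ?_⟩
      rw [trace_u_ne R hψ hK hall hy]
      push_cast
      ring
  obtain ⟨m, hm⟩ := h3
  rcases h1 with rfl | rfl
  · exact ⟨m, by rw [t_one, one_mul, hm]⟩
  · rw [map_mul, hc, smul_mul_assoc, one_mul, map_smul, hm]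
    rcases hc1 with rfl | rfl
    · exact ⟨m, by rw [one_smul]⟩
    · exact ⟨-m, by push_cast; rw [neg_smul, one_smul]⟩

end Trace

end Cfsg.Agent.H931.L2T
end

-- part: H937/T2Eight
section
/-!
# `A₆` in dimension eight (helper937)

`|K| = 9`, `ρ : SL₂(K) → GL₈(F)` absolutely irreducible, `char F ≠ 3`:

* `sum_u` : `∑ x, ρ (u x) = 0` (the eight non-trivial characters of the Sylow 3-subgroup occur once each);
  `tr_u` : `tr (ρ (u x)) = -1` for `x ≠ 0`; `weights` : over an algebraically closed field;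
* `plus_of_eight` : a fixed quadratic form is of plus type.
-/

set_option autoImplicit false
set_option linter.unusedSectionVars false

namespace Cfsg.Agent.H937.T2

open Matrix Module Cfsg Cfsg.Geo Cfsg.Agent.H915.LD Cfsg.Agent.H464.Sl2
open Cfsg.Agent.LieClassical.OrthCore Cfsg.Agent.H931.L2T

universe u' v'

variable {ι : Type} [Fintype ι] [DecidableEq ι] {F : Type u'} [Field F] {P : Subgroup (GL ι F)}
  {E : Type v'} [Field E] {ρ : _root_.Matrix.SpecialLinearGroup (Fin 2) E →* GL ι F}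

section weights

variable [Fintype E]

/-- Dimension `q - 1`: the weights. -/
theorem weights (habs : ActsAbsolutelyIrreducibly (matrixSet ρ.range)) (hρ : ρ ≠ 1)
    (hn : Fintype.card ι + 1 = Fintype.card E) (h5 : 4 ≤ Fintype.card E) (k : Type*) [Field k] [Algebra F k] [IsAlgClosed k]
    (hKk : (Fintype.card E : k) ≠ 0) {ψ : AddChar E k} (hψ : ψ.IsPrimitive) :
    Cfsg.Agent.H464.Sl2.E (extI ρ k) ψ 0 = 0 ∧
      ∀ b : E, b ≠ 0 → finrank k (LinearMap.range (Cfsg.Agent.H464.Sl2.E (extI ρ k) ψ b)) = 1 := by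
  classical
  have hspan := span_extI ρ k (span_eq_topI ρ habs)
  have hne := extI_ne_one ρ k hρ
  have hfin : finrank k (ι → k) + 1 = Fintype.card E := by rw [Module.finrank_fintype_fun_eq_card, hn]
  have h1 := dim_cases (extI ρ k) hψ hKk hspan hne
  have hall : ∀ b : E, b ≠ 0 → finrank k (LinearMap.range (Cfsg.Agent.H464.Sl2.E (extI ρ k) ψ b)) = 1 := by
    rcases h1 with h | h
    · exact h.1
    · omega
  refine ⟨?_, hall⟩
  have h2 := finrank_eq (extI ρ k) hψ hKk
  rw [Finset.sum_congr rfl (fun b hb => hall b (Finset.ne_of_mem_erase hb)), Finset.sum_const,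
    Finset.card_erase_of_mem (Finset.mem_univ _), Finset.card_univ, smul_eq_mul, mul_one] at h2
  have hr0 : finrank k (LinearMap.range (Cfsg.Agent.H464.Sl2.E (extI ρ k) ψ 0)) = 0 := by omega
  exact LinearMap.range_eq_bot.1 (Submodule.finrank_eq_zero.1 hr0)

theorem sum_u (habs : ActsAbsolutelyIrreducibly (matrixSet ρ.range)) (hρ : ρ ≠ 1)
    (hK : (Fintype.card E : F) ≠ 0) (hn : Fintype.card ι + 1 = Fintype.card E) (h5 : 4 ≤ Fintype.card E) :
    ∑ x : E, (ρ (u x) : Matrix ι ι F) = 0 := by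
  let k := AlgebraicClosure F
  have hKk : (Fintype.card E : k) ≠ 0 := by
    intro h
    apply hK
    apply (algebraMap F k).injective
    rw [map_natCast, h, map_zero]
  obtain ⟨ψ, hψ⟩ := exists_prim (K := E) hKk
  obtain ⟨h0, -⟩ := weights habs hρ hn h5 k hKk hψ
  unfold Cfsg.Agent.H464.Sl2.E at h0
  have h1 : ∑ x : E, extI ρ k (u x) = 0 := by
    have h6 : ∀ x : E, ψ (-(0 * x)) • extI ρ k (u x) = extI ρ k (u x) := fun x => by
      rw [zero_mul, neg_zero, AddChar.map_zero_eq_one, one_smul]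
    rw [Finset.sum_congr rfl fun x _ => h6 x] at h0
    rcases smul_eq_zero.1 h0 with h | h
    · exact absurd h (inv_ne_zero hKk)
    · exact h
  have h4 : ∀ x : E, extI ρ k (u x) = Matrix.toLin' ((algebraMap F k).mapMatrix (ρ (u x) : Matrix ι ι F)) :=
    fun x => rfl
  rw [Finset.sum_congr rfl fun x _ => h4 x, ← map_sum, ← map_sum] at h1
  have h2 := Matrix.toLin'.injective (h1.trans (map_zero _).symm)
  ext i j
  have h3 := congrFun (congrFun h2 i) j
  apply (algebraMap F k).injective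
  rw [Matrix.zero_apply, map_zero]
  exact h3

end weights

/-! ### plus type -/

section quad

variable {Q : (ι → F) → F}

end quad

section plus

variable [Fintype E] [CharP E 3] (h9 : Fintype.card E = 9)

/-- the average over `{0, a, -a}` -/
noncomputable def av (ρ : _root_.Matrix.SpecialLinearGroup (Fin 2) E →* GL ι F) (a : E) : Matrix ι ι F :=
  (3 : F)⁻¹ • (1 + (ρ (u a) : Matrix ι ι F) + (ρ (u (-a)) : Matrix ι ι F))

/-- the prime field -/
def cc (E : Type v') [Field E] [CharP E 3] : ZMod 3 →+* E := ZMod.castHom (dvd_refl 3) E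

include h9 in
theorem exists_i : ∃ b : Eˣ, ((b : E) ^ 2) ^ 2 = -1 := by
  classical
  obtain ⟨g, hg⟩ := IsCyclic.exists_generator (α := Eˣ)
  have ho : orderOf g = 8 := by
    rw [orderOf_eq_card_of_forall_mem_zpowers hg, Nat.card_eq_fintype_card, Fintype.card_units, h9]
  refine ⟨g, ?_⟩
  have h8 : g ^ 8 = 1 := by rw [← ho, pow_orderOf_eq_one]
  have h4 : g ^ 4 ≠ 1 := by
    intro h
    have := orderOf_dvd_of_pow_eq_one h
    rw [ho] at this
    omega
  have h8' : (g : E) ^ 8 = 1 := by rw [← Units.val_pow_eq_pow_val, h8, Units.val_one]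
  have h4' : (g : E) ^ 4 ≠ 1 := fun h => h4 (Units.ext (by rw [Units.val_pow_eq_pow_val, h, Units.val_one]))
  have h : ((g : E) ^ 4 - 1) * ((g : E) ^ 4 + 1) = 0 := by linear_combination h8'
  have := (mul_eq_zero.1 h).resolve_left (sub_ne_zero.2 h4')
  linear_combination this

theorem basis_i {i : E} (hi : i ^ 2 = -1) (s t : ZMod 3) (h : cc E s + cc E t * i = 0) : s = 0 ∧ t = 0 := by
  have h1 : cc E (s * s + t * t) = 0 := by
    rw [map_add, map_mul, map_mul]
    linear_combination (cc E s - cc E t * i) * h + (cc E t) ^ 2 * hi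
  have h2 := (map_eq_zero (cc E)).1 h1
  have key : ∀ s t : ZMod 3, s * s + t * t = 0 → s = 0 ∧ t = 0 := by decide
  exact key s t h2

end plus

section main

variable [Fintype E] [CharP E 3] (h9 : Fintype.card E = 9) {Q : (ι → F) → F}

end main

end Cfsg.Agent.H937.T2
end

private theorem dce_1169f41c1958 : _root_.True := by
  try have : _root_.True := by simp only [_root_.Cfsg.Agent.H931.L2T.mt.eq_1]
  try have : _root_.True := by simp only [_root_.Cfsg.Agent.H931.L2T.X.eq_1]
  try have : _root_.True := by simp only [_root_.Cfsg.Agent.H937.T2.cc.congr_simp]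
  exact _root_.True.intro
end

-- part: H937/T2Fields
section
prune_inst 0x2002000000000000000000000000000000000000000002000201000000000000020000000000000000000000000000000000000000000000000000000000000400000000000000000000000000000000000000000000000000000000000000000
set_option linter.all false
open scoped Cfsg.Agent.FastGrp

-- part: H931/L2Norm
section
/-!
# Points of anisotropic conics over a finite field (helper931)

`x² - σ x z + z²` without non-trivial zero takes each non-zero value `q + 1` times; `card_conic`.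
-/

set_option autoImplicit false

namespace Cfsg.Agent.H931.L2N

open Finset

variable {K : Type*} [Field K]

/-- The norm form. -/
def N (σ : K) (p : K × K) : K := p.1 * p.1 - σ * p.1 * p.2 + p.2 * p.2

/-- The multiplication. -/
def mulN (σ : K) (p q : K × K) : K × K :=
  (p.1 * q.1 - p.2 * q.2, p.1 * q.2 + p.2 * q.1 - σ * p.2 * q.2)

theorem N_mul (σ : K) (p q : K × K) : N σ (mulN σ p q) = N σ p * N σ q := by
  unfold N mulN
  ring

theorem N_eq_zero {σ : K} (hσ : ∀ x : K, x * x - σ * x + 1 ≠ 0) {p : K × K} : N σ p = 0 ↔ p = 0 := by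
  constructor
  · intro h
    unfold N at h
    by_cases h2 : p.2 = 0
    · rw [h2] at h
      have h1 : p.1 * p.1 = 0 := by linear_combination h
      exact Prod.ext (mul_self_eq_zero.1 h1) h2
    · exfalso
      apply hσ (p.1 / p.2)
      field_simp
      linear_combination h
  · rintro rfl
    unfold N
    simp

theorem disc_ne {σ : K} (hσ : ∀ x : K, x * x - σ * x + 1 ≠ 0) : 4 - σ ^ 2 ≠ 0 := by
  intro h
  have h1 : (σ - 2) * (σ + 2) = 0 := by linear_combination -h
  rcases mul_eq_zero.1 h1 with h2 | h2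
  · apply hσ 1
    linear_combination -h2
  · apply hσ (-1)
    linear_combination h2

theorem N_surj [Finite K] {σ : K} (hσ : ∀ x : K, x * x - σ * x + 1 ≠ 0) (m : K) : ∃ p : K × K, N σ p = m := by
  by_cases h2 : (2 : K) = 0
  · have hp2 : CharP K 2 := CharTwo.of_one_ne_zero_of_two_eq_zero one_ne_zero h2
    have : Fact (Nat.Prime 2) := ⟨Nat.prime_two⟩
    obtain ⟨y, hy⟩ := Finite.injective_iff_surjective.1 (frobenius_inj K 2) m
    rw [frobenius_def] at hy
    refine ⟨(y, 0), ?_⟩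
    unfold N
    simp only
    rw [← hy]
    ring
  · obtain ⟨X, z, hXz⟩ := Cfsg.Agent.H906.exists_sq_sub h2 (σ ^ 2 - 4) (4 * m) (by
      intro h
      apply disc_ne hσ
      linear_combination -h)
    refine ⟨((X + σ * z) / 2, z), ?_⟩
    have h4 : (4 : K) ≠ 0 := by
      have : (4 : K) = 2 * 2 := by norm_num
      rw [this]
      exact mul_ne_zero h2 h2
    unfold N
    simp only
    field_simp
    linear_combination hXz

variable [Fintype K] [DecidableEq K]

/-- the number of points of norm `m` -/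
def cnt (σ m : K) : ℕ := (univ.filter fun p : K × K => N σ p = m).card

theorem cnt_mul {σ : K} (hσ : ∀ x : K, x * x - σ * x + 1 ≠ 0) {m₀ : K} (h0 : m₀ ≠ 0) (m : K) :
    cnt σ (m₀ * m) = cnt σ m := by
  obtain ⟨p₀, hp₀⟩ := N_surj hσ m₀
  have hinj : Function.Injective (mulN σ p₀) := by
    intro p q h
    have h1 : N σ p₀ ≠ 0 := by rw [hp₀]; exact h0
    have h3 : mulN σ p₀ (p.1 - q.1, p.2 - q.2) = 0 := by
      have e1 := congrArg Prod.fst h
      have e2 := congrArg Prod.snd h
      unfold mulN at e1 e2 ⊢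
      simp only at e1 e2 ⊢
      refine Prod.ext ?_ ?_
      · simp only [Prod.fst_zero]
        linear_combination e1
      · simp only [Prod.snd_zero]
        linear_combination e2
    have h4 := N_mul σ p₀ (p.1 - q.1, p.2 - q.2)
    rw [h3, (N_eq_zero hσ).2 rfl] at h4
    have h5 := (mul_eq_zero.1 h4.symm).resolve_left h1
    rw [N_eq_zero hσ] at h5
    have e1 := congrArg Prod.fst h5
    have e2 := congrArg Prod.snd h5
    exact Prod.ext (sub_eq_zero.1 e1) (sub_eq_zero.1 e2)
  have hsurj : Function.Surjective (mulN σ p₀) := Finite.injective_iff_surjective.1 hinj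
  unfold cnt
  symm
  apply Finset.card_bij (fun p _ => mulN σ p₀ p)
  · intro p hp
    rw [mem_filter] at hp ⊢
    exact ⟨mem_univ _, by rw [N_mul, hp₀, hp.2]⟩
  · intro p _ q _ h
    exact hinj h
  · intro q hq
    obtain ⟨p, rfl⟩ := hsurj q
    rw [mem_filter, N_mul, hp₀] at hq
    exact ⟨p, mem_filter.2 ⟨mem_univ _, mul_left_cancel₀ h0 hq.2⟩, rfl⟩

theorem cnt_zero {σ : K} (hσ : ∀ x : K, x * x - σ * x + 1 ≠ 0) : cnt σ 0 = 1 := by
  unfold cnt
  rw [card_eq_one]
  refine ⟨0, ?_⟩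
  ext p
  rw [mem_filter, mem_singleton, N_eq_zero hσ]
  exact ⟨fun h => h.2, fun h => ⟨mem_univ _, h⟩⟩

theorem cnt_ne {σ : K} (hσ : ∀ x : K, x * x - σ * x + 1 ≠ 0) {m : K} (hm : m ≠ 0) :
    cnt σ m = Fintype.card K + 1 := by
  have h1 : ∀ m : K, m ≠ 0 → cnt σ m = cnt σ 1 := by
    intro m hm
    have := cnt_mul hσ hm 1
    rwa [mul_one] at this
  have h2 : ∑ m : K, cnt σ m = Fintype.card (K × K) := by
    rw [← card_univ]
    exact (Finset.card_eq_sum_card_fiberwise (fun _ _ => mem_univ _)).symm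
  rw [← Finset.add_sum_erase _ _ (mem_univ (0 : K)), cnt_zero hσ,
    Finset.sum_congr rfl fun m hm => h1 m (ne_of_mem_erase hm), sum_const, card_erase_of_mem (mem_univ _), card_univ,
    smul_eq_mul, Fintype.card_prod] at h2
  have hq : 1 < Fintype.card K := Fintype.one_lt_card
  rw [h1 m hm]
  obtain ⟨q, hq'⟩ : ∃ q, Fintype.card K = q + 2 := ⟨Fintype.card K - 2, by omega⟩
  rw [hq'] at h2 ⊢
  have h3 : (q + 2 - 1) = q + 1 := by omega
  rw [h3] at h2
  have h4 : (q + 1) * cnt σ 1 = (q + 1) * (q + 2 + 1) := by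
    have : (q + 2) * (q + 2) = 1 + (q + 1) * (q + 2 + 1) := by ring
    omega
  exact Nat.eq_of_mul_eq_mul_left (by omega) h4

/-- **Points of the conic `x² - σxz + z² - τx + ρz + 1 = 0`.** -/
theorem card_conic {σ : K} (hσ : ∀ x : K, x * x - σ * x + 1 ≠ 0) (τ ρ : K) :
    (univ.filter fun p : K × K => N σ p - τ * p.1 + ρ * p.2 + 1 = 0).card =
      if τ ^ 2 - σ * τ * ρ + ρ ^ 2 + σ ^ 2 - 4 = 0 then 1 else Fintype.card K + 1 := by
  have hD := disc_ne hσ
  set m : K := (τ ^ 2 - σ * τ * ρ + ρ ^ 2 + σ ^ 2 - 4) / (4 - σ ^ 2) with hm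
  set x₀ : K := (2 * τ - σ * ρ) / (4 - σ ^ 2) with hx
  set z₀ : K := (σ * τ - 2 * ρ) / (4 - σ ^ 2) with hz
  have h1 : (univ.filter fun p : K × K => N σ p - τ * p.1 + ρ * p.2 + 1 = 0).card = cnt σ m := by
    unfold cnt
    apply Finset.card_bij (fun p _ => (p.1 - x₀, p.2 - z₀))
    · intro p hp
      rw [mem_filter] at hp ⊢
      refine ⟨mem_univ _, ?_⟩
      have h2 := hp.2
      unfold N at h2 ⊢
      simp only
      rw [hm, hx, hz]
      field_simp
      linear_combination (4 - σ ^ 2) * (4 - σ ^ 2) * h2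
    · intro p _ q _ h
      have e1 := congrArg Prod.fst h
      have e2 := congrArg Prod.snd h
      exact Prod.ext (sub_left_injective e1) (sub_left_injective e2)
    · intro q hq
      rw [mem_filter] at hq
      refine ⟨(q.1 + x₀, q.2 + z₀), ?_, ?_⟩
      · rw [mem_filter]
        refine ⟨mem_univ _, ?_⟩
        have h2 := hq.2
        rw [hm, eq_div_iff hD] at h2
        unfold N at h2 ⊢
        simp only
        generalize q.1 = a at h2 ⊢
        generalize q.2 = b at h2 ⊢
        have ex : (4 - σ ^ 2) * x₀ = 2 * τ - σ * ρ := by rw [hx]; field_simp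
        have ez : (4 - σ ^ 2) * z₀ = σ * τ - 2 * ρ := by rw [hz]; field_simp
        clear_value x₀ z₀
        have hD2 : (4 - σ ^ 2) * (4 - σ ^ 2) ≠ 0 := mul_ne_zero hD hD
        apply mul_left_cancel₀ hD2
        linear_combination (4 - σ ^ 2) * h2 + ((4 - σ ^ 2) * (2 * a + x₀ - σ * b - σ * z₀ - τ) + (2 * τ - σ * ρ)) * ex
          + ((4 - σ ^ 2) * (2 * b + z₀ - σ * a + ρ) + (σ * τ - 2 * ρ) - σ * (2 * τ - σ * ρ)) * ez
      · exact Prod.ext (add_sub_cancel_right _ _) (add_sub_cancel_right _ _)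
  rw [h1]
  by_cases h : τ ^ 2 - σ * τ * ρ + ρ ^ 2 + σ ^ 2 - 4 = 0
  · rw [if_pos h, hm, h, zero_div, cnt_zero hσ]
  · rw [if_neg h, cnt_ne hσ (div_ne_zero h hD)]

end Cfsg.Agent.H931.L2N
end

-- part: H931/L2Cusp
section
/-!
# Representations of `SL₂(q)` of degree `q - 1`: the class sum identity (helper931)

`R` spans `End V`, `V` has no fixed vectors of `U`, and every character `b ≠ 0` of `U` has multiplicity one.
`X τ` is the trace of `u τ * w 1`.  `S_eq`: the class sum of all elements of trace `τ` is `q X(τ) • 1`;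
`X_mul`, `Y_rec`: for `σ` non-split and `a + b = σ τ`, `a b = σ² + τ² - 4`: `Y σ * Y τ = -(Y a + Y b)`.
-/

set_option autoImplicit false
set_option linter.unusedSectionVars false

namespace Cfsg.Agent.H931.L2T

open Matrix Module Cfsg Cfsg.Geo Cfsg.Agent.H464.Sl2

section Basic

variable {K : Type*} [Field K]

theorem coe_uwc (x : K) (c : Kˣ) : (u x * w c).1 = !![x * c, -((c⁻¹ : Kˣ) : K); (c : K), 0] := by
  change (u x).1 * (w c).1 = _
  have e1 : (u x).1 = !![1, x; 0, 1] := rfl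
  have e2 : (w c).1 = !![0, -((c⁻¹ : Kˣ) : K); (c : K), 0] := rfl
  rw [e1, e2]
  ext i j
  (revert i j; simp only [Matrix.mul_apply, Fin.sum_univ_two, _root_.Fin.forall_fin_succ, _root_.Units.val_inv_eq_inv_val, _root_.Matrix.of_apply, _root_.Matrix.cons_val', _root_.Matrix.cons_val_fin_one, Fin.isValue, _root_.Matrix.cons_val_zero, _root_.Matrix.cons_val_one, _root_.MulZeroClass.mul_zero, _root_.zero_add, _root_.Matrix.cons_val_succ, _root_.mul_neg, _root_.add_zero, _root_.forall_const, _root_.one_mul, _root_.and_self, _root_.MulZeroClass.zero_mul, _root_.neg_zero, _root_.implies_true])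

theorem coe_utx (x : K) (a : Kˣ) : (u x * t a).1 = !![(a : K), x * ((a⁻¹ : Kˣ) : K); 0, ((a⁻¹ : Kˣ) : K)] := by
  change (u x).1 * (t a).1 = _
  have e1 : (u x).1 = !![1, x; 0, 1] := rfl
  have e2 : (t a).1 = !![(a : K), 0; 0, ((a⁻¹ : Kˣ) : K)] := rfl
  rw [e1, e2]
  ext i j
  (revert i j; simp only [Matrix.mul_apply, Fin.sum_univ_two, _root_.Fin.forall_fin_succ, _root_.Units.val_inv_eq_inv_val, _root_.Matrix.of_apply, _root_.Matrix.cons_val', _root_.Matrix.cons_val_fin_one, Fin.isValue, _root_.Matrix.cons_val_zero, _root_.Matrix.cons_val_one, _root_.MulZeroClass.mul_zero, _root_.add_zero, _root_.Matrix.cons_val_succ, _root_.zero_add, _root_.forall_const, _root_.one_mul, _root_.and_self, _root_.MulZeroClass.zero_mul, _root_.implies_true])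

theorem coe_uwcu (x y : K) (c : Kˣ) :
    (u x * w c * u y).1 = !![x * c, x * c * y - ((c⁻¹ : Kˣ) : K); (c : K), c * y] := by
  change (u x * w c).1 * (u y).1 = _
  have e1 : (u y).1 = !![1, y; 0, 1] := rfl
  rw [coe_uwc, e1]
  ext i j
  (revert i j; simp only [Matrix.mul_apply, Fin.sum_univ_two, sub_eq_add_neg, _root_.Fin.forall_fin_succ, _root_.Units.val_inv_eq_inv_val, _root_.Matrix.of_apply, _root_.Matrix.cons_val', _root_.Matrix.cons_val_fin_one, Fin.isValue, _root_.Matrix.cons_val_zero, _root_.Matrix.cons_val_one, _root_.mul_one, _root_.MulZeroClass.mul_zero, _root_.add_zero, _root_.Matrix.cons_val_succ, _root_.forall_const, _root_.true_and, _root_.implies_true, _root_.and_self])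

theorem mt_uwc (x : K) (c : Kˣ) : mt (u x * w c) = x * c := by
  rw [mt, coe_uwc]; simp

theorem mt_utx (x : K) (a : Kˣ) : mt (u x * t a) = a + ((a⁻¹ : Kˣ) : K) := by
  rw [mt, coe_utx]; simp

theorem mt_uwcu (x y : K) (c : Kˣ) : mt (u x * w c * u y) = c * (x + y) := by
  rw [mt, coe_uwcu]
  simp only [_root_.Units.val_inv_eq_inv_val, _root_.Fin.isValue, _root_.Matrix.of_apply, _root_.Matrix.cons_val', _root_.Matrix.cons_val_zero, _root_.Matrix.cons_val_fin_one, _root_.Matrix.cons_val_one]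
  ring

/-- The two Bruhat cells. -/
def cell : (Kˣ × K) ⊕ (Kˣ × K × K) → _root_.Matrix.SpecialLinearGroup (Fin 2) K
  | Sum.inl p => u p.2 * t p.1
  | Sum.inr p => u p.2.1 * w p.1 * u p.2.2

theorem cell_bijective : Function.Bijective (cell (K := K)) := by
  constructor
  · rintro (⟨a, x⟩ | ⟨c, x, y⟩) (⟨b, x'⟩ | ⟨d, x', y'⟩) h
    · have h1 : (u x * t a).1 = (u x' * t b).1 := congrArg Subtype.val h
      rw [coe_utx, coe_utx] at h1
      have h2 := congrFun (congrFun h1 0) 0
      have h3 := congrFun (congrFun h1 0) 1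
      simp only [of_apply, cons_val', cons_val_zero, cons_val_one, cons_val_fin_one] at h2 h3
      have h4 : a = b := Units.ext h2
      subst h4
      have h5 : x = x' := mul_right_cancel₀ (Units.ne_zero _) h3
      rw [h5]
    · exfalso
      have h1 : (u x * t a).1 = (u x' * w d * u y').1 := congrArg Subtype.val h
      rw [coe_utx, coe_uwcu] at h1
      have h2 := congrFun (congrFun h1 1) 0
      simp only [of_apply, cons_val', cons_val_zero, cons_val_one, cons_val_fin_one] at h2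
      exact d.ne_zero h2.symm
    · exfalso
      have h1 : (u x * w c * u y).1 = (u x' * t b).1 := congrArg Subtype.val h
      rw [coe_utx, coe_uwcu] at h1
      have h2 := congrFun (congrFun h1 1) 0
      simp only [of_apply, cons_val', cons_val_zero, cons_val_one, cons_val_fin_one] at h2
      exact c.ne_zero h2
    · have h1 : (u x * w c * u y).1 = (u x' * w d * u y').1 := congrArg Subtype.val h
      rw [coe_uwcu, coe_uwcu] at h1
      have h2 := congrFun (congrFun h1 1) 0
      have h3 := congrFun (congrFun h1 0) 0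
      have h4 := congrFun (congrFun h1 1) 1
      simp only [of_apply, cons_val', cons_val_zero, cons_val_one, cons_val_fin_one] at h2 h3 h4
      have h5 : c = d := Units.ext h2
      subst h5
      have h6 : x = x' := mul_right_cancel₀ c.ne_zero h3
      have h7 : y = y' := mul_left_cancel₀ c.ne_zero h4
      rw [h6, h7]
  · intro g
    rcases bruhat g with ⟨x, a, rfl⟩ | ⟨x, c, y, rfl⟩
    · exact ⟨Sum.inl (a, x), rfl⟩
    · exact ⟨Sum.inr (c, x, y), rfl⟩

theorem sum_cell [Fintype K] [Fintype (_root_.Matrix.SpecialLinearGroup (Fin 2) K)] [Fintype Kˣ] {M : Type*} [AddCommMonoid M]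
    (f : _root_.Matrix.SpecialLinearGroup (Fin 2) K → M) :
    ∑ g, f g = ∑ a : Kˣ, ∑ x, f (u x * t a) + ∑ c : Kˣ, ∑ x, ∑ y, f (u x * w c * u y) := by
  rw [← Fintype.sum_bijective cell cell_bijective (fun p => f (cell p)) f fun _ => rfl, Fintype.sum_sum_type,
    Fintype.sum_prod_type, Fintype.sum_prod_type]
  congr 1
  refine Finset.sum_congr rfl fun c _ => ?_
  rw [Fintype.sum_prod_type]
  rfl

end Basic

section Cusp

variable {K : Type*} [Field K] [Fintype K] {k : Type*} [Field k] {V : Type*} [AddCommGroup V] [Module k V]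
  [FiniteDimensional k V] (R : _root_.Matrix.SpecialLinearGroup (Fin 2) K →* Module.End k V) {ψ : AddChar K k}
  (hψ : ψ.IsPrimitive) (hK : (Fintype.card K : k) ≠ 0)

/-- An operator commuting with the group is a scalar. -/
theorem scalar_of_comm {G : Type*} [Group G] (R : G →* Module.End k V)
    (hspan : Submodule.span k (Set.range R) = ⊤) {S : Module.End k V} (hS : ∀ g, R g * S = S * R g) :
    ∃ c : k, S = c • 1 := by
  have h1 : ∀ A : Module.End k V, S * A = A * S := by
    intro A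
    have hA : A ∈ Submodule.span k (Set.range R) := by rw [hspan]; trivial
    induction hA using Submodule.span_induction with
    | mem x hx =>
      obtain ⟨g, rfl⟩ := hx
      rw [hS]
    | zero => simp
    | add x y _ _ hx hy => rw [mul_add, add_mul, hx, hy]
    | smul a x _ hx => simp only [mul_smul_comm, smul_mul_assoc, hx]
  rcases subsingleton_or_nontrivial V with hV | hV
  · exact ⟨1, Subsingleton.elim _ _⟩
  · obtain ⟨v₀, hv₀⟩ := exists_ne (0 : V)
    obtain ⟨φ, hφ⟩ := exists_dual (k := k) hv₀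
    refine ⟨φ (S v₀), ?_⟩
    ext v
    have h2 := congrArg (fun f : Module.End k V => f v₀) (h1 (φ.smulRight v))
    simp only [Module.End.mul_apply, LinearMap.smulRight_apply, hφ, one_smul] at h2
    rw [h2, LinearMap.smul_apply, Module.End.one_apply]

include hψ hK in
/-- Non-central elements of equal matrix trace have equal trace. -/
theorem tr_eq_of_mt (hspan : Submodule.span k (Set.range R) = ⊤)
    (hall : ∀ b : K, b ≠ 0 → finrank k (LinearMap.range (E R ψ b)) = 1)
    {g g' : _root_.Matrix.SpecialLinearGroup (Fin 2) K} (h : mt g = mt g') (hg : ∀ ζ : Kˣ, ζ ^ 2 = 1 → g ≠ t ζ)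
    (hg' : ∀ ζ : Kˣ, ζ ^ 2 = 1 → g' ≠ t ζ) :
    LinearMap.trace k V (R g) = LinearMap.trace k V (R g') := by
  by_cases ht : mt g ^ 2 - 4 = 0
  · have ht' : mt g' ^ 2 - 4 = 0 := by rw [← h]; exact ht
    obtain ⟨a, ε, y, hε, rfl⟩ := exists_conj_unip g ht
    obtain ⟨a', ε', y', hε', rfl⟩ := exists_conj_unip g' ht'
    rw [mt_conj, mt_conj] at h
    have hmt : ∀ (ε : Kˣ) (y : K), ε ^ 2 = 1 → mt (t ε * u y) = 2 * (ε : K) := by
      intro ε y hε
      have e1 : (t ε * u y).1 = !![(ε : K), ε * y; 0, ((ε⁻¹ : Kˣ) : K)] := by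
        change (t ε).1 * (u y).1 = _
        have e1 : (u y).1 = !![1, y; 0, 1] := rfl
        have e2 : (t ε).1 = !![(ε : K), 0; 0, ((ε⁻¹ : Kˣ) : K)] := rfl
        rw [e1, e2]
        ext i j
        (revert i j; simp only [Matrix.mul_apply, Fin.sum_univ_two, _root_.Fin.forall_fin_succ, _root_.Units.val_inv_eq_inv_val, _root_.Matrix.of_apply, _root_.Matrix.cons_val', _root_.Matrix.cons_val_fin_one, Fin.isValue, _root_.Matrix.cons_val_zero, _root_.Matrix.cons_val_one, _root_.mul_one, _root_.MulZeroClass.mul_zero, _root_.add_zero, _root_.Matrix.cons_val_succ, _root_.forall_const, _root_.true_and, _root_.MulZeroClass.zero_mul, _root_.zero_add, _root_.implies_true, _root_.and_self])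
      have e2 : ε⁻¹ = ε := inv_eq_of_mul_eq_one_right (by rw [← sq, hε])
      rw [mt, e1, e2]
      simp
      ring
    rw [hmt ε y hε, hmt ε' y' hε'] at h
    have h1 : ε = ε' := by
      by_cases h2 : (2 : K) = 0
      · have h3 : ∀ ε : Kˣ, ε ^ 2 = 1 → ε = 1 := by
          intro ε hε
          have h4 : ((ε : K) - 1) ^ 2 = 0 := by
            have h5 : (ε : K) ^ 2 = 1 := by rw [← Units.val_pow_eq_pow_val, hε, Units.val_one]
            linear_combination h5 + (1 - (ε : K)) * h2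
          exact Units.ext (by simpa [sub_eq_zero] using h4)
        rw [h3 ε hε, h3 ε' hε']
      · exact Units.ext (mul_left_cancel₀ h2 h)
    have hy : ∀ (a : _root_.Matrix.SpecialLinearGroup (Fin 2) K) (ε : Kˣ) (y : K), ε ^ 2 = 1 →
        (∀ ζ : Kˣ, ζ ^ 2 = 1 → a * (t ε * u y) * a⁻¹ ≠ t ζ) → y ≠ 0 := by
      rintro a ε y hε hne rfl
      apply hne ε hε
      rw [u_zero, mul_one, ← t_sq_central hε, mul_assoc, mul_inv_cancel, mul_one]
    obtain ⟨c, hc⟩ := central_scalar R hspan (t_sq_central hε)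
    rw [tr_conj', tr_conj', R.map_mul, R.map_mul, ← h1, hc, smul_mul_assoc, smul_mul_assoc, one_mul, one_mul,
      map_smul, map_smul, trace_u_ne R hψ hK hall (hy a ε y hε hg), trace_u_ne R hψ hK hall (hy a' ε' y' hε' hg')]
  · rw [trace_eq_X R g ht, trace_eq_X R g' (by rw [← h]; exact ht), h]

theorem ne_t_of_low {g : _root_.Matrix.SpecialLinearGroup (Fin 2) K} (h : g.1 1 0 ≠ 0) (ζ : Kˣ) : g ≠ t ζ := by
  rintro rfl
  exact h rfl

include hψ hK in
theorem tr_eq_X (hspan : Submodule.span k (Set.range R) = ⊤)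
    (hall : ∀ b : K, b ≠ 0 → finrank k (LinearMap.range (E R ψ b)) = 1)
    {g : _root_.Matrix.SpecialLinearGroup (Fin 2) K} (hg : ∀ ζ : Kˣ, ζ ^ 2 = 1 → g ≠ t ζ) :
    LinearMap.trace k V (R g) = X R (mt g) := by
  rw [X]
  apply tr_eq_of_mt R hψ hK hspan hall _ hg
  · intro ζ _
    apply ne_t_of_low
    rw [coe_uw]
    simp
  · rw [mt_uw]

theorem tr_E_mul (b : K) (g : _root_.Matrix.SpecialLinearGroup (Fin 2) K) :
    LinearMap.trace k V (E R ψ b * R g) =
      (Fintype.card K : k)⁻¹ * ∑ x, ψ (-(b * x)) * LinearMap.trace k V (R (u x * g)) := by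
  rw [E, smul_mul_assoc, Finset.sum_mul, map_smul, map_sum, smul_eq_mul]
  congr 1
  refine Finset.sum_congr rfl fun x _ => ?_
  rw [smul_mul_assoc, map_smul, smul_eq_mul, R.map_mul]

/-- The coefficients of `X`. -/
noncomputable def J (ψ : AddChar K k) (b : K) : k := LinearMap.trace k V (E R ψ b * R (w 1))

theorem J_eq (b : K) : J R ψ b = (Fintype.card K : k)⁻¹ * ∑ x, ψ (-(b * x)) * X R x :=
  tr_E_mul R b (w 1)

include hψ hK in
theorem X_eq (τ : K) : X R τ = ∑ b, ψ (b * τ) * J R ψ b := by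
  rw [X, map_mul, ← mul_one (R (u τ)), ← sum_E R hψ hK, Finset.mul_sum, Finset.sum_mul, map_sum]
  refine Finset.sum_congr rfl fun b _ => ?_
  rw [R_mul_E, smul_mul_assoc, map_smul, smul_eq_mul, J]

include hψ hK in
theorem tr_E_w (hspan : Submodule.span k (Set.range R) = ⊤)
    (hall : ∀ b : K, b ≠ 0 → finrank k (LinearMap.range (E R ψ b)) = 1) (b : K) (c : Kˣ) :
    LinearMap.trace k V (E R ψ b * R (w c)) = J R ψ (b / c) := by
  rw [tr_E_mul, J_eq]
  congr 1
  rw [← Equiv.sum_comp (Equiv.mulRight₀ (c : K) c.ne_zero) (fun x : K => ψ (-(b / c * x)) * X R x)]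
  refine Finset.sum_congr rfl fun x _ => ?_
  change _ = ψ (-(b / c * (x * c))) * X R (x * c)
  have h1 : b / c * (x * c) = b * x := by
    have := c.ne_zero
    field_simp
  rw [h1, tr_eq_X R hψ hK hspan hall, mt_uwc]
  intro ζ _
  apply ne_t_of_low
  rw [coe_uwc]
  simp

theorem J_zero (h0 : E R ψ 0 = 0) : J R ψ 0 = 0 := by
  rw [J, h0, zero_mul, map_zero]

include hK in
theorem sum_X (h0 : E R ψ 0 = 0) : ∑ τ, X R τ = 0 := by
  have h1 := J_eq R (ψ := ψ) 0
  rw [J, h0, zero_mul, map_zero] at h1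
  have h2 := (mul_eq_zero.1 h1.symm).resolve_left (inv_ne_zero hK)
  rw [← h2]
  refine Finset.sum_congr rfl fun x _ => ?_
  rw [zero_mul, neg_zero, AddChar.map_zero_eq_one, one_mul]

section ClassSum

variable [DecidableEq K] [Fintype (_root_.Matrix.SpecialLinearGroup (Fin 2) K)] [Fintype Kˣ]

/-- The sum of all elements of trace `τ`. -/
noncomputable def S (τ : K) : Module.End k V := ∑ g, if mt g = τ then R g else 0

theorem S_comm (τ : K) (h : _root_.Matrix.SpecialLinearGroup (Fin 2) K) : R h * S R τ = S R τ * R h := by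
  unfold S
  rw [Finset.mul_sum, Finset.sum_mul,
    ← Equiv.sum_comp (MulAut.conj h).toEquiv (fun g => (if mt g = τ then R g else 0) * R h)]
  refine Finset.sum_congr rfl fun g _ => ?_
  change _ = (if mt (h * g * h⁻¹) = τ then R (h * g * h⁻¹) else 0) * R h
  rw [mt_conj]
  by_cases hg : mt g = τ
  · rw [if_pos hg, if_pos hg, ← R.map_mul, ← R.map_mul, inv_mul_cancel_right]
  · rw [if_neg hg, if_neg hg, mul_zero, zero_mul]

include hψ hK in
/-- **The class sums.** -/
theorem S_eq (hspan : Submodule.span k (Set.range R) = ⊤)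
    (hall : ∀ b : K, b ≠ 0 → finrank k (LinearMap.range (E R ψ b)) = 1) (h0 : E R ψ 0 = 0) (τ : K) :
    S R τ = ((Fintype.card K : k) * X R τ) • 1 := by
  obtain ⟨c, hc⟩ := scalar_of_comm R hspan (S_comm R τ)
  have h1 : LinearMap.trace k V (E R ψ 1 * S R τ) = c := by
    rw [hc, mul_smul_comm, mul_one, map_smul, trace_E R hψ hK, hall 1 one_ne_zero, Nat.cast_one, smul_eq_mul, mul_one]
  rw [hc, ← h1]
  congr 1
  unfold S
  rw [Finset.mul_sum, map_sum, sum_cell]
  have e1 : ∀ (a : Kˣ), ∑ x, LinearMap.trace k V (E R ψ 1 * if mt (u x * t a) = τ then R (u x * t a) else 0) = 0 := by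
    intro a
    have h2 : ∀ x : K, LinearMap.trace k V (E R ψ 1 * if mt (u x * t a) = τ then R (u x * t a) else 0) =
        ψ (x * 1) * (LinearMap.trace k V (E R ψ 1 * if (a : K) + ((a⁻¹ : Kˣ) : K) = τ then R (t a) else 0)) := by
      intro x
      rw [mt_utx]
      by_cases h : (a : K) + ((a⁻¹ : Kˣ) : K) = τ
      · rw [if_pos h, if_pos h, R.map_mul, ← mul_assoc, E_mul_R, smul_mul_assoc, map_smul, smul_eq_mul, one_mul,
          mul_one]
      · rw [if_neg h, if_neg h, mul_zero, map_zero, mul_zero]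
    rw [Finset.sum_congr rfl fun x _ => h2 x, ← Finset.sum_mul, AddChar.sum_mulShift 1 hψ, if_neg one_ne_zero,
      Nat.cast_zero, zero_mul]
  rw [Finset.sum_congr rfl fun a _ => e1 a, Finset.sum_const_zero, zero_add]
  have e2 : ∀ c : Kˣ, ∑ x, ∑ y, LinearMap.trace k V
      (E R ψ 1 * if mt (u x * w c * u y) = τ then R (u x * w c * u y) else 0) =
      (Fintype.card K : k) * (ψ (((c⁻¹ : Kˣ) : K) * τ) * J R ψ ((c⁻¹ : Kˣ) : K)) := by
    intro c
    have h2 : ∀ x : K, ∑ y, LinearMap.trace k V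
        (E R ψ 1 * if mt (u x * w c * u y) = τ then R (u x * w c * u y) else 0) =
        ψ (((c⁻¹ : Kˣ) : K) * τ) * J R ψ ((c⁻¹ : Kˣ) : K) := by
      intro x
      rw [Finset.sum_eq_single (((c⁻¹ : Kˣ) : K) * τ - x)]
      · rw [if_pos, R.map_mul, ← mul_assoc, LinearMap.trace_mul_comm, ← mul_assoc, R_mul_E, smul_mul_assoc, map_smul,
          R.map_mul, ← mul_assoc, E_mul_R, smul_mul_assoc, map_smul, tr_E_w R hψ hK hspan hall, smul_eq_mul,
          smul_eq_mul, ← mul_assoc, ← AddChar.map_add_eq_mul]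
        · congr 2
          · ring
          · rw [one_div, Units.val_inv_eq_inv_val]
        · rw [mt_uwcu, Units.val_inv_eq_inv_val]
          have := c.ne_zero
          field_simp
          ring
      · intro y _ hy
        rw [if_neg, mul_zero, map_zero]
        rw [mt_uwcu]
        intro h
        apply hy
        rw [← h, Units.val_inv_eq_inv_val]
        have := c.ne_zero
        field_simp
        ring
      · intro h
        exact absurd (Finset.mem_univ _) h
    rw [Finset.sum_congr rfl fun x _ => h2 x, Finset.sum_const, Finset.card_univ, nsmul_eq_mul]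
  rw [Finset.sum_congr rfl fun c _ => e2 c, ← Finset.mul_sum]
  congr 1
  rw [X_eq R hψ hK, ← Finset.add_sum_erase _ _ (Finset.mem_univ (0 : K)), J_zero R h0, mul_zero, zero_add]
  rw [← Equiv.sum_comp (Equiv.inv Kˣ) (fun c : Kˣ => ψ (((c⁻¹ : Kˣ) : K) * τ) * J R ψ ((c⁻¹ : Kˣ) : K))]
  simp only [Equiv.inv_apply, inv_inv]
  symm
  refine Finset.sum_bij' (fun b hb => Units.mk0 b (Finset.ne_of_mem_erase hb)) (fun c _ => (c : K))
    (fun b hb => Finset.mem_univ _) (fun c _ => Finset.mem_erase.2 ⟨c.ne_zero, Finset.mem_univ _⟩)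
    (fun b hb => rfl) (fun c _ => Units.ext rfl) (fun b hb => rfl)

theorem mt_mul_uw (g : _root_.Matrix.SpecialLinearGroup (Fin 2) K) (σ : K) :
    mt (g * (u σ * w 1)) = g.1 0 0 * σ + g.1 0 1 - g.1 1 0 := by
  have h1 : (g * (u σ * w 1)).1 = g.1 * (u σ * w 1).1 := rfl
  rw [mt, h1, coe_uw, Matrix.mul_apply, Matrix.mul_apply, Fin.sum_univ_two, Fin.sum_univ_two]
  simp only [_root_.Fin.isValue, _root_.Matrix.of_apply, _root_.Matrix.cons_val', _root_.Matrix.cons_val_zero, _root_.Matrix.cons_val_fin_one, _root_.Matrix.cons_val_one, _root_.mul_one, _root_.mul_neg, _root_.MulZeroClass.mul_zero, _root_.add_zero]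
  ring

/-- The pairs of traces. -/
theorem card_pair (σ τ ρ : K) :
    (Finset.univ.filter fun g : _root_.Matrix.SpecialLinearGroup (Fin 2) K => mt g = τ ∧ mt (g * (u σ * w 1)) = ρ).card =
      (Finset.univ.filter fun p : K × K => L2N.N σ p - τ * p.1 + ρ * p.2 + 1 = 0).card := by
  apply Finset.card_bij (fun g _ => (g.1 0 0, g.1 1 0))
  · intro g hg
    rw [Finset.mem_filter] at hg ⊢
    refine ⟨Finset.mem_univ _, ?_⟩
    obtain ⟨-, h1, h2⟩ := hg
    rw [mt_mul_uw] at h2
    rw [mt] at h1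
    have hdet : g.1 0 0 * g.1 1 1 - g.1 0 1 * g.1 1 0 = 1 := by
      have := g.2
      rwa [Matrix.det_fin_two] at this
    unfold L2N.N
    simp only
    linear_combination g.1 0 0 * h1 - g.1 1 0 * h2 - hdet
  · intro g hg g' hg' h
    rw [Finset.mem_filter] at hg hg'
    obtain ⟨-, h1, h2⟩ := hg
    obtain ⟨-, h1', h2'⟩ := hg'
    rw [mt_mul_uw] at h2 h2'
    rw [mt] at h1 h1'
    have e1 := congrArg Prod.fst h
    have e2 := congrArg Prod.snd h
    simp only at e1 e2
    apply Subtype.ext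
    ext i j
    fin_cases i <;> fin_cases j
    · exact e1
    · change g.1 0 1 = g'.1 0 1
      linear_combination h2 - h2' - σ * e1 + e2
    · exact e2
    · change g.1 1 1 = g'.1 1 1
      linear_combination h1 - h1' - e1
  · rintro ⟨x, z⟩ hp
    rw [Finset.mem_filter] at hp
    have h1 := hp.2
    unfold L2N.N at h1
    simp only at h1
    obtain ⟨g, hg⟩ : ∃ g : _root_.Matrix.SpecialLinearGroup (Fin 2) K, g.1 = !![x, ρ + z - x * σ; z, τ - x] := by
      refine ⟨⟨_, ?_⟩, rfl⟩
      rw [Matrix.det_fin_two_of]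
      linear_combination -h1
    refine ⟨g, ?_, ?_⟩
    · rw [Finset.mem_filter, mt_mul_uw, mt, hg]
      refine ⟨Finset.mem_univ _, ?_, ?_⟩ <;> simp
    · rw [hg]
      rfl

variable (cz : Kˣ → k) (hcz : ∀ ζ : Kˣ, ζ ^ 2 = 1 → R (t ζ) = cz ζ • 1)

include hψ hK in
theorem finrank_cast (hall : ∀ b : K, b ≠ 0 → finrank k (LinearMap.range (E R ψ b)) = 1) (h0 : E R ψ 0 = 0) :
    (finrank k V : k) = Fintype.card K - 1 := by
  rw [finrank_eq_sum R hψ hK, ← Finset.add_sum_erase _ _ (Finset.mem_univ (0 : K)), h0, LinearMap.range_zero,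
    finrank_bot, zero_add, Finset.sum_congr rfl fun b hb => hall b (Finset.ne_of_mem_erase hb), Finset.sum_const,
    Finset.card_erase_of_mem (Finset.mem_univ _), Finset.card_univ, smul_eq_mul, mul_one,
    Nat.cast_sub Fintype.card_pos, Nat.cast_one]

include hψ hK hcz in
theorem X_two (hspan : Submodule.span k (Set.range R) = ⊤)
    (hall : ∀ b : K, b ≠ 0 → finrank k (LinearMap.range (E R ψ b)) = 1) (h0 : E R ψ 0 = 0)
    {ζ : Kˣ} (hζ : ζ ^ 2 = 1) : X R (2 * (ζ : K)) = - cz ζ := by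
  have e2 : ζ⁻¹ = ζ := inv_eq_of_mul_eq_one_right (by rw [← sq, hζ])
  have h1 := tr_eq_X R hψ hK hspan hall (g := u 1 * t ζ) (by
    intro ζ' _ h
    have h2 : (u 1 * t ζ).1 0 1 = (t ζ').1 0 1 := by rw [h]
    rw [coe_utx] at h2
    simp at h2)
  rw [mt_utx, e2, ← two_mul] at h1
  rw [← h1, R.map_mul, hcz ζ hζ, mul_smul_comm, mul_one, map_smul, trace_u_ne R hψ hK hall one_ne_zero, h0,
    LinearMap.range_zero, finrank_bot, Nat.cast_zero, zero_sub, smul_eq_mul, mul_neg, mul_one]

include hψ hK hcz in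
theorem tr_eq_add (hspan : Submodule.span k (Set.range R) = ⊤)
    (hall : ∀ b : K, b ≠ 0 → finrank k (LinearMap.range (E R ψ b)) = 1) (h0 : E R ψ 0 = 0)
    (g : _root_.Matrix.SpecialLinearGroup (Fin 2) K) :
    LinearMap.trace k V (R g) = X R (mt g) +
      ∑ ζ : Kˣ, if ζ ^ 2 = 1 ∧ g = t ζ then (Fintype.card K : k) * cz ζ else 0 := by
  by_cases hg : ∃ ζ : Kˣ, ζ ^ 2 = 1 ∧ g = t ζ
  · obtain ⟨ζ, hζ, rfl⟩ := hg
    rw [Finset.sum_eq_single ζ]
    · rw [if_pos ⟨hζ, rfl⟩]
      have e2 : ζ⁻¹ = ζ := inv_eq_of_mul_eq_one_right (by rw [← sq, hζ])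
      have e3 : mt (t ζ) = 2 * (ζ : K) := by
        rw [mt_t, e2, two_mul]
      rw [e3, X_two R hψ hK cz hcz hspan hall h0 hζ, hcz ζ hζ, map_smul, LinearMap.trace_one,
        finrank_cast R hψ hK hall h0, smul_eq_mul]
      ring
    · intro ζ' _ hne
      rw [if_neg]
      rintro ⟨-, h⟩
      apply hne
      have h2 : (t ζ).1 0 0 = (t ζ').1 0 0 := by rw [h]
      exact (Units.ext h2).symm
    · intro h
      exact absurd (Finset.mem_univ _) h
  · rw [Finset.sum_eq_zero, add_zero, tr_eq_X R hψ hK hspan hall]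
    · intro ζ hζ h
      exact hg ⟨ζ, hζ, h⟩
    · intro ζ _
      rw [if_neg]
      intro h
      exact hg ⟨ζ, h⟩

/-- The conic in `ρ`. -/
def conic (σ τ : K) : Finset K := Finset.univ.filter fun ρ : K => τ ^ 2 - σ * τ * ρ + ρ ^ 2 + σ ^ 2 - 4 = 0

include hψ hK hcz in
/-- **The class sum identity.** -/
theorem X_mul (hspan : Submodule.span k (Set.range R) = ⊤)
    (hall : ∀ b : K, b ≠ 0 → finrank k (LinearMap.range (E R ψ b)) = 1) (h0 : E R ψ 0 = 0)
    {σ : K} (hσ : ∀ x : K, x * x - σ * x + 1 ≠ 0) (τ : K) :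
    X R τ * X R σ = - (∑ ρ ∈ conic σ τ, X R ρ) + ∑ ζ : Kˣ, if ζ ^ 2 = 1 ∧ (ζ : K) * σ = τ then cz ζ else 0 := by
  apply mul_left_cancel₀ hK
  have h1 : LinearMap.trace k V (S R τ * R (u σ * w 1)) = (Fintype.card K : k) * (X R τ * X R σ) := by
    rw [S_eq R hψ hK hspan hall h0, smul_mul_assoc, one_mul, map_smul, smul_eq_mul, ← mul_assoc]
    rfl
  rw [← h1, S, Finset.sum_mul, map_sum]
  have h2 : ∀ g : _root_.Matrix.SpecialLinearGroup (Fin 2) K,
      LinearMap.trace k V ((if mt g = τ then R g else 0) * R (u σ * w 1)) =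
      (if mt g = τ then X R (mt (g * (u σ * w 1))) else 0) +
        ∑ ζ : Kˣ, if mt g = τ ∧ ζ ^ 2 = 1 ∧ g * (u σ * w 1) = t ζ then (Fintype.card K : k) * cz ζ else 0 := by
    intro g
    by_cases hg : mt g = τ
    · rw [if_pos hg, if_pos hg, ← R.map_mul, tr_eq_add R hψ hK cz hcz hspan hall h0]
      congr 1
      refine Finset.sum_congr rfl fun ζ _ => ?_
      congr 1
      exact propext ⟨fun h => ⟨hg, h⟩, fun h => h.2⟩
    · rw [if_neg hg, if_neg hg, zero_mul, map_zero, zero_add, Finset.sum_eq_zero]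
      intro ζ _
      rw [if_neg]
      rintro ⟨h, -⟩
      exact hg h
  rw [Finset.sum_congr rfl fun g _ => h2 g, Finset.sum_add_distrib]
  have h3 : (∑ g : _root_.Matrix.SpecialLinearGroup (Fin 2) K, if mt g = τ then X R (mt (g * (u σ * w 1))) else 0) =
      - ((Fintype.card K : k) * ∑ ρ ∈ conic σ τ, X R ρ) := by
    have h4 : (∑ g : _root_.Matrix.SpecialLinearGroup (Fin 2) K, if mt g = τ then X R (mt (g * (u σ * w 1))) else 0) =
        ∑ ρ : K, ∑ g : _root_.Matrix.SpecialLinearGroup (Fin 2) K, if mt g = τ ∧ mt (g * (u σ * w 1)) = ρ then X R ρ else 0 := by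
      rw [Finset.sum_comm]
      refine Finset.sum_congr rfl fun g _ => ?_
      rw [Finset.sum_eq_single (mt (g * (u σ * w 1)))]
      · congr 1
        exact propext ⟨fun h => ⟨h, rfl⟩, fun h => h.1⟩
      · intro ρ _ hne
        rw [if_neg]
        rintro ⟨-, h⟩
        exact hne h.symm
      · intro h
        exact absurd (Finset.mem_univ _) h
    rw [h4]
    have h5 : ∀ ρ : K, (∑ g : _root_.Matrix.SpecialLinearGroup (Fin 2) K,
        if mt g = τ ∧ mt (g * (u σ * w 1)) = ρ then X R ρ else 0) =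
        ((Fintype.card K : k) + 1) * X R ρ - if τ ^ 2 - σ * τ * ρ + ρ ^ 2 + σ ^ 2 - 4 = 0 then
          (Fintype.card K : k) * X R ρ else 0 := by
      intro ρ
      rw [← Finset.sum_filter, Finset.sum_const, card_pair, L2N.card_conic hσ, nsmul_eq_mul]
      by_cases h : τ ^ 2 - σ * τ * ρ + ρ ^ 2 + σ ^ 2 - 4 = 0
      · rw [if_pos h, if_pos h, Nat.cast_one]
        ring
      · rw [if_neg h, if_neg h, sub_zero]
        push_cast
        ring
    rw [Finset.sum_congr rfl fun ρ _ => h5 ρ, Finset.sum_sub_distrib, ← Finset.mul_sum, sum_X R hK h0, mul_zero,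
      zero_sub, ← Finset.sum_filter, Finset.mul_sum]
    rfl
  have h6 : (∑ g : _root_.Matrix.SpecialLinearGroup (Fin 2) K, ∑ ζ : Kˣ,
      if mt g = τ ∧ ζ ^ 2 = 1 ∧ g * (u σ * w 1) = t ζ then (Fintype.card K : k) * cz ζ else 0) =
      (Fintype.card K : k) * ∑ ζ : Kˣ, if ζ ^ 2 = 1 ∧ (ζ : K) * σ = τ then cz ζ else 0 := by
    rw [Finset.sum_comm, Finset.mul_sum]
    refine Finset.sum_congr rfl fun ζ _ => ?_
    by_cases hζ : ζ ^ 2 = 1
    · have hmt : mt (t ζ * (u σ * w 1)⁻¹) = (ζ : K) * σ := by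
        have e1 : (t ζ * (u σ * w 1)⁻¹).1 = (t ζ).1 * ((u σ * w 1)⁻¹).1 := rfl
        have e3 : (t ζ).1 = !![(ζ : K), 0; 0, ((ζ⁻¹ : Kˣ) : K)] := rfl
        have e2 : ζ⁻¹ = ζ := inv_eq_of_mul_eq_one_right (by rw [← sq, hζ])
        have e4 : ((u σ * w 1)⁻¹).1 = !![0, 1; -1, σ] := by
          rw [Matrix.SpecialLinearGroup.coe_inv, coe_uw, Matrix.adjugate_fin_two_of]
          simp
        rw [mt, e1, e3, e4, e2, Matrix.mul_apply, Matrix.mul_apply, Fin.sum_univ_two, Fin.sum_univ_two]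
        simp
      rw [Finset.sum_eq_single (t ζ * (u σ * w 1)⁻¹)]
      · rw [hmt, inv_mul_cancel_right]
        by_cases h : (ζ : K) * σ = τ
        · rw [if_pos ⟨h, hζ, rfl⟩, if_pos ⟨hζ, h⟩]
        · rw [if_neg fun h' => h h'.1, if_neg fun h' => h h'.2, mul_zero]
      · intro g _ hne
        rw [if_neg]
        rintro ⟨-, -, h⟩
        apply hne
        rw [← h, mul_inv_cancel_right]
      · intro h
        exact absurd (Finset.mem_univ _) h
    · rw [if_neg fun h' => hζ h'.1, mul_zero, Finset.sum_eq_zero]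
      intro g _
      rw [if_neg fun h' => hζ h'.2.1]
  rw [h3, h6]
  ring

omit [Fintype K] [DecidableEq K] [Fintype (_root_.Matrix.SpecialLinearGroup (Fin 2) K)] [Fintype Kˣ] in
theorem unit_eq_of_two_mul {ε ε' : Kˣ} (h : ε ^ 2 = 1) (h' : ε' ^ 2 = 1) (h2 : 2 * (ε : K) = 2 * (ε' : K)) :
    ε = ε' := by
  by_cases h0 : (2 : K) = 0
  · have h3 : ∀ ε : Kˣ, ε ^ 2 = 1 → ε = 1 := by
      intro ε hε
      have h4 : ((ε : K) - 1) ^ 2 = 0 := by
        have h5 : (ε : K) ^ 2 = 1 := by rw [← Units.val_pow_eq_pow_val, hε, Units.val_one]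
        linear_combination h5 + (1 - (ε : K)) * h0
      exact Units.ext (by simpa [sub_eq_zero] using h4)
    rw [h3 ε h, h3 ε' h']
  · exact Units.ext (mul_left_cancel₀ h0 h2)

/-- The modified trace: doubled at `± 2`. -/
noncomputable def Y (ρ : K) : k := X R ρ - ∑ ζ : Kˣ, if ζ ^ 2 = 1 ∧ 2 * (ζ : K) = ρ then cz ζ else 0

omit [Fintype (_root_.Matrix.SpecialLinearGroup (Fin 2) K)] in
theorem Y_eq_X {τ : K} (h : τ ^ 2 - 4 ≠ 0) : Y R cz τ = X R τ := by
  rw [Y, Finset.sum_eq_zero, sub_zero]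
  intro ζ _
  rw [if_neg]
  rintro ⟨h1, rfl⟩
  apply h
  have h5 : (ζ : K) ^ 2 = 1 := by rw [← Units.val_pow_eq_pow_val, h1, Units.val_one]
  linear_combination 4 * h5

include hψ hK hcz in
omit [Fintype (_root_.Matrix.SpecialLinearGroup (Fin 2) K)] in
theorem Y_two (hspan : Submodule.span k (Set.range R) = ⊤)
    (hall : ∀ b : K, b ≠ 0 → finrank k (LinearMap.range (E R ψ b)) = 1) (h0 : E R ψ 0 = 0)
    {ζ : Kˣ} (hζ : ζ ^ 2 = 1) : Y R cz (2 * (ζ : K)) = -(2 * cz ζ) := by
  rw [Y, Finset.sum_eq_single ζ, if_pos ⟨hζ, rfl⟩, X_two R hψ hK cz hcz hspan hall h0 hζ]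
  · ring
  · intro ζ' _ hne
    rw [if_neg]
    rintro ⟨h1, h2⟩
    exact hne (unit_eq_of_two_mul h1 hζ h2)
  · intro h
    exact absurd (Finset.mem_univ _) h

include hψ hK hcz in
theorem X_mul_Y (hspan : Submodule.span k (Set.range R) = ⊤)
    (hall : ∀ b : K, b ≠ 0 → finrank k (LinearMap.range (E R ψ b)) = 1) (h0 : E R ψ 0 = 0)
    {σ : K} (hσ : ∀ x : K, x * x - σ * x + 1 ≠ 0) (τ : K) :
    X R τ * X R σ = - ∑ ρ ∈ conic σ τ, Y R cz ρ := by
  rw [X_mul R hψ hK cz hcz hspan hall h0 hσ]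
  have h1 : ∑ ρ ∈ conic σ τ, Y R cz ρ = ∑ ρ ∈ conic σ τ, X R ρ -
      ∑ ζ : Kˣ, if ζ ^ 2 = 1 ∧ (ζ : K) * σ = τ then cz ζ else 0 := by
    unfold Y
    rw [Finset.sum_sub_distrib, Finset.sum_comm]
    congr 1
    refine Finset.sum_congr rfl fun ζ _ => ?_
    have h5 : ζ ^ 2 = 1 → (ζ : K) ^ 2 = 1 := fun h1 => by rw [← Units.val_pow_eq_pow_val, h1, Units.val_one]
    by_cases h : ζ ^ 2 = 1 ∧ (ζ : K) * σ = τ
    · rw [if_pos h, Finset.sum_eq_single (2 * (ζ : K)), if_pos ⟨h.1, rfl⟩]
      · intro ρ _ hne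
        rw [if_neg]
        rintro ⟨-, h2⟩
        exact hne h2.symm
      · intro h2
        exfalso
        apply h2
        rw [conic, Finset.mem_filter]
        refine ⟨Finset.mem_univ _, ?_⟩
        rw [← h.2]
        linear_combination (4 - σ ^ 2) * h5 h.1
    · rw [if_neg h, Finset.sum_eq_zero]
      intro ρ hρ
      rw [if_neg]
      rintro ⟨h2, rfl⟩
      apply h
      refine ⟨h2, ?_⟩
      rw [conic, Finset.mem_filter] at hρ
      have h6 : ((ζ : K) * σ - τ) ^ 2 = 0 := by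
        linear_combination hρ.2 + (σ ^ 2 - 4) * h5 h2
      exact sub_eq_zero.1 (pow_eq_zero_iff two_ne_zero |>.1 h6)
  rw [h1]
  ring

include hψ hK hcz in
/-- **The recursion.** -/
theorem Y_rec (hspan : Submodule.span k (Set.range R) = ⊤)
    (hall : ∀ b : K, b ≠ 0 → finrank k (LinearMap.range (E R ψ b)) = 1) (h0 : E R ψ 0 = 0)
    {σ : K} (hσ : ∀ x : K, x * x - σ * x + 1 ≠ 0) {τ a b : K} (h1 : a + b = σ * τ)
    (h2 : a * b = σ ^ 2 + τ ^ 2 - 4) : Y R cz τ * Y R cz σ = - (Y R cz a + Y R cz b) := by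
  have hD := L2N.disc_ne hσ
  have hD' : σ ^ 2 - 4 ≠ 0 := fun h => hD (by linear_combination -h)
  rw [Y_eq_X R cz hD']
  have hroots : ∀ ρ : K, ρ ∈ conic σ τ ↔ ρ = a ∨ ρ = b := by
    intro ρ
    rw [conic, Finset.mem_filter]
    have e : τ ^ 2 - σ * τ * ρ + ρ ^ 2 + σ ^ 2 - 4 = (ρ - a) * (ρ - b) := by
      linear_combination -h2 - ρ * h1 * (-1)
    rw [e, mul_eq_zero, sub_eq_zero, sub_eq_zero]
    exact ⟨fun h => h.2, fun h => ⟨Finset.mem_univ _, h⟩⟩
  by_cases ht : τ ^ 2 - 4 = 0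
  · have hab : a = b := by
      have h3 : (a - b) ^ 2 = 0 := by
        linear_combination (a + b + σ * τ) * h1 - 4 * h2 + (σ ^ 2 - 4) * ht
      exact sub_eq_zero.1 (pow_eq_zero_iff two_ne_zero |>.1 h3)
    have hc : conic σ τ = {a} := by
      ext ρ
      rw [hroots, Finset.mem_singleton, hab, or_self]
    have h4 := X_mul_Y R hψ hK cz hcz hspan hall h0 hσ τ
    rw [hc, Finset.sum_singleton] at h4
    obtain ⟨ζ, hζ, hζτ⟩ : ∃ ζ : Kˣ, ζ ^ 2 = 1 ∧ 2 * (ζ : K) = τ := by
      obtain ⟨g, hg⟩ : ∃ g : _root_.Matrix.SpecialLinearGroup (Fin 2) K, mt g = τ := ⟨u τ * w 1, mt_uw τ⟩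
      obtain ⟨h, ε, y, hε, hg'⟩ := exists_conj_unip g (by
        change mt g ^ 2 - 4 = 0
        rw [hg]; exact ht)
      refine ⟨ε, hε, ?_⟩
      have e2 : ε⁻¹ = ε := inv_eq_of_mul_eq_one_right (by rw [← sq, hε])
      rw [← hg, hg', mt_conj, t_mul_u, mt_utx, e2, two_mul]
    rw [← hζτ, Y_two R hψ hK cz hcz hspan hall h0 hζ]
    rw [← hζτ, X_two R hψ hK cz hcz hspan hall h0 hζ] at h4
    rw [← hab]
    linear_combination 2 * h4
  · have hab : a ≠ b := by
      intro h
      have h3 : (σ ^ 2 - 4) * (τ ^ 2 - 4) = 0 := by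
        rw [h] at h1 h2
        linear_combination -(2 * b + σ * τ) * h1 + 4 * h2
      rcases mul_eq_zero.1 h3 with h4 | h4
      · exact hD' h4
      · exact ht h4
    have hc : conic σ τ = {a, b} := by
      ext ρ
      rw [hroots, Finset.mem_insert, Finset.mem_singleton]
    rw [Y_eq_X R cz ht, X_mul_Y R hψ hK cz hcz hspan hall h0 hσ τ, hc, Finset.sum_pair hab]

end ClassSum

end Cusp

end Cfsg.Agent.H931.L2T
end

-- part: H931/L2Cheb
section
/-!
# Non-split traces of `SL₂(q)` (helper931)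

`T σ m` : the trace of the `m`-th power of an element of trace `σ`.
`exists_gen` : there are a non-split `σ`, an extension `L` and a primitive `(q+1)`-th root of unity `c` of `L` with
`σ = c + c⁻¹`; every non-split `τ` is `T σ m` for some `m`.
-/

set_option autoImplicit false

namespace Cfsg.Agent.H931.L2N

variable {K : Type*} [Field K]

/-- The traces of the powers of an element of trace `σ`. -/
def T (σ : K) : ℕ → K
  | 0 => 2
  | 1 => σ
  | (m + 2) => σ * T σ (m + 1) - T σ m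

theorem T_zero (σ : K) : T σ 0 = 2 := rfl

theorem T_one (σ : K) : T σ 1 = σ := rfl

theorem T_add (σ : K) (m : ℕ) : T σ (m + 2) = σ * T σ (m + 1) - T σ m := rfl

theorem T_quad (σ : K) (m : ℕ) : T σ (m + 1) ^ 2 - σ * T σ (m + 1) * T σ m + T σ m ^ 2 = 4 - σ ^ 2 := by
  induction m with
  | zero => rw [T_one, T_zero]; ring
  | succ m ih =>
    rw [T_add]
    linear_combination ih

theorem T_sum (σ : K) (m : ℕ) : T σ (m + 2) + T σ m = σ * T σ (m + 1) := by
  rw [T_add]; ring

theorem T_prod (σ : K) (m : ℕ) : T σ (m + 2) * T σ m = σ ^ 2 + T σ (m + 1) ^ 2 - 4 := by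
  rw [T_add]
  linear_combination -T_quad σ m

theorem T_eq {L : Type*} [Field L] [Algebra K L] {σ : K} {c : L} (hc : c ≠ 0) (h : algebraMap K L σ = c + c⁻¹) (m : ℕ) :
    algebraMap K L (T σ m) = c ^ m + (c⁻¹) ^ m := by
  induction m using Nat.strong_induction_on with
  | _ m ih =>
    match m, ih with
    | 0, _ => rw [T_zero, pow_zero, pow_zero, map_ofNat]; norm_num
    | 1, _ => rw [T_one, h, pow_one, pow_one]
    | (m + 2), ih =>
      rw [T_add, map_sub, map_mul, h, ih (m + 1) (by omega), ih m (by omega)]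
      have h1 : c * c⁻¹ = 1 := mul_inv_cancel₀ hc
      linear_combination (c ^ m + c⁻¹ ^ m) * h1

variable [Fintype K]

/-- Elements of an extension fixed by `x ↦ x ^ q`. -/
theorem mem_of_pow {L : Type*} [Field L] [Algebra K L] {x : L} (hx : x ^ Fintype.card K = x) :
    ∃ y : K, algebraMap K L y = x := by
  classical
  have h1 : (Polynomial.X ^ Fintype.card K - Polynomial.X : Polynomial K).Splits := by
    rw [Polynomial.splits_iff_card_roots, FiniteField.roots_X_pow_card_sub_X,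
      FiniteField.X_pow_card_sub_X_natDegree_eq K Fintype.one_lt_card]
    rfl
  have h2 := h1.roots_map (algebraMap K L)
  have h3 : x ∈ ((Polynomial.X ^ Fintype.card K - Polynomial.X : Polynomial K).map (algebraMap K L)).roots := by
    rw [Polynomial.map_sub, Polynomial.map_pow, Polynomial.map_X, Polynomial.mem_roots, Polynomial.IsRoot.def,
      Polynomial.eval_sub, Polynomial.eval_pow, Polynomial.eval_X, hx, sub_self]
    exact FiniteField.X_pow_card_sub_X_ne_zero L Fintype.one_lt_card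
  rw [h2, Multiset.mem_map] at h3
  obtain ⟨y, -, hy⟩ := h3
  exact ⟨y, hy⟩

/-- A primitive `(q+1)`-th root of unity. -/
theorem exists_gen : ∃ (σ : K) (c : AlgebraicClosure K), IsPrimitiveRoot c (Fintype.card K + 1) ∧
    algebraMap K (AlgebraicClosure K) σ = c + c⁻¹ := by
  have h0 : ((Fintype.card K + 1 : ℕ) : AlgebraicClosure K) ≠ 0 := by
    rw [Nat.cast_add, Nat.cast_one]
    have h1 : ((Fintype.card K : ℕ) : AlgebraicClosure K) = 0 := by
      rw [← map_natCast (algebraMap K (AlgebraicClosure K)), FiniteField.cast_card_eq_zero, map_zero]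
    rw [h1, zero_add]
    exact one_ne_zero
  have : NeZero ((Fintype.card K + 1 : ℕ) : AlgebraicClosure K) := ⟨h0⟩
  obtain ⟨c, hc⟩ := HasEnoughRootsOfUnity.exists_primitiveRoot (AlgebraicClosure K) (Fintype.card K + 1)
  have hc0 : c ≠ 0 := hc.ne_zero (by omega)
  have h1 : c ^ Fintype.card K = c⁻¹ := by
    apply eq_inv_of_mul_eq_one_left
    rw [← pow_succ, hc.pow_eq_one]
  obtain ⟨σ, hσ⟩ := mem_of_pow (K := K) (x := c + c⁻¹) (by
    obtain ⟨p, hp⟩ := CharP.exists K
    have := hp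
    obtain ⟨n, hpp, hn⟩ := FiniteField.card K p
    have : Fact p.Prime := ⟨hpp⟩
    have : CharP (AlgebraicClosure K) p := charP_of_injective_algebraMap (algebraMap K (AlgebraicClosure K)).injective p
    have h2 : (c + c⁻¹) ^ Fintype.card K = c ^ Fintype.card K + c⁻¹ ^ Fintype.card K := by
      rw [hn]
      exact add_pow_char_pow _ _ p n
    rw [h2, inv_pow, h1, inv_inv, add_comm])
  exact ⟨σ, c, hc, hσ⟩

theorem nonsplit_of_gen {σ : K} {c : AlgebraicClosure K} (hc : IsPrimitiveRoot c (Fintype.card K + 1))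
    (h : algebraMap K (AlgebraicClosure K) σ = c + c⁻¹) (x : K) : x * x - σ * x + 1 ≠ 0 := by
  intro hx
  have hc0 : c ≠ 0 := hc.ne_zero (by omega)
  have h1 : (algebraMap K (AlgebraicClosure K) x - c) * (algebraMap K (AlgebraicClosure K) x - c⁻¹) = 0 := by
    have h2 := congrArg (algebraMap K (AlgebraicClosure K)) hx
    rw [map_add, map_sub, map_mul, map_mul, h, map_one, map_zero] at h2
    have h3 : c * c⁻¹ = 1 := mul_inv_cancel₀ hc0
    linear_combination h2 + h3
  have hq : 1 < Fintype.card K := Fintype.one_lt_card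
  have h4 : ∀ y : K, algebraMap K (AlgebraicClosure K) y = c → False := by
    intro y hy
    have h5 : c ^ Fintype.card K = c := by
      rw [← hy, ← map_pow, FiniteField.pow_card]
    have h6 : c ^ 2 = 1 := by
      rw [← hc.pow_eq_one, pow_succ c (Fintype.card K), h5, sq]
    have h7 := (hc.pow_eq_one_iff_dvd 2).1 h6
    have h8 := Nat.le_of_dvd (by norm_num) h7
    omega
  rcases mul_eq_zero.1 h1 with h5 | h5
  · exact h4 x (sub_eq_zero.1 h5)
  · apply h4 x⁻¹
    rw [map_inv₀, sub_eq_zero.1 h5, inv_inv]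

theorem exists_T {σ : K} {c : AlgebraicClosure K} (hc : IsPrimitiveRoot c (Fintype.card K + 1))
    (h : algebraMap K (AlgebraicClosure K) σ = c + c⁻¹) {τ : K} (hτ : ∀ x : K, x * x - τ * x + 1 ≠ 0) :
    ∃ m : ℕ, τ = T σ m := by
  obtain ⟨a, ha⟩ : ∃ a : AlgebraicClosure K, a * a - algebraMap K _ τ * a + 1 = 0 := by
    obtain ⟨a, ha⟩ := IsAlgClosed.exists_root
      (Polynomial.X ^ 2 - Polynomial.C (algebraMap K (AlgebraicClosure K) τ) * Polynomial.X + Polynomial.C 1) (by
        have : (Polynomial.X ^ 2 - Polynomial.C (algebraMap K (AlgebraicClosure K) τ) * Polynomial.X +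
          Polynomial.C 1 : Polynomial (AlgebraicClosure K)).degree = 2 := by
          compute_degree!
        rw [this]
        decide)
    refine ⟨a, ?_⟩
    rw [Polynomial.IsRoot.def] at ha
    simp only [Polynomial.eval_add, Polynomial.eval_sub, Polynomial.eval_pow, Polynomial.eval_X, Polynomial.eval_mul,
      Polynomial.eval_C] at ha
    linear_combination ha
  have ha0 : a ≠ 0 := by
    rintro rfl
    simp at ha
  have hτa : algebraMap K _ τ = a + a⁻¹ := by
    field_simp
    linear_combination -ha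
  have h1 : (a ^ Fintype.card K) * (a ^ Fintype.card K) - algebraMap K _ τ * a ^ Fintype.card K + 1 = 0 := by
    obtain ⟨p, hp⟩ := CharP.exists K
    have := hp
    obtain ⟨n, hpp, hn⟩ := FiniteField.card K p
    have : Fact p.Prime := ⟨hpp⟩
    have : CharP (AlgebraicClosure K) p := charP_of_injective_algebraMap (algebraMap K (AlgebraicClosure K)).injective p
    have h2 : algebraMap K (AlgebraicClosure K) τ = (algebraMap K (AlgebraicClosure K) τ) ^ Fintype.card K := by
      rw [← map_pow, FiniteField.pow_card]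
    rw [h2, ← mul_pow, ← mul_pow, ← one_pow (Fintype.card K), hn, ← sub_pow_char_pow, ← add_pow_char_pow, ha,
      zero_pow (pow_ne_zero _ hpp.ne_zero)]
  have h2 : (a ^ Fintype.card K - a) * (a ^ Fintype.card K - a⁻¹) = 0 := by
    rw [hτa] at h1
    have h3 : a * a⁻¹ = 1 := mul_inv_cancel₀ ha0
    linear_combination h1 + h3
  rcases mul_eq_zero.1 h2 with h3 | h3
  · exfalso
    obtain ⟨y, hy⟩ := mem_of_pow (K := K) (sub_eq_zero.1 h3)
    apply hτ y
    apply (algebraMap K (AlgebraicClosure K)).injective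
    rw [map_add, map_sub, map_mul, map_mul, hy, map_one, map_zero, ha]
  · have h4 : a ^ (Fintype.card K + 1) = 1 := by
      rw [pow_succ, sub_eq_zero.1 h3, inv_mul_cancel₀ ha0]
    obtain ⟨m, -, hm⟩ := hc.eq_pow_of_pow_eq_one h4
    refine ⟨m, (algebraMap K (AlgebraicClosure K)).injective ?_⟩
    rw [T_eq (hc.ne_zero (by omega)) h, hτa, ← hm, inv_pow]

theorem T_period {σ : K} {c : AlgebraicClosure K} (hc : IsPrimitiveRoot c (Fintype.card K + 1))
    (h : algebraMap K (AlgebraicClosure K) σ = c + c⁻¹) : T σ (Fintype.card K + 1) = 2 := by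
  apply (algebraMap K (AlgebraicClosure K)).injective
  rw [T_eq (hc.ne_zero (by omega)) h, inv_pow, hc.pow_eq_one, inv_one, map_ofNat]
  norm_num

theorem T_half {σ : K} {c : AlgebraicClosure K} (hc : IsPrimitiveRoot c (Fintype.card K + 1))
    (h : algebraMap K (AlgebraicClosure K) σ = c + c⁻¹) (_h2 : (2 : K) ≠ 0) {m : ℕ} (hm : 2 * m = Fintype.card K + 1) :
    T σ m = -2 := by
  apply (algebraMap K (AlgebraicClosure K)).injective
  have h1 : c ^ m = -1 := by
    have h3 : (c ^ m) ^ 2 = 1 := by rw [← pow_mul, mul_comm, hm, hc.pow_eq_one]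
    rw [sq] at h3
    rcases mul_self_eq_one_iff.1 h3 with h4 | h4
    · exfalso
      have h5 := Nat.le_of_dvd (by have := Fintype.card_pos (α := K); omega) ((hc.pow_eq_one_iff_dvd m).1 h4)
      omega
    · exact h4
  rw [T_eq (hc.ne_zero (by omega)) h, inv_pow, h1, map_neg, map_ofNat]
  norm_num only []

omit [Fintype K] in
theorem T_double (σ : K) (m : ℕ) : T σ (2 * m) = T σ m ^ 2 - 2 ∧
    T σ (2 * m + 1) = T σ (m + 1) * T σ m - σ := by
  induction m with
  | zero => rw [mul_zero, T_zero, zero_add, T_one]; constructor <;> ring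
  | succ m ih =>
    obtain ⟨h1, h2⟩ := ih
    have h3 := T_quad σ m
    have e1 : T σ (2 * (m + 1)) = T σ (m + 1) ^ 2 - 2 := by
      rw [show 2 * (m + 1) = 2 * m + 2 by ring, T_add, h1, h2]
      linear_combination -h3
    refine ⟨e1, ?_⟩
    rw [show 2 * (m + 1) + 1 = (2 * m + 1) + 2 by ring, T_add, show 2 * m + 1 + 1 = 2 * (m + 1) by ring, e1, h2,
      show m + 1 + 1 = m + 2 by ring, T_add]
    ring

omit [Fintype K] in
theorem T_even_add_two (σ : K) (m : ℕ) : T σ (2 * m) + 2 = T σ m ^ 2 := by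
  rw [(T_double σ m).1]; ring

omit [Fintype K] in
theorem T_odd_add_two (σ : K) (m : ℕ) : (T σ (2 * m + 1) + 2) * (σ + 2) = (T σ (m + 1) + T σ m) ^ 2 := by
  rw [(T_double σ m).2]
  linear_combination -T_quad σ m

/-- The generator plus two is not a square. -/
theorem not_isSquare_gen {σ : K} {c : AlgebraicClosure K} (hc : IsPrimitiveRoot c (Fintype.card K + 1))
    (h : algebraMap K (AlgebraicClosure K) σ = c + c⁻¹) (h2 : (2 : K) ≠ 0) : ¬ IsSquare (σ + 2) := by
  rintro ⟨s, hs⟩
  have hσ := nonsplit_of_gen hc h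
  have hc0 : c ≠ 0 := hc.ne_zero (by omega)
  have hs1 : ∀ x : K, x * x - s * x + 1 ≠ 0 := by
    intro x hx
    have hx0 : x ≠ 0 := by
      rintro rfl
      simp at hx
    have h3 : s = x + x⁻¹ := by
      field_simp
      linear_combination -hx
    apply hσ (x ^ 2)
    have h4 : σ = x ^ 2 + (x⁻¹) ^ 2 := by
      have h5 : x * x⁻¹ = 1 := mul_inv_cancel₀ hx0
      rw [h3] at hs
      linear_combination hs + 2 * h5
    rw [h4]
    field_simp
    ring
  obtain ⟨m, hm⟩ := exists_T hc h hs1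
  have h3 : T σ (2 * m) = σ := by
    rw [(T_double σ m).1, ← hm]
    linear_combination -hs
  have h4 := T_eq hc0 h (2 * m)
  rw [h3, h, inv_pow] at h4
  have h5 : (c ^ (2 * m) - c) * (c ^ (2 * m) * c - 1) = 0 := by
    have h6 : c ^ (2 * m) * (c ^ (2 * m))⁻¹ = 1 := mul_inv_cancel₀ (pow_ne_zero _ hc0)
    have h7 : c * c⁻¹ = 1 := mul_inv_cancel₀ hc0
    linear_combination (-c ^ (2 * m) * c) * h4 + c ^ (2 * m) * h7 - c * h6
  have hodd : 2 ∣ Fintype.card K + 1 := by
    by_contra hcon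
    have h6 : Fintype.card K % 2 = 0 := by omega
    exact h2 ((FiniteField.even_card_iff_char_two.2 h6 |> fun h => by
      have : CharP K 2 := by rw [← h]; exact ringChar.charP K
      exact CharP.cast_eq_zero K 2))
  rcases mul_eq_zero.1 h5 with h6 | h6
  · rcases Nat.eq_zero_or_pos m with rfl | hm0
    · rw [mul_zero, pow_zero, sub_eq_zero] at h6
      have h7 := (hc.pow_eq_one_iff_dvd 1).1 (by rw [pow_one, ← h6])
      have := Nat.le_of_dvd one_pos h7
      have := Fintype.card_pos (α := K)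
      omega
    · have h7 : c ^ (2 * m - 1) = 1 := by
        apply mul_right_cancel₀ hc0
        rw [← pow_succ, show 2 * m - 1 + 1 = 2 * m by omega, sub_eq_zero.1 h6, one_mul]
      have h8 := hodd.trans ((hc.pow_eq_one_iff_dvd _).1 h7)
      omega
  · have h7 : c ^ (2 * m + 1) = 1 := by rw [pow_succ]; exact sub_eq_zero.1 h6
    have h8 := hodd.trans ((hc.pow_eq_one_iff_dvd _).1 h7)
    omega

end Cfsg.Agent.H931.L2N
end

-- part: H931/L2Theta
section
/-!
# Representations of `SL₂(q)` of degree `q - 1`: the root of unity (helper931)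

`exists_theta` : there is `θ` with `θ ^ (q+1) = 1`; the trace at an element without eigenvalue in `K` is `-(θ^m + θ⁻ᵐ)`.
-/

set_option autoImplicit false
set_option linter.unusedSectionVars false

namespace Cfsg.Agent.H931.L2T

open Matrix Module Cfsg Cfsg.Geo Cfsg.Agent.H464.Sl2 L2N

section Theta

variable {K : Type*} [Field K] [Fintype K] {k : Type*} [Field k] {V : Type*} [AddCommGroup V] [Module k V]
  [FiniteDimensional k V] (R : _root_.Matrix.SpecialLinearGroup (Fin 2) K →* Module.End k V) {ψ : AddChar K k}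
  (hψ : ψ.IsPrimitive) (hK : (Fintype.card K : k) ≠ 0)

/-- The data of a module of degree `q - 1`: `θ` and a generator `σ` of the non-split traces. -/
structure Cusp (σ : K) (θ ε : k) : Prop where
  ne_zero : θ ≠ 0
  pow_card : θ ^ (Fintype.card K + 1) = 1
  /-- the traces of the powers of the generator -/
  tr : ∀ m : ℕ, T σ m ^ 2 - 4 ≠ 0 → X R (T σ m) = -(θ ^ m + θ⁻¹ ^ m)
  surj : ∀ τ : K, (∀ x : K, x * x - τ * x + 1 ≠ 0) → ∃ m : ℕ, τ = T σ m
  nonsplit : ∀ x : K, x * x - σ * x + 1 ≠ 0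
  gen : (2 : K) ≠ 0 → ¬ IsSquare (σ + 2)
  central : R (t (-1)) = ε • 1
  half : (2 : K) ≠ 0 → ∀ m : ℕ, 2 * m = Fintype.card K + 1 → θ ^ m = ε
  eps : ε = 1 ∨ ε = -1

include hψ hK in
theorem exists_theta [IsAlgClosed k] (hspan : Submodule.span k (Set.range R) = ⊤)
    (hall : ∀ b : K, b ≠ 0 → finrank k (LinearMap.range (E R ψ b)) = 1) (h0 : E R ψ 0 = 0) :
    ∃ (σ : K) (θ ε : k), Cusp R σ θ ε := by
  classical
  obtain ⟨σ, c, hc, hσc⟩ := exists_gen (K := K)
  have hσ := nonsplit_of_gen hc hσc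
  have h1 : ∀ ζ : Kˣ, ∃ c : k, ζ ^ 2 = 1 → R (t ζ) = c • 1 := by
    intro ζ
    by_cases h : ζ ^ 2 = 1
    · obtain ⟨c, hc⟩ := central_scalar R hspan (t_sq_central h)
      exact ⟨c, fun _ => hc⟩
    · exact ⟨0, fun h' => absurd h' h⟩
  choose cz hcz using h1
  have : Fintype (_root_.Matrix.SpecialLinearGroup (Fin 2) K) := Fintype.ofFinite _
  have : Fintype Kˣ := Fintype.ofFinite _
  have hV : (1 : Module.End k V) ≠ 0 := by
    intro h
    have h2 := hall 1 one_ne_zero
    rw [← mul_one (E R ψ 1), h, mul_zero, LinearMap.range_zero, finrank_bot] at h2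
    exact zero_ne_one h2
  have hcz1 : cz 1 = 1 := by
    have h2 := hcz 1 (one_pow 2)
    rw [t_one, map_one] at h2
    have h3 : (1 - cz 1) • (1 : Module.End k V) = 0 := by rw [sub_smul, one_smul, ← h2, sub_self]
    rcases smul_eq_zero.1 h3 with h4 | h4
    · exact (sub_eq_zero.1 h4).symm
    · exact absurd h4 hV
  have hsq : cz (-1) ^ 2 = 1 := by
    have h2 := hcz (-1) (by rw [neg_one_sq])
    have h3 : R (t (-1)) * R (t (-1)) = 1 := by
      rw [← R.map_mul, ← t_mul, neg_mul_neg, one_mul, t_one, R.map_one]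
    rw [h2, smul_mul_smul_comm, one_mul, ← sq] at h3
    have h4 : (cz (-1) ^ 2 - 1) • (1 : Module.End k V) = 0 := by rw [sub_smul, one_smul, h3, sub_self]
    rcases smul_eq_zero.1 h4 with h5 | h5
    · exact sub_eq_zero.1 h5
    · exact absurd h5 hV
  have hε : cz (-1) = 1 ∨ cz (-1) = -1 := by
    rw [sq] at hsq
    exact mul_self_eq_one_iff.1 hsq
  -- the root
  obtain ⟨θ, hθ⟩ : ∃ θ : k, θ * θ + Y R cz σ * θ + 1 = 0 := by
    obtain ⟨a, ha⟩ := IsAlgClosed.exists_root
      (Polynomial.X ^ 2 + Polynomial.C (Y R cz σ) * Polynomial.X + Polynomial.C 1) (by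
        have : (Polynomial.X ^ 2 + Polynomial.C (Y R cz σ) * Polynomial.X + Polynomial.C 1 :
          Polynomial k).degree = 2 := by
          compute_degree!
        rw [this]
        decide)
    refine ⟨a, ?_⟩
    rw [Polynomial.IsRoot.def] at ha
    simp only [Polynomial.eval_add, Polynomial.eval_pow, Polynomial.eval_X, Polynomial.eval_mul,
      Polynomial.eval_C] at ha
    linear_combination ha
  have hθ0 : θ ≠ 0 := by
    rintro rfl
    simp at hθ
  have hθi : θ * θ⁻¹ = 1 := mul_inv_cancel₀ hθ0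
  have hY1 : Y R cz σ = -(θ + θ⁻¹) := by
    field_simp
    linear_combination hθ
  have hY : ∀ m : ℕ, Y R cz (T σ m) = -(θ ^ m + θ⁻¹ ^ m) := by
    intro m
    induction m using Nat.strong_induction_on with
    | _ m ih =>
      match m, ih with
      | 0, _ =>
        have h2 := Y_two R hψ hK cz hcz hspan hall h0 (ζ := 1) (one_pow 2)
        rw [Units.val_one, mul_one, hcz1] at h2
        rw [T_zero, h2, pow_zero, pow_zero]
        ring
      | 1, _ => rw [T_one, hY1, pow_one, pow_one]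
      | (m + 2), ih =>
        have h2 := Y_rec R hψ hK cz hcz hspan hall h0 hσ (T_sum σ m) (T_prod σ m)
        rw [ih (m + 1) (by omega), ih m (by omega), hY1] at h2
        linear_combination h2 - (θ ^ m + θ⁻¹ ^ m) * hθi
  have hpm : ∀ (N : ℕ) (e : k), e * e = 1 → θ ^ N + θ⁻¹ ^ N = 2 * e → θ ^ N = e := by
    intro N e he h2
    have h3 : θ ^ N * θ⁻¹ ^ N = 1 := by rw [← mul_pow, hθi, one_pow]
    have h4 : (θ ^ N - e) ^ 2 = 0 := by
      linear_combination θ ^ N * h2 - h3 + he
    exact sub_eq_zero.1 (pow_eq_zero_iff two_ne_zero |>.1 h4)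
  refine ⟨σ, θ, cz (-1), hθ0, ?_, ?_, fun τ hτ => exists_T hc hσc hτ, hσ, not_isSquare_gen hc hσc, hcz (-1) (by rw [neg_one_sq]), ?_, hε⟩
  · apply hpm _ 1 (one_mul 1)
    have h2 := hY (Fintype.card K + 1)
    rw [T_period hc hσc, ← T_zero σ, hY 0, pow_zero, pow_zero] at h2
    linear_combination h2
  · intro m hm
    rw [← Y_eq_X R cz hm, hY m]
  · intro h2 m hm
    apply hpm m _ (by rw [← sq, hsq])
    have h3 := hY m
    have h4 := Y_two R hψ hK cz hcz hspan hall h0 (ζ := -1) (by rw [neg_one_sq])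
    rw [Units.val_neg, Units.val_one, mul_neg, mul_one] at h4
    rw [T_half hc hσc h2 hm, h4] at h3
    linear_combination h3

end Theta

end Cfsg.Agent.H931.L2T
end

-- part: H931/L2Gauss
section
/-!
# Gauss and Salié sums with values in a field of arbitrary characteristic (helper931)
-/

set_option autoImplicit false
set_option linter.unusedSectionVars false

namespace Cfsg.Agent.H931.L2N

open Finset

variable {K : Type*} [Field K] [Fintype K] [DecidableEq K] (k : Type*) [Field k]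

/-- The quadratic character with values in `k`. -/
def eta (x : K) : k := ((quadraticChar K x : ℤ) : k)

variable {k}

theorem eta_mul (x y : K) : eta k (x * y) = eta k x * eta k y := by
  rw [eta, map_mul, Int.cast_mul]; rfl

theorem eta_zero : eta k (0 : K) = 0 := by
  rw [eta, quadraticChar_zero, Int.cast_zero]

theorem eta_one : eta k (1 : K) = 1 := by
  rw [eta, map_one, Int.cast_one]

theorem eta_sq {x : K} (hx : x ≠ 0) : eta k (x ^ 2) = 1 := by
  rw [eta, quadraticChar_sq_one' hx, Int.cast_one]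

theorem eta_mul_self {x : K} (hx : x ≠ 0) : eta k x * eta k x = 1 := by
  rw [← eta_mul, ← sq, eta_sq hx]

theorem eta_of_not_isSquare {x : K} (hx : ¬ IsSquare x) : eta k x = -1 := by
  rw [eta, quadraticChar_neg_one_iff_not_isSquare.2 hx]
  norm_num

theorem eta_div {x y : K} (hy : y ≠ 0) : eta k (x / y) = eta k x * eta k y := by
  have h1 : x / y = x * y * (y⁻¹) ^ 2 := by field_simp
  rw [h1, eta_mul, eta_mul, eta_sq (inv_ne_zero hy), mul_one]

theorem ringChar_ne_two (h2 : (2 : K) ≠ 0) : ringChar K ≠ 2 := by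
  intro h
  apply h2
  have : CharP K 2 := by rw [← h]; exact ringChar.charP K
  exact CharP.cast_eq_zero K 2

theorem sum_eta (h2 : (2 : K) ≠ 0) : ∑ x : K, eta k x = 0 := by
  unfold eta
  rw [← Int.cast_sum, quadraticChar_sum_zero (ringChar_ne_two h2), Int.cast_zero]

/-- The Gauss sum. -/
def gs (ψ : AddChar K k) : k := ∑ x, eta k x * ψ x

theorem gs_mul (h2 : (2 : K) ≠ 0) (ψ : AddChar K k) (a : K) : ∑ x, eta k x * ψ (a * x) = eta k a * gs ψ := by
  by_cases ha : a = 0
  · rw [ha, eta_zero, zero_mul, Finset.sum_congr rfl fun x _ => by rw [zero_mul, AddChar.map_zero_eq_one, mul_one],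
      sum_eta h2]
  · rw [gs, Finset.mul_sum, ← Equiv.sum_comp (Equiv.mulLeft₀ a ha) (fun x : K => eta k a * (eta k x * ψ x))]
    refine Finset.sum_congr rfl fun x _ => ?_
    change _ = eta k a * (eta k (a * x) * ψ (a * x))
    rw [eta_mul, ← mul_assoc, ← mul_assoc, eta_mul_self ha, one_mul]

theorem gs_sq (h2 : (2 : K) ≠ 0) {ψ : AddChar K k} (hψ : ψ.IsPrimitive) :
    gs ψ * gs ψ = eta k (-1 : K) * (Fintype.card K : k) := by
  have h1 : gs ψ * gs ψ = ∑ y : K, ∑ x : K, eta k (x * y) * ψ (x + y) := by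
    unfold gs
    rw [Finset.sum_mul_sum, Finset.sum_comm]
    refine Finset.sum_congr rfl fun y _ => Finset.sum_congr rfl fun x _ => ?_
    rw [eta_mul, AddChar.map_add_eq_mul]
    ring
  have h3 : ∀ y : K, ∑ x : K, eta k (x * y) * ψ (x + y) =
      ∑ t : K, eta k t * (ψ (y * (t + 1)) - if y = 0 then 1 else 0) := by
    intro y
    by_cases hy : y = 0
    · rw [hy]
      rw [Finset.sum_eq_zero (fun x _ => by rw [mul_zero, eta_zero, zero_mul]), Finset.sum_eq_zero]
      intro t _
      rw [zero_mul, AddChar.map_zero_eq_one, if_pos rfl, sub_self, mul_zero]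
    · rw [← Equiv.sum_comp (Equiv.mulRight₀ y hy) (fun x : K => eta k (x * y) * ψ (x + y))]
      refine Finset.sum_congr rfl fun t _ => ?_
      change eta k (t * y * y) * ψ (t * y + y) = _
      rw [if_neg hy, sub_zero, mul_assoc, eta_mul, ← sq, eta_sq hy, mul_one]
      congr 2
      ring
  rw [h1, Finset.sum_congr rfl fun y _ => h3 y, Finset.sum_comm]
  have h4 : ∀ t : K, ∑ y : K, eta k t * (ψ (y * (t + 1)) - if y = 0 then 1 else 0) =
      (if t = -1 then eta k t * (Fintype.card K : k) else 0) - eta k t := by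
    intro t
    rw [← Finset.mul_sum, Finset.sum_sub_distrib, Finset.sum_ite_eq' Finset.univ (0 : K), if_pos (Finset.mem_univ _),
      AddChar.sum_mulShift _ hψ]
    by_cases ht : t = -1
    · rw [if_pos ht, if_pos (by rw [ht, neg_add_cancel])]
      ring
    · rw [if_neg ht, if_neg (fun h => ht (eq_neg_of_add_eq_zero_left h)), Nat.cast_zero]
      ring
  rw [Finset.sum_congr rfl fun t _ => h4 t, Finset.sum_sub_distrib, sum_eta h2, sub_zero, Finset.sum_ite_eq',
    if_pos (Finset.mem_univ _)]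

/-- **A Salié sum.** -/
theorem salie (ψ : AddChar K k) {α β : K} (h : ¬ IsSquare (α * β)) :
    ∑ x : K, eta k x * ψ (-(α * x) - β / x) = 0 := by
  have hα : α ≠ 0 := by
    rintro rfl
    exact h ⟨0, by ring⟩
  have hβ : β ≠ 0 := by
    rintro rfl
    exact h ⟨0, by ring⟩
  have key : ∀ x : K, eta k x * ψ (-(α * x) - β / x) +
      eta k (β / (α * x)) * ψ (-(α * (β / (α * x))) - β / (β / (α * x))) = 0 := by
    intro x
    by_cases hx : x = 0
    · rw [hx, mul_zero, div_zero, eta_zero]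
      ring
    · have e1 : -(α * (β / (α * x))) - β / (β / (α * x)) = -(α * x) - β / x := by
        field_simp
        ring
      have e2 : eta k (β / (α * x)) = - eta k x := by
        rw [eta_div (mul_ne_zero hα hx), eta_mul, ← mul_assoc, mul_comm (eta k β), ← eta_mul,
          eta_of_not_isSquare h]
        ring
      rw [e1, e2]
      ring
  apply Finset.sum_involution (fun x _ => β / (α * x))
  · intro x _
    exact key x
  · intro x _ hne heq
    have hx : x ≠ 0 := by
      rintro rfl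
      apply hne
      rw [eta_zero, zero_mul]
    apply h
    refine ⟨α * x, ?_⟩
    have h3 : β = x * (α * x) := by
      rwa [div_eq_iff (mul_ne_zero hα hx)] at heq
    rw [h3]
    ring
  · intro x _
    exact Finset.mem_univ _
  · intro x _
    by_cases hx : x = 0
    · simp [hx]
    · field_simp

end Cfsg.Agent.H931.L2N
end

-- part: H931/L2Salie
section
/-!
# Representations of `SL₂(q)` of degree `q - 1`, `q` odd: `θ ≠ -1` (helper931)

For `θ = -1` the matrix coefficients of `w` between square and non-square weights are Salié sums, which vanish: the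
module would be reducible (it is the sum of the two cuspidal Weil modules).
-/

set_option autoImplicit false
set_option linter.unusedSectionVars false

namespace Cfsg.Agent.H931.L2T

open Matrix Module Cfsg Cfsg.Geo Cfsg.Agent.H464.Sl2 L2N

section Gen

variable {K : Type*} [Field K] [Fintype K] {k : Type*} [Field k] {V : Type*} [AddCommGroup V] [Module k V]
  [FiniteDimensional k V] (R : _root_.Matrix.SpecialLinearGroup (Fin 2) K →* Module.End k V) {ψ : AddChar K k}
  (hψ : ψ.IsPrimitive) (hK : (Fintype.card K : k) ≠ 0)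

include hψ hK in
/-- Split elements have trace `0`. -/
theorem tr_t_zero (h0 : E R ψ 0 = 0) {a : Kˣ} (ha : a ^ 2 ≠ 1) : LinearMap.trace k V (R (t a)) = 0 := by
  rw [← mul_one (R (t a)), ← sum_E R hψ hK, Finset.mul_sum, map_sum, Finset.sum_eq_zero]
  intro b _
  rw [← E_mul_self R hψ hK, ← mul_assoc, LinearMap.trace_mul_comm, ← mul_assoc]
  by_cases hb : b = 0
  · rw [hb, h0, zero_mul, zero_mul, map_zero]
  · rw [E_t_E R hψ hK hb ha, map_zero]

/-- The compression to a weight of multiplicity one. -/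
theorem E_mul_mul_E {b : K} (hb : finrank k (LinearMap.range (E R ψ b)) = 1) (A : Module.End k V) :
    E R ψ b * A * E R ψ b = LinearMap.trace k V (E R ψ b * A) • E R ψ b := by
  obtain ⟨v, hv, hv0⟩ := Submodule.exists_mem_ne_zero_of_ne_bot (p := LinearMap.range (E R ψ b)) (by
    intro h
    rw [h, finrank_bot] at hb
    exact zero_ne_one hb)
  obtain ⟨φ, hφ⟩ := exists_dual (k := k) hv0
  have hE : E R ψ b = (φ.comp (E R ψ b)).smulRight v := by
    ext x
    rw [LinearMap.smulRight_apply, LinearMap.comp_apply]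
    obtain ⟨c, hc⟩ := (finrank_eq_one_iff_of_nonzero' (⟨v, hv⟩ : LinearMap.range (E R ψ b))
      (fun h => hv0 (congrArg Subtype.val h))).1 hb ⟨E R ψ b x, LinearMap.mem_range_self _ _⟩
    have hc' : c • v = E R ψ b x := congrArg Subtype.val hc
    rw [← hc', map_smul, hφ, smul_eq_mul, mul_one]
  have h1 : E R ψ b * A = ((φ.comp (E R ψ b)).comp A).smulRight v := by
    conv_lhs => rw [hE]
    rfl
  rw [h1, LinearMap.trace_smulRight]
  ext x
  rw [Module.End.mul_apply, LinearMap.smulRight_apply, LinearMap.smul_apply]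
  conv_lhs => rw [hE]
  rw [LinearMap.smulRight_apply, map_smul, smul_eq_mul, mul_comm, mul_smul, LinearMap.comp_apply,
    LinearMap.comp_apply]
  conv_rhs => rw [hE]
  rw [LinearMap.smulRight_apply]
  rfl

include hψ hK in
/-- No block of matrix coefficients of `w` vanishes. -/
theorem no_block (hspan : Submodule.span k (Set.range R) = ⊤) {a b : K} (ha : E R ψ a ≠ 0) (hb : E R ψ b ≠ 0)
    (hab : ∀ s : Kˣ, a ≠ b / (s : K) ^ 2) (h : ∀ s : Kˣ, E R ψ a * R (w 1) * E R ψ (b / (s : K) ^ 2) = 0) : False := by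
  have h1 : ∀ g, E R ψ a * R g * E R ψ b = 0 := by
    intro g
    rcases bruhat g with ⟨x, c, rfl⟩ | ⟨x, c, y, rfl⟩
    · rw [R.map_mul, ← mul_assoc, E_mul_R, smul_mul_assoc, smul_mul_assoc, mul_assoc, t_mul_E, ← mul_assoc,
        E_mul_of_ne R hψ hK (hab c), zero_mul, smul_zero]
    · rw [R.map_mul, R.map_mul, ← mul_assoc, ← mul_assoc, E_mul_R, smul_mul_assoc, smul_mul_assoc, smul_mul_assoc,
        mul_assoc, R_mul_E, mul_smul_comm, ← w_one_mul_t, R.map_mul, ← mul_assoc, mul_assoc, t_mul_E, ← mul_assoc,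
        h c, zero_mul, smul_zero, smul_zero]
  have h2 : ∀ A : Module.End k V, E R ψ a * A * E R ψ b = 0 := by
    intro A
    have hA : A ∈ Submodule.span k (Set.range R) := by rw [hspan]; trivial
    induction hA using Submodule.span_induction with
    | mem x hx =>
      obtain ⟨g, rfl⟩ := hx
      exact h1 g
    | zero => simp
    | add x y _ _ hx hy => rw [mul_add, add_mul, hx, hy, add_zero]
    | smul a x _ hx => rw [mul_smul_comm, smul_mul_assoc, hx, smul_zero]
  obtain ⟨x, hx⟩ : ∃ x, E R ψ b x ≠ 0 := by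
    by_contra hcon
    push Not at hcon
    exact hb (LinearMap.ext hcon)
  obtain ⟨y, hy⟩ : ∃ y, E R ψ a y ≠ 0 := by
    by_contra hcon
    push Not at hcon
    exact ha (LinearMap.ext hcon)
  obtain ⟨φ, hφ⟩ := exists_dual (k := k) hx
  have h3 := congrArg (fun A : Module.End k V => A x) (h2 (φ.smulRight y))
  simp only [Module.End.mul_apply, LinearMap.smulRight_apply, hφ, one_smul, LinearMap.zero_apply] at h3
  exact hy h3

end Gen

section Sign

variable {K : Type*} [Field K] [Fintype K] [DecidableEq K] {k : Type*} [Field k] {V : Type*} [AddCommGroup V]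
  [Module k V] [FiniteDimensional k V] (R : _root_.Matrix.SpecialLinearGroup (Fin 2) K →* Module.End k V) {ψ : AddChar K k}
  (hψ : ψ.IsPrimitive) (hK : (Fintype.card K : k) ≠ 0)

include hψ hK in
theorem X_pm (hspan : Submodule.span k (Set.range R) = ⊤)
    (hall : ∀ b : K, b ≠ 0 → finrank k (LinearMap.range (E R ψ b)) = 1) (h0 : E R ψ 0 = 0) {σ : K} {θ ε : k}
    (C : Cusp R σ θ ε) : X R 2 = -1 ∧ ((2 : K) ≠ 0 → X R (-2) = -ε) := by
  have : Fintype (_root_.Matrix.SpecialLinearGroup (Fin 2) K) := Fintype.ofFinite _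
  have : Fintype Kˣ := Fintype.ofFinite _
  have h1 : ∀ ζ : Kˣ, ζ ^ 2 = 1 → R (t ζ) = (if ζ = 1 then (1 : k) else ε) • 1 := by
    intro ζ hζ
    by_cases h : ζ = 1
    · rw [if_pos h, h, t_one, R.map_one, one_smul]
    · rw [if_neg h]
      have h2 : ζ = -1 := by
        have h3 : (ζ : K) * ζ = 1 := by
          rw [← Units.val_mul, ← sq, hζ, Units.val_one]
        rcases mul_self_eq_one_iff.1 h3 with h4 | h4
        · exact absurd (Units.ext h4) h
        · exact Units.ext h4
      rw [h2, C.central]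
  constructor
  · have h2 := X_two R hψ hK _ h1 hspan hall h0 (ζ := 1) (one_pow 2)
    rwa [Units.val_one, mul_one, if_pos rfl] at h2
  · intro hK2
    have h2 := X_two R hψ hK _ h1 hspan hall h0 (ζ := -1) (by rw [neg_one_sq])
    rw [Units.val_neg, Units.val_one, mul_neg, mul_one, if_neg] at h2
    · exact h2
    · intro h
      have h3 : (-1 : K) = 1 := by
        have := congrArg (Units.val) h
        rwa [Units.val_neg, Units.val_one] at this
      exact hK2 (by linear_combination -h3)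

include hψ hK in
/-- The trace for `θ = -1`. -/
theorem X_sign (hspan : Submodule.span k (Set.range R) = ⊤)
    (hall : ∀ b : K, b ≠ 0 → finrank k (LinearMap.range (E R ψ b)) = 1) (h0 : E R ψ 0 = 0) {σ : K} {ε : k}
    (C : Cusp R σ (-1) ε) (h2 : (2 : K) ≠ 0) (τ : K) : X R τ = eta k (τ - 2) - eta k (τ + 2) := by
  obtain ⟨hX2, hX2'⟩ := X_pm R hψ hK hspan hall h0 C
  have h4 : (4 : K) ≠ 0 := by
    have : (4 : K) = 2 * 2 := by norm_num
    rw [this]
    exact mul_ne_zero h2 h2
  by_cases ht : τ ^ 2 - 4 = 0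
  · have h3 : (τ - 2) * (τ + 2) = 0 := by linear_combination ht
    rcases mul_eq_zero.1 h3 with h | h
    · have h5 : τ = 2 := by linear_combination h
      have e : (2 : K) + 2 = 2 ^ 2 := by norm_num
      rw [h5, hX2, sub_self, eta_zero, e, eta_sq h2]
      ring
    · have h5 : τ = -2 := by linear_combination h
      have e : (-2 : K) - 2 = (-1) * 2 ^ 2 := by norm_num
      rw [h5, hX2' h2, neg_add_cancel, eta_zero, e, eta_mul, eta_sq h2]
      -- `ε = - η(-1)`
      have hodd : Fintype.card K % 2 = 1 := FiniteField.odd_card_of_char_ne_two (ringChar_ne_two h2)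
      have h6 := C.half h2 ((Fintype.card K + 1) / 2) (by omega)
      by_cases h7 : Fintype.card K % 4 = 3
      · have h8 : ¬ IsSquare (-1 : K) := by
          rw [FiniteField.isSquare_neg_one_iff, not_not]
          exact h7
        rw [eta_of_not_isSquare h8, ← h6, Even.neg_one_pow (by rw [Nat.even_iff]; (clear * - h7; omega))]
        ring
      · have h8 : IsSquare (-1 : K) := FiniteField.isSquare_neg_one_iff.2 h7
        rw [← h6, Odd.neg_one_pow (by rw [Nat.odd_iff]; omega)]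
        obtain ⟨i, hi⟩ := h8
        have hi0 : i ≠ 0 := by
          rintro rfl
          simp at hi
        rw [hi, ← sq, eta_sq hi0]
        ring
  · have ht1 : τ - 2 ≠ 0 := fun h => ht (by linear_combination (τ + 2) * h)
    have ht2 : τ + 2 ≠ 0 := fun h => ht (by linear_combination (τ - 2) * h)
    by_cases hs : ∀ x : K, x * x - τ * x + 1 ≠ 0
    · obtain ⟨m, hm⟩ := C.surj τ hs
      have h5 : ¬ IsSquare ((τ - 2) * (τ + 2)) := by
        rintro ⟨s, hs'⟩
        apply hs ((τ + s) / 2)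
        field_simp
        linear_combination -hs'
      have h6 : eta k (τ - 2) = - eta k (τ + 2) := by
        have h7 := eta_of_not_isSquare (k := k) h5
        rw [eta_mul] at h7
        have h8 := eta_mul_self (k := k) ht2
        linear_combination eta k (τ + 2) * h7 - eta k (τ - 2) * h8
      have h7 : eta k (τ + 2) = (-1) ^ m := by
        rcases Nat.even_or_odd' m with ⟨j, hj | hj⟩
        · rw [hm, hj, T_even_add_two, Even.neg_one_pow ⟨j, by ring⟩, eta_sq]
          intro h8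
          apply ht2
          rw [hm, hj, T_even_add_two, h8]
          ring
        · have h8 := T_odd_add_two σ j
          rw [← hj, ← hm] at h8
          have h9 : eta k (τ + 2) * eta k (σ + 2) = 1 := by
            rw [← eta_mul, h8, eta_sq]
            intro h10
            rw [h10, zero_pow two_ne_zero] at h8
            rcases mul_eq_zero.1 h8 with h11 | h11
            · exact ht2 h11
            · apply C.gen h2
              rw [h11]
              exact ⟨0, by ring⟩
          rw [eta_of_not_isSquare (C.gen h2)] at h9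
          rw [Odd.neg_one_pow ⟨j, hj⟩]
          linear_combination -h9
      have h8 := C.tr m (by rw [← hm]; exact ht)
      rw [← hm] at h8
      rw [h8, h6, h7, inv_neg, inv_one]
      ring
    · push Not at hs
      obtain ⟨a, ha⟩ := hs
      have ha0 : a ≠ 0 := by
        rintro rfl
        simp at ha
      have h5 : τ = a + a⁻¹ := by
        field_simp
        linear_combination -ha
      have h6 : mt (t (Units.mk0 a ha0)) = τ := by
        rw [mt_t, h5]
        simp
      have h7 : (Units.mk0 a ha0) ^ 2 ≠ 1 := by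
        intro h
        have h8 : a ^ 2 = 1 := by
          have := congrArg Units.val h
          simpa only [_root_.sq_eq_one_iff, _root_.Units.val_pow_eq_pow_val, _root_.Units.val_mk0, _root_.Units.val_one] using this
        apply ht
        rw [h5]
        field_simp
        linear_combination (a ^ 2 - 1) * h8
      have h8 := trace_eq_X R (t (Units.mk0 a ha0)) (by rw [h6]; exact ht)
      rw [h6, tr_t_zero R hψ hK h0 h7] at h8
      rw [← h8]
      have e1 : τ - 2 = (a - 1) ^ 2 / a := by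
        rw [h5]
        field_simp
        ring
      have e2 : τ + 2 = (a + 1) ^ 2 / a := by
        rw [h5]
        field_simp
        ring
      have e3 : a - 1 ≠ 0 := by
        intro h
        apply ht1
        rw [e1, h]
        simp
      have e4 : a + 1 ≠ 0 := by
        intro h
        apply ht2
        rw [e2, h]
        simp
      rw [e1, e2, eta_div ha0, eta_div ha0, eta_sq e3, eta_sq e4, sub_self]

include hK in
theorem J_sign (hX : ∀ τ, X R τ = eta k (τ - 2) - eta k (τ + 2)) (h2 : (2 : K) ≠ 0) (b : K) :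
    (Fintype.card K : k) * J R ψ b = (ψ (-(2 * b)) - ψ (2 * b)) * (eta k (-b) * gs ψ) := by
  rw [J_eq, ← mul_assoc, mul_inv_cancel₀ hK, one_mul, ← gs_mul h2]
  have h1 : ∀ c : K, ∑ x, ψ (-(b * x)) * eta k (x - c) = ψ (-(c * b)) * ∑ x, eta k x * ψ (-b * x) := by
    intro c
    rw [Finset.mul_sum, ← Equiv.sum_comp (Equiv.addRight c) (fun x : K => ψ (-(b * x)) * eta k (x - c))]
    refine Finset.sum_congr rfl fun x _ => ?_
    change ψ (-(b * (x + c))) * eta k (x + c - c) = _
    have e : -(b * (x + c)) = -(c * b) + -b * x := by ring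
    rw [e, AddChar.map_add_eq_mul, add_sub_cancel_right]
    ring
  have h3 := h1 2
  have h4 := h1 (-2)
  have h5 : ∑ x, ψ (-(b * x)) * X R x = ∑ x, ψ (-(b * x)) * eta k (x - 2) - ∑ x, ψ (-(b * x)) * eta k (x - -2) := by
    rw [← Finset.sum_sub_distrib]
    refine Finset.sum_congr rfl fun x _ => ?_
    rw [hX, sub_neg_eq_add]
    ring
  rw [h5, h3, h4, neg_mul, neg_neg]
  ring

theorem coe_G (x y : K) (s : Kˣ) : (u x * w 1 * u y * ((w 1)⁻¹ * t s)).1 =
    !![(1 - x * y) * s, x * ((s⁻¹ : Kˣ) : K); -(y * s), ((s⁻¹ : Kˣ) : K)] := by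
  have e1 : (u x * w 1 * u y * ((w 1)⁻¹ * t s)).1 = (u x * w 1 * u y).1 * (((w 1)⁻¹).1 * (t s).1) := rfl
  have e2 : ((w (1 : Kˣ))⁻¹).1 = !![0, 1; -1, 0] := by
    rw [Matrix.SpecialLinearGroup.coe_inv]
    have e3 : (w (1 : Kˣ)).1 = !![0, -(((1 : Kˣ)⁻¹ : Kˣ) : K); ((1 : Kˣ) : K), 0] := rfl
    rw [e3, Matrix.adjugate_fin_two_of]
    simp
  have e3 : (t s).1 = !![(s : K), 0; 0, ((s⁻¹ : Kˣ) : K)] := rfl
  rw [e1, coe_uwcu, e2, e3]
  ext i j
  (revert i j; simp only [Matrix.mul_apply, Fin.sum_univ_two, _root_.Fin.forall_fin_succ, _root_.Units.val_one, _root_.mul_one, _root_.inv_one, _root_.one_mul, _root_.Units.val_inv_eq_inv_val, _root_.Matrix.cons_mul, _root_.Nat.succ_eq_add_one, Nat.reduceAdd, _root_.Matrix.vecMul_cons, _root_.Matrix.head_cons, _root_.zero_smul, _root_.Matrix.tail_cons, _root_.one_smul, _root_.Matrix.empty_vecMul, _root_.add_zero, _root_.zero_add, _root_.neg_smul, _root_.Matrix.neg_cons, _root_.neg_zero, _root_.Matrix.neg_empty, _root_.Matrix.empty_mul,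 _root_.Equiv.symm_apply_apply, _root_.Matrix.of_apply, _root_.Matrix.cons_val', _root_.Matrix.cons_val_fin_one, Fin.isValue, _root_.Matrix.cons_val_zero, _root_.Matrix.cons_val_one, _root_.MulZeroClass.mul_zero, _root_.mul_neg, _root_.Matrix.cons_val_succ, _root_.forall_const, _root_.implies_true, _root_.and_true, _root_.true_and]) <;> (repeat' with_reducible apply And.intro)
  ring

include hψ hK in
theorem tr_G (hspan : Submodule.span k (Set.range R) = ⊤)
    (hall : ∀ b : K, b ≠ 0 → finrank k (LinearMap.range (E R ψ b)) = 1) (x y : K) (s : Kˣ) :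
    LinearMap.trace k V (R (u x * w 1 * u y * ((w 1)⁻¹ * t s))) = X R ((1 - x * y) * s + ((s⁻¹ : Kˣ) : K)) +
      if x = 0 ∧ y = 0 then LinearMap.trace k V (R (t s)) - X R ((s : K) + ((s⁻¹ : Kˣ) : K)) else 0 := by
  by_cases h : x = 0 ∧ y = 0
  · obtain ⟨rfl, rfl⟩ := h
    rw [if_pos ⟨rfl, rfl⟩, u_zero, one_mul, mul_one, mul_inv_cancel_left, mul_zero, sub_zero, one_mul]
    ring
  · rw [if_neg h, add_zero, tr_eq_X R hψ hK hspan hall]
    · congr 1
      rw [mt, coe_G]
      simp
    · intro ζ _ hζ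
      apply h
      have h1 : (u x * w 1 * u y * ((w 1)⁻¹ * t s)).1 = (t ζ).1 := by rw [hζ]
      have e3 : (t ζ).1 = !![(ζ : K), 0; 0, ((ζ⁻¹ : Kˣ) : K)] := rfl
      rw [coe_G, e3] at h1
      have h2 := congrFun (congrFun h1 0) 1
      have h3 := congrFun (congrFun h1 1) 0
      simp only [of_apply, cons_val', cons_val_zero, cons_val_one, cons_val_fin_one] at h2 h3
      refine ⟨(mul_eq_zero.1 h2).resolve_right (Units.ne_zero _), ?_⟩
      exact (mul_eq_zero.1 (neg_eq_zero.1 h3)).resolve_right (Units.ne_zero _)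

include hψ hK in
/-- The matrix coefficients of `w` for `θ = -1`. -/
theorem tr_EwEw (hspan : Submodule.span k (Set.range R) = ⊤)
    (hall : ∀ b : K, b ≠ 0 → finrank k (LinearMap.range (E R ψ b)) = 1) (h2 : (2 : K) ≠ 0)
    (hX : ∀ τ, X R τ = eta k (τ - 2) - eta k (τ + 2)) (a : K) {b : K} (hb : b ≠ 0) (s : Kˣ) :
    (Fintype.card K : k) * (Fintype.card K : k) *
      LinearMap.trace k V (E R ψ a * R (w 1) * E R ψ b * R ((w 1)⁻¹ * t s)) =
    gs ψ * (eta k b * eta k (s : K)) * (∑ x, eta k x * ψ (-(a * x) - b * (((s : K) - 1) / s) ^ 2 / x) -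
      ∑ x, eta k x * ψ (-(a * x) - b * (((s : K) + 1) / s) ^ 2 / x)) +
      (LinearMap.trace k V (R (t s)) - X R ((s : K) + ((s⁻¹ : Kˣ) : K))) := by
  have hs := s.ne_zero
  have h1 : (Fintype.card K : k) * (Fintype.card K : k) *
      LinearMap.trace k V (E R ψ a * R (w 1) * E R ψ b * R ((w 1)⁻¹ * t s)) =
      ∑ x, ∑ y, ψ (-(a * x)) * (ψ (-(b * y)) * LinearMap.trace k V (R (u x * w 1 * u y * ((w 1)⁻¹ * t s)))) := by
    have e1 : E R ψ a * R (w 1) * E R ψ b * R ((w 1)⁻¹ * t s) =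
        ((Fintype.card K : k)⁻¹ * (Fintype.card K : k)⁻¹) •
        ∑ x, ∑ y, (ψ (-(a * x)) * ψ (-(b * y))) • R (u x * w 1 * u y * ((w 1)⁻¹ * t s)) := by
      unfold E
      rw [smul_mul_assoc, smul_mul_assoc, smul_mul_assoc, mul_smul_comm, smul_mul_assoc, smul_smul, Finset.sum_mul,
        Finset.sum_mul, Finset.sum_mul]
      congr 1
      refine Finset.sum_congr rfl fun x _ => ?_
      rw [Finset.mul_sum, Finset.sum_mul]
      refine Finset.sum_congr rfl fun y _ => ?_
      rw [R.map_mul (u x * w 1 * u y), R.map_mul (u x * w 1), R.map_mul (u x), smul_mul_assoc, mul_smul_comm,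
        smul_mul_assoc, smul_mul_assoc, smul_mul_assoc, smul_smul, mul_comm (ψ (-(b * y)))]
    rw [e1, map_smul, smul_eq_mul, map_sum]
    have e2 : (Fintype.card K : k) * (Fintype.card K : k) * ((Fintype.card K : k)⁻¹ * (Fintype.card K : k)⁻¹) = 1 := by
      field_simp
    rw [← mul_assoc, e2, one_mul]
    refine Finset.sum_congr rfl fun x _ => ?_
    rw [map_sum]
    refine Finset.sum_congr rfl fun y _ => ?_
    rw [map_smul, smul_eq_mul, mul_assoc]
  have h3 : ∀ x : K, ∑ y, ψ (-(a * x)) * (ψ (-(b * y)) *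
      LinearMap.trace k V (R (u x * w 1 * u y * ((w 1)⁻¹ * t s)))) =
      gs ψ * (eta k b * eta k (s : K)) * (eta k x * ψ (-(a * x) - b * (((s : K) - 1) / s) ^ 2 / x) -
      eta k x * ψ (-(a * x) - b * (((s : K) + 1) / s) ^ 2 / x)) +
      if x = 0 then (LinearMap.trace k V (R (t s)) - X R ((s : K) + ((s⁻¹ : Kˣ) : K))) else 0 := by
    intro x
    rw [← Finset.mul_sum]
    by_cases hx : x = 0
    · rw [hx, if_pos rfl, eta_zero, zero_mul, zero_mul, sub_self, mul_zero, mul_zero, zero_add, neg_zero,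
        AddChar.map_zero_eq_one, one_mul]
      have e1 : ∀ y : K, ψ (-(b * y)) * LinearMap.trace k V (R (u 0 * w 1 * u y * ((w 1)⁻¹ * t s))) =
          ψ (y * (-b)) * X R ((s : K) + ((s⁻¹ : Kˣ) : K)) +
          if y = 0 then (LinearMap.trace k V (R (t s)) - X R ((s : K) + ((s⁻¹ : Kˣ) : K))) else 0 := by
        intro y
        rw [tr_G R hψ hK hspan hall, zero_mul, sub_zero, one_mul]
        have e2 : -(b * y) = y * (-b) := by ring
        rw [e2]
        by_cases hy : y = 0
        · rw [if_pos ⟨rfl, hy⟩, if_pos hy, hy, zero_mul, AddChar.map_zero_eq_one]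
          ring
        · rw [if_neg fun h => hy h.2, if_neg hy]
          ring
      rw [Finset.sum_congr rfl fun y _ => e1 y, Finset.sum_add_distrib, ← Finset.sum_mul,
        AddChar.sum_mulShift _ hψ, if_neg (neg_ne_zero.2 hb), Nat.cast_zero, zero_mul, zero_add,
        Finset.sum_ite_eq' Finset.univ (0 : K), if_pos (Finset.mem_univ _)]
    · rw [if_neg hx, add_zero]
      have e1 : ∀ y : K, LinearMap.trace k V (R (u x * w 1 * u y * ((w 1)⁻¹ * t s))) =
          X R ((1 - x * y) * s + ((s⁻¹ : Kˣ) : K)) := by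
        intro y
        rw [tr_G R hψ hK hspan hall, if_neg fun h => hx h.1, add_zero]
      rw [Finset.sum_congr rfl fun y _ => by rw [e1 y]]
      -- substitution `τ = (1 - x y) s + s⁻¹`
      have hsx : (s : K) * x ≠ 0 := mul_ne_zero hs hx
      let f : K ≃ K := (Equiv.subLeft ((s : K) + (s : K)⁻¹)).trans (Equiv.divRight₀ ((s : K) * x) hsx)
      have hf : ∀ τ, f τ = ((s : K) + (s : K)⁻¹ - τ) / ((s : K) * x) := fun τ => rfl
      rw [← Equiv.sum_comp f (fun y : K => ψ (-(b * y)) * X R ((1 - x * y) * s + ((s⁻¹ : Kˣ) : K)))]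
      have e3 : ∀ τ : K, ψ (-(b * f τ)) * X R ((1 - x * f τ) * s + ((s⁻¹ : Kˣ) : K)) =
          ψ (-(b * ((s : K) + (s : K)⁻¹) / ((s : K) * x))) * (ψ (-((-(b / ((s : K) * x))) * τ)) * X R τ) := by
        intro τ
        have e4 : (1 - x * f τ) * s + ((s⁻¹ : Kˣ) : K) = τ := by
          rw [hf, Units.val_inv_eq_inv_val]
          field_simp
          ring
        rw [e4, ← mul_assoc, ← AddChar.map_add_eq_mul, hf]
        congr 2
        field_simp
        ring
      have e5 := J_eq R (ψ := ψ) (-(b / ((s : K) * x)))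
      have e6 : ∑ τ, ψ (-((-(b / ((s : K) * x))) * τ)) * X R τ =
          (Fintype.card K : k) * J R ψ (-(b / ((s : K) * x))) := by
        rw [e5, ← mul_assoc, mul_inv_cancel₀ hK, one_mul]
      rw [Finset.sum_congr rfl fun τ _ => e3 τ, ← Finset.mul_sum, e6, J_sign R hK hX h2, neg_neg,
        eta_div hsx, eta_mul]
      have e7 : ψ (-(a * x)) * (ψ (-(b * ((s : K) + (s : K)⁻¹) / ((s : K) * x))) * ψ (-(2 * -(b / ((s : K) * x))))) =
          ψ (-(a * x) - b * (((s : K) - 1) / s) ^ 2 / x) := by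
        rw [← AddChar.map_add_eq_mul, ← AddChar.map_add_eq_mul]
        congr 1
        field_simp
        ring
      have e8 : ψ (-(a * x)) * (ψ (-(b * ((s : K) + (s : K)⁻¹) / ((s : K) * x))) * ψ (2 * -(b / ((s : K) * x)))) =
          ψ (-(a * x) - b * (((s : K) + 1) / s) ^ 2 / x) := by
        rw [← AddChar.map_add_eq_mul, ← AddChar.map_add_eq_mul]
        congr 1
        field_simp
        ring
      rw [← e7, ← e8]
      ring
  rw [h1, Finset.sum_congr rfl fun x _ => h3 x, Finset.sum_add_distrib, ← Finset.mul_sum, Finset.sum_sub_distrib,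
    Finset.sum_ite_eq' Finset.univ (0 : K), if_pos (Finset.mem_univ _)]

theorem not_isSquare_mul {a b c : K} (h : ¬ IsSquare (a * b)) (hc : c ≠ 0) : ¬ IsSquare (a * (b * c ^ 2)) := by
  rintro ⟨r, hr⟩
  apply h
  refine ⟨r / c, ?_⟩
  field_simp
  linear_combination hr

include hψ hK in
theorem tr_EwEw_eq_zero (hspan : Submodule.span k (Set.range R) = ⊤)
    (hall : ∀ b : K, b ≠ 0 → finrank k (LinearMap.range (E R ψ b)) = 1) (h0 : E R ψ 0 = 0) {σ : K} {ε : k}
    (C : Cusp R σ (-1) ε) (h2 : (2 : K) ≠ 0) {a b : K} (hab : ¬ IsSquare (a * b)) (s : Kˣ) :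
    LinearMap.trace k V (E R ψ a * R (w 1) * E R ψ b * R ((w 1)⁻¹ * t s)) = 0 := by
  have hb : b ≠ 0 := by
    rintro rfl
    exact hab ⟨0, by ring⟩
  have hX := X_sign R hψ hK hspan hall h0 C h2
  obtain ⟨hX2, hX2'⟩ := X_pm R hψ hK hspan hall h0 C
  have hfin := finrank_cast R hψ hK hall h0
  have hG := gs_sq (k := k) h2 hψ
  have hηab : eta k (-a) * eta k b = - eta k (-1 : K) := by
    have e : (-a : K) = (-1) * a := by ring
    rw [e, eta_mul, mul_assoc, ← eta_mul, eta_of_not_isSquare hab]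
    ring
  have hη1 : eta k (-1 : K) * eta k (-1 : K) = 1 := eta_mul_self (by norm_num)
  apply mul_left_cancel₀ (mul_ne_zero hK hK)
  rw [tr_EwEw R hψ hK hspan hall h2 hX a hb s, mul_zero]
  have hs := s.ne_zero
  by_cases hs2 : s ^ 2 = 1
  · have h3 : (s : K) * s = 1 := by
      rw [← Units.val_mul, ← sq, hs2, Units.val_one]
    have h4 : s = 1 ∨ s = -1 := by
      rcases mul_self_eq_one_iff.1 h3 with h4 | h4
      · exact Or.inl (Units.ext h4)
      · exact Or.inr (Units.ext h4)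
    rcases h4 with rfl | rfl
    · have e1 : ∑ x, eta k x * ψ (-(a * x) - b * ((((1 : Kˣ) : K) - 1) / ((1 : Kˣ) : K)) ^ 2 / x) =
          eta k (-a) * gs ψ := by
        rw [← gs_mul h2]
        refine Finset.sum_congr rfl fun x _ => ?_
        congr 2
        rw [Units.val_one]
        simp
      have e2 : ∑ x, eta k x * ψ (-(a * x) - b * ((((1 : Kˣ) : K) + 1) / ((1 : Kˣ) : K)) ^ 2 / x) = 0 := by
        apply salie
        apply not_isSquare_mul hab
        rw [Units.val_one]
        norm_num only [_root_.ne_eq]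
        exact h2
      have e3 : ((1 : Kˣ) : K) + (((1 : Kˣ)⁻¹ : Kˣ) : K) = 2 := by
        rw [inv_one, Units.val_one]
        norm_num
      rw [e1, e2, e3, t_one, R.map_one, LinearMap.trace_one, hX2, hfin, Units.val_one, eta_one]
      linear_combination eta k b * eta k (-a) * hG + eta k (-1 : K) * (Fintype.card K : k) * hηab -
        (Fintype.card K : k) * hη1
    · have e1 : ∑ x, eta k x * ψ (-(a * x) - b * ((((-1 : Kˣ) : K) + 1) / ((-1 : Kˣ) : K)) ^ 2 / x) =
          eta k (-a) * gs ψ := by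
        rw [← gs_mul h2]
        refine Finset.sum_congr rfl fun x _ => ?_
        congr 2
        rw [Units.val_neg, Units.val_one]
        simp
      have e2 : ∑ x, eta k x * ψ (-(a * x) - b * ((((-1 : Kˣ) : K) - 1) / ((-1 : Kˣ) : K)) ^ 2 / x) = 0 := by
        apply salie
        apply not_isSquare_mul hab
        rw [Units.val_neg, Units.val_one]
        norm_num only [_root_.ne_eq]
        exact h2
      have e3 : ((-1 : Kˣ) : K) + (((-1 : Kˣ)⁻¹ : Kˣ) : K) = -2 := by
        rw [inv_neg, inv_one, Units.val_neg, Units.val_one]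
        norm_num
      have e4 : ε = - eta k (-1 : K) := by
        have h5 := hX2' h2
        have e : (-2 : K) - 2 = (-1) * 2 ^ 2 := by norm_num
        rw [hX, neg_add_cancel, eta_zero, e, eta_mul, eta_sq h2] at h5
        linear_combination h5
      rw [e1, e2, e3, C.central, map_smul, smul_eq_mul, LinearMap.trace_one, hX2' h2, hfin, Units.val_neg,
        Units.val_one, e4]
      linear_combination -eta k b * eta k (-a) * eta k (-1 : K) * hG - (Fintype.card K : k) * hηab -
        (Fintype.card K : k) * eta k b * eta k (-a) * hη1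
  · have hs1 : (s : K) - 1 ≠ 0 := by
      intro h
      apply hs2
      have : s = 1 := Units.ext (by rw [Units.val_one]; linear_combination h)
      rw [this, one_pow]
    have hs1' : (s : K) + 1 ≠ 0 := by
      intro h
      apply hs2
      have : s = -1 := Units.ext (by rw [Units.val_neg, Units.val_one]; linear_combination h)
      rw [this, neg_one_sq]
    have e3 : X R ((s : K) + ((s⁻¹ : Kˣ) : K)) = LinearMap.trace k V (R (t s)) := by
      rw [trace_eq_X R (t s), mt_t]
      rw [mt_t, Units.val_inv_eq_inv_val]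
      intro h
      have h5 : ((s : K) - 1) ^ 2 * ((s : K) + 1) ^ 2 = 0 := by
        field_simp at h
        linear_combination h
      rcases mul_eq_zero.1 h5 with h6 | h6
      · exact hs1 (pow_eq_zero_iff two_ne_zero |>.1 h6)
      · exact hs1' (pow_eq_zero_iff two_ne_zero |>.1 h6)
    rw [e3, sub_self, add_zero, salie ψ (not_isSquare_mul hab (div_ne_zero hs1 hs)),
      salie ψ (not_isSquare_mul hab (div_ne_zero hs1' hs)), sub_self, mul_zero]

include hψ hK in
/-- **`θ ≠ -1`.** -/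
theorem not_sign (hspan : Submodule.span k (Set.range R) = ⊤)
    (hall : ∀ b : K, b ≠ 0 → finrank k (LinearMap.range (E R ψ b)) = 1) (h0 : E R ψ 0 = 0) {σ : K} {ε : k}
    (C : Cusp R σ (-1) ε) (h2 : (2 : K) ≠ 0) : False := by
  have hE : ∀ b : K, b ≠ 0 → E R ψ b ≠ 0 := by
    intro b hb h
    have h1 := hall b hb
    rw [h, LinearMap.range_zero, finrank_bot] at h1
    exact zero_ne_one h1
  have hinv : ∀ s : Kˣ, R (t s) * R (t s⁻¹) = 1 := by
    intro s
    rw [← R.map_mul, ← t_mul, mul_inv_cancel, t_one, R.map_one]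
  have hinv' : ∀ s : Kˣ, R (t s⁻¹) * R (t s) = 1 := by
    intro s
    rw [← R.map_mul, ← t_mul, inv_mul_cancel, t_one, R.map_one]
  have hwinv : (w (1 : Kˣ))⁻¹ = t (-1) * w 1 := by
    rw [inv_eq_iff_mul_eq_one, mul_eq_one_iff_eq_inv, inv_eq_of_mul_eq_one_right]
    have h3 := w_mul_w (1 : Kˣ) 1
    rw [div_one] at h3
    rw [mul_assoc, h3, ← t_mul, neg_mul_neg, one_mul, t_one]
  have hε : ε ≠ 0 := by
    rcases C.eps with h | h <;> rw [h]
    · exact one_ne_zero
    · exact neg_ne_zero.2 one_ne_zero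
  obtain ⟨n, hn⟩ : ∃ n : K, ¬ IsSquare n := by
    obtain ⟨n, hn⟩ := quadraticChar_exists_neg_one (F := K) (ringChar_ne_two h2)
    exact ⟨n, quadraticChar_neg_one_iff_not_isSquare.1 hn⟩
  have hn0 : n ≠ 0 := by
    rintro rfl
    exact hn ⟨0, by ring⟩
  -- one non-zero coefficient kills the opposite block
  have key : ∀ a b : K, ¬ IsSquare (a * b) → E R ψ a * R (w 1) * E R ψ b ≠ 0 →
      ∀ s : Kˣ, E R ψ b * R (w 1) * E R ψ (a / (s : K) ^ 2) = 0 := by
    intro a b hab hne s
    have ha0 : a ≠ 0 := by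
      rintro rfl
      exact hab ⟨0, by ring⟩
    have hb0 : b ≠ 0 := by
      rintro rfl
      exact hab ⟨0, by ring⟩
    have h3 : E R ψ a * (R (w 1) * E R ψ b * R ((w 1)⁻¹ * t s)) * E R ψ a = 0 := by
      rw [E_mul_mul_E R (hall a ha0)]
      have h4 := tr_EwEw_eq_zero R hψ hK hspan hall h0 C h2 hab s
      rw [← mul_assoc, ← mul_assoc, h4, zero_smul]
    -- `E_b W'T E_a = 0`
    have h4 : E R ψ b * R ((w 1)⁻¹ * t s) * E R ψ a = 0 := by
      obtain ⟨v, hv, hv0⟩ := Submodule.exists_mem_ne_zero_of_ne_bot (p := LinearMap.range (E R ψ b)) (by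
        intro h
        have h1 := hall b hb0
        rw [h, finrank_bot] at h1
        exact zero_ne_one h1)
      have hgen : ∀ x, ∃ c : k, E R ψ b x = c • v := by
        intro x
        obtain ⟨c, hc⟩ := (finrank_eq_one_iff_of_nonzero' (⟨v, hv⟩ : LinearMap.range (E R ψ b))
          (fun h => hv0 (congrArg Subtype.val h))).1 (hall b hb0) ⟨E R ψ b x, LinearMap.mem_range_self _ _⟩
        exact ⟨c, (congrArg Subtype.val hc).symm⟩
      have hvv : E R ψ b v = v := by
        obtain ⟨x, rfl⟩ := hv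
        rw [← Module.End.mul_apply, E_mul_self R hψ hK]
      have hPv : (E R ψ a * R (w 1)) v ≠ 0 := by
        intro h
        apply hne
        ext x
        obtain ⟨c, hc⟩ := hgen x
        rw [Module.End.mul_apply, hc, map_smul, h, smul_zero, LinearMap.zero_apply]
      ext x
      obtain ⟨c, hc⟩ := hgen ((R ((w 1)⁻¹ * t s) * E R ψ a) x)
      have h5 := congrArg (fun A : Module.End k V => A x) h3
      have e : E R ψ a * (R (w 1) * E R ψ b * R ((w 1)⁻¹ * t s)) * E R ψ a =
          (E R ψ a * R (w 1)) * (E R ψ b * (R ((w 1)⁻¹ * t s) * E R ψ a)) := by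
        simp only [mul_assoc]
      rw [e] at h5
      simp only [Module.End.mul_apply (E R ψ a * R (w 1)), Module.End.mul_apply (E R ψ b), hc,
        LinearMap.zero_apply] at h5
      rw [map_smul] at h5
      have h6 := (smul_eq_zero.1 h5).resolve_right hPv
      rw [mul_assoc, Module.End.mul_apply, hc, h6, zero_smul, LinearMap.zero_apply]
    rw [R.map_mul, hwinv, R.map_mul, C.central, smul_mul_assoc, one_mul, smul_mul_assoc, mul_smul_comm,
      smul_mul_assoc] at h4
    have h5 := (smul_eq_zero.1 h4).resolve_left hε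
    rw [mul_assoc, mul_assoc, t_mul_E, ← mul_assoc (R (w 1)), ← mul_assoc] at h5
    have h6 := congrArg (fun A => A * R (t s⁻¹)) h5
    simp only [zero_mul] at h6
    rw [mul_assoc, hinv, mul_one, ← mul_assoc] at h6
    exact h6
  -- moving the first weight
  have move : ∀ (b a : K) (r : Kˣ), (∀ s : Kˣ, E R ψ b * R (w 1) * E R ψ (a / (s : K) ^ 2) = 0) →
      ∀ s : Kˣ, E R ψ (b * (r : K) ^ 2) * R (w 1) * E R ψ (a / (s : K) ^ 2) = 0 := by
    intro b a r h s
    have hr : (r : K) ^ 2 ≠ 0 := pow_ne_zero 2 r.ne_zero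
    have h3 : R (t r) * E R ψ (b * (r : K) ^ 2) = E R ψ b * R (t r) := by
      rw [t_mul_E, mul_div_cancel_right₀ _ hr]
    have h4 : R (t r) * R (w 1) = R (w 1) * R (t r⁻¹) := by
      rw [← R.map_mul, ← R.map_mul]
      congr 1
      apply Subtype.ext
      ext i j
      (revert i j; simp [_root_.Fin.forall_fin_succ])
    have h5 : R (t r) * (E R ψ (b * (r : K) ^ 2) * R (w 1) * E R ψ (a / (s : K) ^ 2)) = 0 := by
      rw [← mul_assoc, ← mul_assoc, h3, mul_assoc (E R ψ b), h4, mul_assoc, mul_assoc, t_mul_E]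
      have e : a / (s : K) ^ 2 / ((r⁻¹ : Kˣ) : K) ^ 2 = a / ((s * r⁻¹ : Kˣ) : K) ^ 2 := by
        rw [div_div, Units.val_mul, mul_pow]
      rw [e, ← mul_assoc, ← mul_assoc, h, zero_mul]
    have h6 := congrArg (fun A => R (t r⁻¹) * A) h5
    simp only [mul_zero] at h6
    rwa [← mul_assoc, hinv', one_mul] at h6
  have hsq : ∀ s : Kˣ, n ≠ 1 / (s : K) ^ 2 := by
    intro s h
    apply hn
    rw [h]
    exact ⟨1 / s, by rw [sq, div_mul_div_comm, one_mul]⟩
  have hsq' : ∀ s : Kˣ, (1 : K) ≠ n / (s : K) ^ 2 := by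
    intro s h
    apply hn
    have hs : (s : K) ^ 2 ≠ 0 := pow_ne_zero 2 s.ne_zero
    rw [eq_div_iff hs, one_mul] at h
    exact ⟨s, by rw [← h, sq]⟩
  by_cases hcase : ∀ s : Kˣ, E R ψ n * R (w 1) * E R ψ (1 / (s : K) ^ 2) = 0
  · exact no_block R hψ hK hspan (hE n hn0) (hE 1 one_ne_zero) hsq hcase
  · push Not at hcase
    obtain ⟨s, hs⟩ := hcase
    have hs0 : (s : K) ≠ 0 := s.ne_zero
    have h3 : ¬ IsSquare (n * (1 / (s : K) ^ 2)) := by
      rintro ⟨r, hr⟩
      apply hn
      refine ⟨r * s, ?_⟩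
      field_simp at hr
      linear_combination hr
    have h4 := key n (1 / (s : K) ^ 2) h3 hs
    have h5 := move _ _ s h4
    have e : 1 / (s : K) ^ 2 * (s : K) ^ 2 = 1 := by field_simp
    rw [e] at h5
    exact no_block R hψ hK hspan (hE 1 one_ne_zero) (hE n hn0) hsq' h5

end Sign

end Cfsg.Agent.H931.L2T
end

-- part: H931/L2CuspMain
section
/-!
# Representations of `SL₂(q)` of degree `q - 1` in cross characteristic: the order of `θ` (helper931)

`cusp_order`: for `ρ : SL₂(K) →* GL ι F` absolutely irreducible, `card ι + 1 = |K|`, `char F = p ∤ |K|`, there is `d ∣ q + 1`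
(the order of the root of unity `θ`) prime to `p`, `d ≠ 2`, `d = 1` only if `p ∣ q + 1` is odd, such that the traces are
fixed by `x ↦ x^(p^e)` iff `p^e ≡ ± 1 (mod d)`; `ρ(-1) = 1` iff `d ∣ (q+1)/2` (`p`, `q` odd).
-/

set_option autoImplicit false
set_option linter.unusedSectionVars false

namespace Cfsg.Agent.H931.L2T

open Matrix Module Cfsg Cfsg.Geo Cfsg.Agent.H464.Sl2 L2N Cfsg.Agent.H915.LD

section One

variable {K : Type*} [Field K] [Fintype K] {k : Type*} [Field k] {V : Type*} [AddCommGroup V]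
  [Module k V] [FiniteDimensional k V] (R : _root_.Matrix.SpecialLinearGroup (Fin 2) K →* Module.End k V) {ψ : AddChar K k}
  (hψ : ψ.IsPrimitive) (hK : (Fintype.card K : k) ≠ 0)

include hψ hK in
/-- Split traces vanish. -/
theorem X_split (h0 : E R ψ 0 = 0) {τ a : K} (ha : a * a - τ * a + 1 = 0) (ht : τ ^ 2 - 4 ≠ 0) : X R τ = 0 := by
  have ha0 : a ≠ 0 := by
    rintro rfl
    simp at ha
  have h5 : τ = a + a⁻¹ := by
    field_simp
    linear_combination -ha
  have h6 : mt (t (Units.mk0 a ha0)) = τ := by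
    rw [mt_t, h5]
    simp
  have h7 : (Units.mk0 a ha0) ^ 2 ≠ 1 := by
    intro h
    have h8 : a ^ 2 = 1 := by
      have := congrArg Units.val h
      simpa only [_root_.sq_eq_one_iff, _root_.Units.val_pow_eq_pow_val, _root_.Units.val_mk0, _root_.Units.val_one] using this
    apply ht
    rw [h5]
    field_simp
    linear_combination (a ^ 2 - 1) * h8
  have h8 := trace_eq_X R (t (Units.mk0 a ha0)) (by rw [h6]; exact ht)
  rw [h6, tr_t_zero R hψ hK h0 h7] at h8
  exact h8.symm

include hψ hK in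
/-- **`θ = 1` only if `q + 1 = 0` in `k`.** -/
theorem theta_one (hspan : Submodule.span k (Set.range R) = ⊤)
    (hall : ∀ b : K, b ≠ 0 → finrank k (LinearMap.range (E R ψ b)) = 1) (h0 : E R ψ 0 = 0) {σ : K} {ε : k}
    (C : Cusp R σ 1 ε) : ((Fintype.card K + 1 : ℕ) : k) = 0 := by
  classical
  obtain ⟨hX2, hX2'⟩ := X_pm R hψ hK hspan hall h0 C
  have h1 : ∀ ρ : K, X R ρ = ((Finset.univ.filter fun x : K => x * x - ρ * x + 1 = 0).card : k) - 2 := by
    intro ρ
    by_cases ht : ρ ^ 2 - 4 = 0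
    · have h3 : (ρ - 2) * (ρ + 2) = 0 := by linear_combination ht
      have h4 : ∀ e : K, e * e = 1 → (Finset.univ.filter fun x : K => x * x - (2 * e) * x + 1 = 0) = {e} := by
        intro e he
        ext x
        rw [Finset.mem_filter, Finset.mem_singleton]
        constructor
        · rintro ⟨-, hx⟩
          have h5 : (x - e) ^ 2 = 0 := by linear_combination hx + he
          exact sub_eq_zero.1 (pow_eq_zero_iff two_ne_zero |>.1 h5)
        · rintro rfl
          exact ⟨Finset.mem_univ _, by linear_combination -he⟩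
      by_cases h2 : ρ = 2
      · have h5 := h4 1 (one_mul 1)
        rw [mul_one] at h5
        rw [h2, h5, Finset.card_singleton, hX2]
        push_cast
        ring
      · have h5 : ρ = 2 * (-1) := by
          rcases mul_eq_zero.1 h3 with h | h
          · exact absurd (by linear_combination h) h2
          · linear_combination h
        have hK2 : (2 : K) ≠ 0 := by
          intro h
          apply h2
          rw [h5, h]
          ring
        have hodd : Fintype.card K % 2 = 1 := FiniteField.odd_card_of_char_ne_two (ringChar_ne_two hK2)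
        have h6 := C.half hK2 ((Fintype.card K + 1) / 2) (by omega)
        rw [one_pow] at h6
        rw [h5, h4 (-1) (by norm_num), Finset.card_singleton]
        have h7 := hX2' hK2
        rw [mul_neg, mul_one, h7, ← h6]
        push_cast
        ring
    · by_cases hs : ∀ x : K, x * x - ρ * x + 1 ≠ 0
      · obtain ⟨m, hm⟩ := C.surj ρ hs
        have h8 := C.tr m (by rw [← hm]; exact ht)
        rw [← hm, one_pow, inv_one, one_pow] at h8
        rw [h8, Finset.filter_false_of_mem fun x _ => hs x, Finset.card_empty]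
        push_cast
        ring
      · push Not at hs
        obtain ⟨a, ha⟩ := hs
        rw [X_split R hψ hK h0 ha ht]
        have ha0 : a ≠ 0 := by
          rintro rfl
          simp at ha
        have h5 : ρ = a + a⁻¹ := by
          field_simp
          linear_combination -ha
        have h6 : (Finset.univ.filter fun x : K => x * x - ρ * x + 1 = 0) = {a, a⁻¹} := by
          have hinv : a * a⁻¹ = 1 := mul_inv_cancel₀ ha0
          ext x
          rw [Finset.mem_filter, Finset.mem_insert, Finset.mem_singleton]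
          constructor
          · rintro ⟨-, hx⟩
            have h7 : (x - a) * (x - a⁻¹) = 0 := by
              rw [h5] at hx
              linear_combination hx + hinv
            rcases mul_eq_zero.1 h7 with h | h
            · exact Or.inl (sub_eq_zero.1 h)
            · exact Or.inr (sub_eq_zero.1 h)
          · intro h
            refine ⟨Finset.mem_univ _, ?_⟩
            rw [h5]
            rcases h with rfl | rfl
            · linear_combination -hinv
            · linear_combination -hinv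
        rw [h6, Finset.card_pair]
        · push_cast
          ring
        · intro h
          apply ht
          have h7 : a * a = 1 := by
            nth_rewrite 2 [h]
            exact mul_inv_cancel₀ ha0
          rw [h5, ← h]
          linear_combination 4 * h7
  have h2 := sum_X R hK h0
  rw [Finset.sum_congr rfl fun ρ _ => h1 ρ, Finset.sum_sub_distrib, ← Nat.cast_sum] at h2
  have h3 : ∑ ρ : K, (Finset.univ.filter fun x : K => x * x - ρ * x + 1 = 0).card + 1 = Fintype.card K := by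
    have h4 : ∀ ρ : K, (Finset.univ.filter fun x : K => x * x - ρ * x + 1 = 0).card =
        ∑ x : K, if x * x - ρ * x + 1 = 0 then 1 else 0 := by
      intro ρ
      rw [Finset.card_filter]
    rw [Finset.sum_congr rfl fun ρ _ => h4 ρ, Finset.sum_comm]
    have h5 : ∀ x : K, (∑ ρ : K, if x * x - ρ * x + 1 = 0 then 1 else 0) = if x = 0 then 0 else 1 := by
      intro x
      by_cases hx : x = 0
      · rw [if_pos hx, hx]
        simp
      · rw [if_neg hx, Finset.sum_eq_single (x + x⁻¹)]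
        · rw [if_pos]
          field_simp
          ring
        · intro ρ _ hne
          rw [if_neg]
          intro h
          apply hne
          field_simp
          linear_combination -h
        · intro h
          exact absurd (Finset.mem_univ _) h
    rw [Finset.sum_congr rfl fun x _ => h5 x, ← Finset.add_sum_erase _ _ (Finset.mem_univ (0 : K)), if_pos rfl,
      zero_add, Finset.sum_congr rfl fun x hx => if_neg (Finset.ne_of_mem_erase hx), Finset.sum_const,
      Finset.card_erase_of_mem (Finset.mem_univ _), Finset.card_univ, smul_eq_mul, mul_one]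
    have : 0 < Fintype.card K := Fintype.card_pos
    omega
  have h4 : ((∑ ρ : K, (Finset.univ.filter fun x : K => x * x - ρ * x + 1 = 0).card : ℕ) : k) =
      (Fintype.card K : k) - 1 := by
    rw [← h3, Nat.cast_add, Nat.cast_one]
    ring
  rw [h4, Finset.sum_const, Finset.card_univ, nsmul_eq_mul] at h2
  push_cast
  linear_combination -h2

end One

section Order

/-- `x ↦ x^Q` fixes `x + x⁻¹` iff `Q = ± 1` modulo the order of `x`. -/
theorem pow_add_inv_iff {k : Type*} [Field k] (p : ℕ) [hp : Fact p.Prime] [CharP k p] (e : ℕ) {x : k} (hx : x ≠ 0) :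
    (x + x⁻¹) ^ p ^ e = x + x⁻¹ ↔ (orderOf x ∣ p ^ e - 1 ∨ orderOf x ∣ p ^ e + 1) := by
  have h1 : (x + x⁻¹) ^ p ^ e = x ^ p ^ e + (x ^ p ^ e)⁻¹ := by
    rw [add_pow_char_pow, inv_pow]
  have hy : x ^ p ^ e ≠ 0 := pow_ne_zero _ hx
  have h2 : (x + x⁻¹) ^ p ^ e = x + x⁻¹ ↔ (x ^ p ^ e - x) * (x ^ p ^ e - x⁻¹) = 0 := by
    rw [h1]
    have hyi : x ^ p ^ e * (x ^ p ^ e)⁻¹ = 1 := mul_inv_cancel₀ hy
    have hxi : x * x⁻¹ = 1 := mul_inv_cancel₀ hx
    constructor
    · intro h
      linear_combination x ^ p ^ e * h + hxi - hyi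
    · intro h
      apply mul_left_cancel₀ hy
      linear_combination h + hyi - hxi
  rw [h2, mul_eq_zero, sub_eq_zero, sub_eq_zero]
  have hpe : 0 < p ^ e := pow_pos hp.out.pos e
  have h3 : x ^ p ^ e = x ↔ orderOf x ∣ p ^ e - 1 := by
    rw [orderOf_dvd_iff_pow_eq_one]
    constructor
    · intro h
      apply mul_right_cancel₀ hx
      rw [← pow_succ, Nat.sub_add_cancel hpe, h, one_mul]
    · intro h
      rw [← Nat.sub_add_cancel hpe, pow_succ, h, one_mul]
  have h4 : x ^ p ^ e = x⁻¹ ↔ orderOf x ∣ p ^ e + 1 := by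
    rw [orderOf_dvd_iff_pow_eq_one, pow_succ]
    constructor
    · intro h
      rw [h, inv_mul_cancel₀ hx]
    · intro h
      exact eq_inv_of_mul_eq_one_left h
  rw [h3, h4]

/-- The order of a root of unity is prime to the characteristic. -/
theorem not_dvd_orderOf {k : Type*} [Field k] (p : ℕ) [hp : Fact p.Prime] [CharP k p] {x : k} {N : ℕ} (hN : 0 < N)
    (hx : x ^ N = 1) : ¬ p ∣ orderOf x := by
  rintro ⟨m, hm⟩
  have h0 : 0 < orderOf x := orderOf_pos_iff.2 (isOfFinOrder_iff_pow_eq_one.2 ⟨N, hN, hx⟩)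
  have h1 : (x ^ m) ^ p = 1 := by
    rw [← pow_mul, mul_comm, ← hm, pow_orderOf_eq_one]
  have h2 : (x ^ m - 1) ^ p = 0 := by
    rw [sub_pow_char, h1, one_pow, sub_self]
  have h3 : x ^ m = 1 := sub_eq_zero.1 (pow_eq_zero_iff hp.out.ne_zero |>.1 h2)
  have h4 := orderOf_dvd_of_pow_eq_one h3
  have hm0 : 0 < m := by
    rcases Nat.eq_zero_or_pos m with rfl | h
    · omega
    · exact h
  have h5 := Nat.le_of_dvd hm0 h4
  have h6 := hp.out.two_le
  nlinarith only [hm, hm0, h5, h6]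

end Order

section Main

variable {K : Type*} [Field K] [Fintype K] {k : Type*} [Field k] {V : Type*} [AddCommGroup V]
  [Module k V] [FiniteDimensional k V] (R : _root_.Matrix.SpecialLinearGroup (Fin 2) K →* Module.End k V)

/-- The traces, over an algebraically closed field. -/
theorem cusp_traces [IsAlgClosed k] (hK : (Fintype.card K : k) ≠ 0) (h4 : 4 ≤ Fintype.card K)
    (hspan : Submodule.span k (Set.range R) = ⊤) (hR : R ≠ 1) (hn : finrank k V + 1 = Fintype.card K) :
    ∃ θ ε : k, θ ^ (Fintype.card K + 1) = 1 ∧ (θ = 1 → ((Fintype.card K + 1 : ℕ) : k) = 0) ∧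
      ((2 : K) ≠ 0 → θ ≠ -1) ∧ R (t (-1)) = ε • 1 ∧ (ε = 1 ∨ ε = -1) ∧
      ((2 : K) ≠ 0 → ∀ m : ℕ, 2 * m = Fintype.card K + 1 → θ ^ m = ε) ∧
      (∀ g, (∃ z : ℤ, LinearMap.trace k V (R g) = z) ∨ ∃ m : ℕ, LinearMap.trace k V (R g) = -(θ ^ m + θ⁻¹ ^ m)) ∧
      ∃ g, LinearMap.trace k V (R g) = -(θ + θ⁻¹) := by
  classical
  obtain ⟨ψ, hψ⟩ := exists_prim (K := K) hK
  have hall : ∀ b : K, b ≠ 0 → finrank k (LinearMap.range (E R ψ b)) = 1 := by
    rcases dim_cases R hψ hK hspan hR with ⟨h, -⟩ | ⟨-, h⟩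
    · exact h
    · exfalso
      omega
  have h0 : E R ψ 0 = 0 := by
    have h1 := finrank_eq R hψ hK
    rw [Finset.sum_congr rfl fun b hb => hall b (Finset.ne_of_mem_erase hb), Finset.sum_const,
      Finset.card_erase_of_mem (Finset.mem_univ _), Finset.card_univ, smul_eq_mul, mul_one] at h1
    have h2 : finrank k (LinearMap.range (E R ψ 0)) = 0 := by omega
    rw [Submodule.finrank_eq_zero, LinearMap.range_eq_bot] at h2
    exact h2
  obtain ⟨σ, θ, ε, C⟩ := exists_theta R hψ hK hspan hall h0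
  refine ⟨θ, ε, C.pow_card, ?_, ?_, C.central, C.eps, C.half, ?_, ?_⟩
  · rintro rfl
    exact theta_one R hψ hK hspan hall h0 C
  · rintro h2 rfl
    exact not_sign R hψ hK hspan hall h0 C h2
  · intro g
    by_cases ht : mt g ^ 2 - 4 = 0
    · exact Or.inl (trace_int_of_pm R hψ hK hall C.eps C.central g ht)
    · rw [trace_eq_X R g ht]
      by_cases hs : ∀ x : K, x * x - mt g * x + 1 ≠ 0
      · obtain ⟨m, hm⟩ := C.surj _ hs
        right
        refine ⟨m, ?_⟩
        have h8 := C.tr m (by rw [← hm]; exact ht)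
        rwa [← hm] at h8
      · push Not at hs
        obtain ⟨a, ha⟩ := hs
        left
        exact ⟨0, by rw [X_split R hψ hK h0 ha ht]; simp⟩
  · refine ⟨u σ * w 1, ?_⟩
    have h8 := C.tr 1 (by
      rw [T_one]
      intro h
      exact disc_ne C.nonsplit (by linear_combination -h))
    rw [T_one, pow_one, pow_one] at h8
    exact h8

end Main

section Final

variable {ι : Type} [Fintype ι] [DecidableEq ι] {F : Type*} [Field F] (p : ℕ) [hp : Fact p.Prime] [CharP F p]

/-- **The order of `θ`.** -/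
theorem cusp_order {K : Type*} [Field K] [Fintype K] (h4 : 4 ≤ Fintype.card K) (hpK : ¬ p ∣ Fintype.card K)
    (ρ : _root_.Matrix.SpecialLinearGroup (Fin 2) K →* GL ι F) (hρ : ρ ≠ 1) (habs : ActsAbsolutelyIrreducibly (matrixSet ρ.range))
    (hn : Fintype.card ι + 1 = Fintype.card K) :
    ∃ d : ℕ, d ∣ Fintype.card K + 1 ∧ ¬ p ∣ d ∧ d ≠ 2 ∧ (d = 1 → p ∣ Fintype.card K + 1 ∧ p ≠ 2) ∧
      (∀ e : ℕ, Fr ρ.range (p ^ e) ↔ (d ∣ p ^ e - 1 ∨ d ∣ p ^ e + 1)) ∧
      (p ≠ 2 → ∀ m : ℕ, 2 * m = Fintype.card K + 1 → (ρ (t (-1)) = 1 ↔ d ∣ m)) ∧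
      (ρ (t (-1)) = 1 ∨ (ρ (t (-1)) : Matrix ι ι F) = -1) := by
  classical
  have hKF : (Fintype.card K : F) ≠ 0 := fun h => hpK ((CharP.cast_eq_zero_iff F p _).1 h)
  let k := AlgebraicClosure F
  have : CharP k p := charP_of_injective_algebraMap (algebraMap F k).injective p
  have hK : (Fintype.card K : k) ≠ 0 := fun h => hpK ((CharP.cast_eq_zero_iff k p _).1 h)
  have hcard : 1 < Fintype.card K := Fintype.one_lt_card
  obtain ⟨θ, ε, h1, h2, h3, h5, h6, h7, h8, g₀, h9⟩ := cusp_traces (extI ρ k) hK h4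
    (span_extI ρ k (span_eq_topI ρ habs)) (extI_ne_one ρ k hρ) (by
      rw [Module.finrank_fintype_fun_eq_card]
      exact hn)
  have hθ0 : θ ≠ 0 := by
    rintro rfl
    rw [zero_pow (by omega)] at h1
    exact zero_ne_one h1
  have hK2 : ∀ m : ℕ, 2 * m = Fintype.card K + 1 → (2 : K) ≠ 0 := by
    intro m hm h
    have : CharP K 2 := CharTwo.of_one_ne_zero_of_two_eq_zero one_ne_zero h
    have h10 : (2 : ℕ) ∣ Fintype.card K := by
      rw [← CharP.cast_eq_zero_iff K 2]
      exact FiniteField.cast_card_eq_zero K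
    omega
  have hK2' : p = 2 → (2 : K) ≠ 0 := by
    rintro rfl
    exact hK2 ((Fintype.card K + 1) / 2) (by omega)
  have hε : (ε = 1 ↔ ρ (t (-1)) = 1) ∧ (ρ (t (-1)) = 1 ∨ (ρ (t (-1)) : Matrix ι ι F) = -1) := by
    have hne : Nonempty ι := by
      rw [← Fintype.card_pos_iff]
      omega
    have h10 : Matrix.toLin' ((ρ (t (-1)) : Matrix ι ι F).map (algebraMap F k)) = ε • (1 : Module.End k (ι → k)) := by
      rw [← extI_apply]
      exact h5
    have h11 : ((ρ (t (-1)) : Matrix ι ι F).map (algebraMap F k)) = ε • (1 : Matrix ι ι k) := by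
      apply Matrix.toLin'.injective
      rw [h10, map_smul, Matrix.toLin'_one]
      rfl
    have h12 : ∀ c : F, algebraMap F k c = ε → (ρ (t (-1)) : Matrix ι ι F) = c • 1 := by
      intro c hc
      ext i j
      apply (algebraMap F k).injective
      have h13 := congrFun (congrFun h11 i) j
      rw [Matrix.map_apply] at h13
      rw [h13, Matrix.smul_apply, Matrix.smul_apply, smul_eq_mul, smul_eq_mul, map_mul, hc]
      congr 1
      by_cases hij : i = j
      · rw [hij, Matrix.one_apply_eq, Matrix.one_apply_eq, map_one]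
      · rw [Matrix.one_apply_ne hij, Matrix.one_apply_ne hij, map_zero]
    constructor
    · constructor
      · intro h
        apply Units.ext
        rw [h12 1 (by rw [map_one, h]), one_smul, Units.val_one]
      · intro h
        obtain ⟨i⟩ := hne
        have h13 := congrFun (congrFun h11 i) i
        rw [h, Matrix.map_apply, Units.val_one, Matrix.one_apply_eq, map_one, Matrix.smul_apply,
          Matrix.one_apply_eq, smul_eq_mul, mul_one] at h13
        exact h13.symm
    · rcases h6 with h | h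
      · left
        apply Units.ext
        rw [h12 1 (by rw [map_one, h]), one_smul, Units.val_one]
      · right
        rw [h12 (-1) (by rw [map_neg, map_one, h]), neg_smul, one_smul]
  refine ⟨orderOf θ, orderOf_dvd_of_pow_eq_one h1, not_dvd_orderOf p (by omega) h1, ?_, ?_, ?_, ?_, hε.2⟩
  · intro h
    have h10 : θ * θ = 1 := by
      rw [← sq, ← h, pow_orderOf_eq_one]
    have h12 : θ ≠ 1 := by
      rintro rfl
      rw [orderOf_one] at h
      exact absurd h (by norm_num)
    have h11 := (mul_self_eq_one_iff.1 h10).resolve_left h12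
    have h13 : 2 ∣ Fintype.card K + 1 := by
      rw [← h]
      exact orderOf_dvd_of_pow_eq_one h1
    exact h3 (hK2 ((Fintype.card K + 1) / 2) (by omega)) h11
  · intro h
    rw [orderOf_eq_one_iff] at h
    refine ⟨(CharP.cast_eq_zero_iff k p _).1 (h2 h), ?_⟩
    intro hp2
    have h10 : (2 : k) = 0 := by
      have h11 := CharP.cast_eq_zero k p
      rw [hp2] at h11
      exact_mod_cast h11
    apply h3 (hK2' hp2)
    rw [h]
    linear_combination h10
  · intro e
    rw [← pow_add_inv_iff p e hθ0]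
    have hinj := (algebraMap F k).injective
    constructor
    · intro h
      have h10 := h (ρ g₀) ⟨g₀, rfl⟩
      have h11 := congrArg (algebraMap F k) h10
      rw [map_pow, ← trace_extI, h9] at h11
      rcases hp.out.eq_two_or_odd' with h12 | h12
      · have h13 : ∀ x : k, -x = x := by
          intro x
          have h14 : (2 : k) = 0 := by
            have h11 := CharP.cast_eq_zero k p
            rw [h12] at h11
            exact_mod_cast h11
          linear_combination -x * h14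
        rwa [h13] at h11
      · rw [Odd.neg_pow h12.pow] at h11
        exact neg_injective h11
    · rintro h _ ⟨g, rfl⟩
      apply hinj
      rw [map_pow, ← trace_extI]
      have hz : ∀ z : ℤ, (z : k) ^ p ^ e = z := by
        intro z
        have h10 := map_intCast (iterateFrobenius k p e) z
        rwa [iterateFrobenius_def] at h10
      rcases h8 g with ⟨z, hz'⟩ | ⟨m, hm⟩
      · rw [hz', hz]
      · have h10 : (θ ^ m + θ⁻¹ ^ m) ^ p ^ e = θ ^ m + θ⁻¹ ^ m := by
          rw [inv_pow, pow_add_inv_iff p e (pow_ne_zero _ hθ0)]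
          have h11 : orderOf (θ ^ m) ∣ orderOf θ := orderOf_pow_dvd m
          rcases (pow_add_inv_iff p e hθ0).1 h with h12 | h12
          · exact Or.inl (h11.trans h12)
          · exact Or.inr (h11.trans h12)
        rw [hm, neg_pow, h10]
        have h11 := hz (-1)
        push_cast at h11
        rw [h11]
        ring
  · intro _ m hm
    rw [← hε.1, ← h7 (hK2 m hm) m hm, orderOf_dvd_iff_pow_eq_one]

end Final

end Cfsg.Agent.H931.L2T
end

-- part: H937/T2Prin
section
/-!
# Representations of `SL₂(q)` of degree `q + 1` in cross characteristic: the order of `λ` (helper937)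

`prin_order`: for `ρ : SL₂(K) →* GL ι F` absolutely irreducible, `card ι = |K| + 1`, `char F = p ∤ |K|`, there is
`d ∣ q - 1` (the order of the torus character) prime to `p`, `d ≠ 1, 2`, such that the traces are fixed by
`x ↦ x^(p^e)` iff `p^e ≡ ± 1 (mod d)`; `ρ(-1) = 1` iff `d ∣ (q-1)/2` (`q` odd).
-/

set_option autoImplicit false
set_option linter.unusedSectionVars false

namespace Cfsg.Agent.H937.T2

open Matrix Module Cfsg Cfsg.Geo Cfsg.Agent.H464.Sl2 Cfsg.Agent.H931.L2T Cfsg.Agent.H915.LD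

section Main

variable {K : Type*} [Field K] [Fintype K] {k : Type*} [Field k] {V : Type*} [AddCommGroup V]
  [Module k V] [FiniteDimensional k V] (R : _root_.Matrix.SpecialLinearGroup (Fin 2) K →* Module.End k V)

theorem hw_prin {ψ : AddChar K k} {v : V} {lam : Kˣ →* k} (h : Hw R ψ v lam) : Prin R v lam := ⟨h.ne, h.u, h.tor⟩

/-- The traces, over an algebraically closed field. -/
theorem prin_traces [IsAlgClosed k] (hK : (Fintype.card K : k) ≠ 0) (h4 : 4 ≤ Fintype.card K)
    (hspan : Submodule.span k (Set.range R) = ⊤) (hn : finrank k V = Fintype.card K + 1) :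
    ∃ θ ε : k, θ ^ (Fintype.card K - 1) = 1 ∧ θ ^ 2 ≠ 1 ∧ R (t (-1)) = ε • 1 ∧ (ε = 1 ∨ ε = -1) ∧
      (∀ m : ℕ, 2 * m + 1 = Fintype.card K → θ ^ m = ε) ∧
      (∀ g, (∃ z : ℤ, LinearMap.trace k V (R g) = z) ∨ ∃ m : ℕ, LinearMap.trace k V (R g) = θ ^ m + θ⁻¹ ^ m) ∧
      ∃ g, LinearMap.trace k V (R g) = θ + θ⁻¹ := by
  classical
  obtain ⟨ψ, hψ⟩ := exists_prim (K := K) hK
  have hR : R ≠ 1 := by
    rintro rfl
    have h1 : (Set.range (1 : _root_.Matrix.SpecialLinearGroup (Fin 2) K →* Module.End k V)) ⊆ {1} := by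
      rintro _ ⟨g, rfl⟩
      rfl
    have h2 : (⊤ : Submodule k (Module.End k V)) ≤ Submodule.span k {1} := by
      rw [← hspan]
      exact Submodule.span_mono h1
    have h3 := (Submodule.finrank_mono h2).trans (finrank_span_le_card _)
    rw [finrank_top, Module.finrank_linearMap, hn, Set.toFinset_singleton, Finset.card_singleton] at h3
    nlinarith only [h4, h3]
  have hall : ∀ b : K, b ≠ 0 → finrank k (LinearMap.range (E R ψ b)) = 1 := by
    rcases dim_cases R hψ hK hspan hR with ⟨h, -⟩ | ⟨-, h⟩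
    · exact h
    · exfalso
      omega
  have h2 : finrank k (LinearMap.range (E R ψ 0)) = 2 := by
    have h1 := finrank_eq R hψ hK
    rw [Finset.sum_congr rfl fun b hb => hall b (Finset.ne_of_mem_erase hb), Finset.sum_const,
      Finset.card_erase_of_mem (Finset.mem_univ _), Finset.card_univ, smul_eq_mul, mul_one] at h1
    omega
  obtain ⟨v, lam, h⟩ := exists_hw hψ hK (R := R) (fun h0 => by rw [h0, finrank_bot] at h2; omega)
  obtain ⟨g₀, hg₀⟩ := IsCyclic.exists_generator (α := Kˣ)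
  have hpow : ∀ a : Kˣ, ∃ m : ℕ, a = g₀ ^ m := by
    intro a
    obtain ⟨m, hm⟩ := (isOfFinOrder_of_finite g₀).mem_powers_iff_mem_zpowers.2 (hg₀ a)
    exact ⟨m, hm.symm⟩
  have ho : orderOf g₀ = Fintype.card K - 1 := by
    rw [orderOf_eq_card_of_forall_mem_zpowers hg₀, Nat.card_eq_fintype_card, Fintype.card_units]
  obtain ⟨ε, hε⟩ := _root_.Cfsg.Agent.H464.Sl2.scalar_of_comm R hspan (Z := R (t (-1))) (fun g => by
    rw [← map_mul, ← map_mul, t_sq_central (by simp only [_root_.even_two, _root_.Even.neg_pow, _root_.one_pow])])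
  have hεl : lam (-1) = ε := by
    have h3 := h.tor (-1)
    rw [hε, LinearMap.smul_apply, Module.End.one_apply] at h3
    have h5 : (ε - lam (-1)) • v = 0 := by rw [sub_smul, h3, sub_self]
    exact (sub_eq_zero.1 ((smul_eq_zero.1 h5).resolve_right h.ne)).symm
  have hε2 : ε = 1 ∨ ε = -1 := by
    rw [← mul_self_eq_one_iff, ← hεl, ← map_mul]
    simp
  refine ⟨lam g₀, ε, ?_, ?_, hε, hε2, ?_, ?_, ?_⟩
  · rw [← map_pow, ← ho, pow_orderOf_eq_one, map_one]
  · intro h0
    obtain ⟨a, ha⟩ := h.exists_sq_ne hψ hK hspan h2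
    obtain ⟨m, rfl⟩ := hpow a
    apply ha
    rw [map_pow, ← pow_mul, mul_comm, pow_mul, h0, one_pow]
  · intro m hm
    rw [← map_pow, ← hεl]
    congr 1
    have h3 : (g₀ ^ m) ^ 2 = 1 := by
      rw [← pow_mul]
      have : m * 2 = orderOf g₀ := by omega
      rw [this, pow_orderOf_eq_one]
    have h5 : g₀ ^ m ≠ 1 := by
      intro h6
      have := orderOf_dvd_of_pow_eq_one h6
      rw [ho] at this
      have := Nat.le_of_dvd (by omega) this
      omega
    have h6 : ((g₀ ^ m : Kˣ) : K) * ((g₀ ^ m : Kˣ) : K) = 1 := by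
      rw [← Units.val_mul, ← sq, h3, Units.val_one]
    rcases mul_self_eq_one_iff.1 h6 with h7 | h7
    · exact absurd (Units.ext h7) h5
    · exact Units.ext h7
  · intro g
    by_cases ht : _root_.Cfsg.Agent.H931.L2T.mt g ^ 2 - 4 = 0
    · exact Or.inl (trace_int_of_pm R hψ hK hall hε2 hε g ht)
    · by_cases hs : ∀ x : K, x * x - _root_.Cfsg.Agent.H931.L2T.mt g * x + 1 ≠ 0
      · left
        refine ⟨0, ?_⟩
        rw [(hw_prin R h).trace_nonsplit hψ hK hspan hn hs]
        simp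
      · push Not at hs
        obtain ⟨a, ha⟩ := hs
        right
        have ha0 : a ≠ 0 := by
          rintro rfl
          simp at ha
        have h5 : _root_.Cfsg.Agent.H931.L2T.mt g = a + a⁻¹ := by
          field_simp
          linear_combination -ha
        have h6 : _root_.Cfsg.Agent.H931.L2T.mt (t (Units.mk0 a ha0)) = _root_.Cfsg.Agent.H931.L2T.mt g := by
          rw [mt_t, h5]
          simp
        have h7 : (Units.mk0 a ha0) ^ 2 ≠ 1 := by
          intro h
          have h8 : a ^ 2 = 1 := by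
            have := congrArg Units.val h
            simpa only [_root_.sq_eq_one_iff, _root_.Units.val_pow_eq_pow_val, _root_.Units.val_mk0, _root_.Units.val_one] using this
          apply ht
          rw [h5]
          field_simp
          linear_combination (a ^ 2 - 1) * h8
        have h8 := trace_eq_X R (t (Units.mk0 a ha0)) (by rw [h6]; exact ht)
        rw [h6, ← trace_eq_X R g ht] at h8
        obtain ⟨m, hm⟩ := hpow (Units.mk0 a ha0)
        refine ⟨m, ?_⟩
        rw [← h8]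
        have h9 := chi_t R hψ hK h7
        rw [h.trace_two hψ hK hspan h2] at h9
        unfold chi at h9
        rw [h9, hm, map_pow, inv_pow]
  · refine ⟨t g₀, ?_⟩
    have h7 : g₀ ^ 2 ≠ 1 := by
      intro h
      have := Nat.le_of_dvd (by norm_num) (orderOf_dvd_of_pow_eq_one h)
      omega
    have h9 := chi_t R hψ hK h7
    rw [h.trace_two hψ hK hspan h2] at h9
    exact h9

end Main

section Final

variable {ι : Type} [Fintype ι] [DecidableEq ι] {F : Type*} [Field F] (p : ℕ) [hp : Fact p.Prime] [CharP F p]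

/-- **The order of `λ`.** -/
theorem prin_order {K : Type*} [Field K] [Fintype K] (h4 : 4 ≤ Fintype.card K) (hpK : ¬ p ∣ Fintype.card K)
    (ρ : _root_.Matrix.SpecialLinearGroup (Fin 2) K →* GL ι F) (habs : ActsAbsolutelyIrreducibly (matrixSet ρ.range))
    (hn : Fintype.card ι = Fintype.card K + 1) :
    ∃ d : ℕ, d ∣ Fintype.card K - 1 ∧ ¬ p ∣ d ∧ ¬ d ∣ 2 ∧
      (∀ e : ℕ, Fr ρ.range (p ^ e) ↔ (d ∣ p ^ e - 1 ∨ d ∣ p ^ e + 1)) ∧
      (∀ m : ℕ, 2 * m + 1 = Fintype.card K → (ρ (t (-1)) = 1 ↔ d ∣ m)) ∧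
      (ρ (t (-1)) = 1 ∨ (ρ (t (-1)) : Matrix ι ι F) = -1) := by
  classical
  let k := AlgebraicClosure F
  have : CharP k p := charP_of_injective_algebraMap (algebraMap F k).injective p
  have hK : (Fintype.card K : k) ≠ 0 := fun h => hpK ((CharP.cast_eq_zero_iff k p _).1 h)
  obtain ⟨θ, ε, h1, h2, h5, h6, h7, h8, g₀, h9⟩ := prin_traces (extI ρ k) hK h4
    (span_extI ρ k (span_eq_topI ρ habs)) (by
      rw [Module.finrank_fintype_fun_eq_card]
      exact hn)
  have hθ0 : θ ≠ 0 := by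
    rintro rfl
    rw [zero_pow (by omega)] at h1
    exact zero_ne_one h1
  have hε : (ε = 1 ↔ ρ (t (-1)) = 1) ∧ (ρ (t (-1)) = 1 ∨ (ρ (t (-1)) : Matrix ι ι F) = -1) := by
    have hne : Nonempty ι := by
      rw [← Fintype.card_pos_iff]
      omega
    have h10 : Matrix.toLin' ((ρ (t (-1)) : Matrix ι ι F).map (algebraMap F k)) = ε • (1 : Module.End k (ι → k)) := by
      rw [← extI_apply]
      exact h5
    have h11 : ((ρ (t (-1)) : Matrix ι ι F).map (algebraMap F k)) = ε • (1 : Matrix ι ι k) := by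
      apply Matrix.toLin'.injective
      rw [h10, map_smul, Matrix.toLin'_one]
      rfl
    have h12 : ∀ c : F, algebraMap F k c = ε → (ρ (t (-1)) : Matrix ι ι F) = c • 1 := by
      intro c hc
      ext i j
      apply (algebraMap F k).injective
      have h13 := congrFun (congrFun h11 i) j
      rw [Matrix.map_apply] at h13
      rw [h13, Matrix.smul_apply, Matrix.smul_apply, smul_eq_mul, smul_eq_mul, map_mul, hc]
      congr 1
      by_cases hij : i = j
      · rw [hij, Matrix.one_apply_eq, Matrix.one_apply_eq, map_one]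
      · rw [Matrix.one_apply_ne hij, Matrix.one_apply_ne hij, map_zero]
    constructor
    · constructor
      · intro h
        apply Units.ext
        rw [h12 1 (by rw [map_one, h]), one_smul, Units.val_one]
      · intro h
        obtain ⟨i⟩ := hne
        have h13 := congrFun (congrFun h11 i) i
        rw [h, Matrix.map_apply, Units.val_one, Matrix.one_apply_eq, map_one, Matrix.smul_apply,
          Matrix.one_apply_eq, smul_eq_mul, mul_one] at h13
        exact h13.symm
    · rcases h6 with h | h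
      · left
        apply Units.ext
        rw [h12 1 (by rw [map_one, h]), one_smul, Units.val_one]
      · right
        rw [h12 (-1) (by rw [map_neg, map_one, h]), neg_smul, one_smul]
  refine ⟨orderOf θ, orderOf_dvd_of_pow_eq_one h1, not_dvd_orderOf p (by omega) h1, ?_, ?_, ?_, hε.2⟩
  · intro h
    exact h2 (orderOf_dvd_iff_pow_eq_one.1 h)
  · intro e
    rw [← pow_add_inv_iff p e hθ0]
    have hinj := (algebraMap F k).injective
    constructor
    · intro h
      have h10 := h (ρ g₀) ⟨g₀, rfl⟩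
      have h11 := congrArg (algebraMap F k) h10
      rwa [map_pow, ← trace_extI, h9] at h11
    · rintro h _ ⟨g, rfl⟩
      apply hinj
      rw [map_pow, ← trace_extI]
      have hz : ∀ z : ℤ, (z : k) ^ p ^ e = z := by
        intro z
        have h10 := map_intCast (iterateFrobenius k p e) z
        rwa [iterateFrobenius_def] at h10
      rcases h8 g with ⟨z, hz'⟩ | ⟨m, hm⟩
      · rw [hz', hz]
      · rw [hm, inv_pow, pow_add_inv_iff p e (pow_ne_zero _ hθ0)]
        have h11 : orderOf (θ ^ m) ∣ orderOf θ := orderOf_pow_dvd m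
        rcases (pow_add_inv_iff p e hθ0).1 h with h12 | h12
        · exact Or.inl (h11.trans h12)
        · exact Or.inr (h11.trans h12)
  · intro m hm
    rw [← hε.1, ← h7 m hm, orderOf_dvd_iff_pow_eq_one]

end Final

end Cfsg.Agent.H937.T2
end

-- part: H937/T2Fields
section
/-!
# `A₅`, `A₆`: fields and forms (helper937)

`Core P`, `F` of characteristic `p`.

* `A₆`, `n = 8`, `p ≠ 3`: `a6_eight_fr : Fr P (p^k) ↔ p = 5 ∨ 5 ∣ p^k - 1 ∨ 5 ∣ p^k + 1`; `a6_eight_card`: `|F| = p` if
  `p = 5` or `p ≡ ± 1 (mod 5)`, `|F| = p²` if `p ≡ ± 2 (mod 5)`; `a6_eight_five` : `p = 5` ⟹ `FixQ`, not `FixA`;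
  `sp_eight_a6` : the row of `Sp₈`, `p` odd;
* `A₆`, `n = 10`, `p ≠ 3`: `a6_ten : p ≠ 2 ∧ (FixQ P ∧ ¬ FixA P ∧ Fr P p ∨ FixA P ∧ ¬ FixQ P ∧ …)`; `sp_ten_a6` : the row
  of `Sp₁₀`;
* `A₅`, `n = 6`, `p ≠ 5`: `a5_six : p ≠ 2 ∧ FixA P ∧ ¬ FixQ P ∧ |F| = p`; `sp_six_a5` : the row of `Sp₆`.
-/

set_option autoImplicit false
set_option linter.unusedSectionVars false

namespace Cfsg.Agent.H937.T2

open Matrix Module Cfsg Cfsg.Geo Cfsg.Agent.H464.Sl2 Cfsg.Agent.H931.L2T Cfsg.Agent.H915.LD

universe u' v'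

section general

variable {ι : Type} [Fintype ι] [DecidableEq ι] {F : Type u'} [Field F] {P : Subgroup (GL ι F)}
  (p : ℕ) [hp : Fact p.Prime] [CharP F p]

theorem card_pow_of [Fintype F] : ∃ m : ℕ, m ≠ 0 ∧ Fintype.card F = p ^ m := by
  obtain ⟨m, -, h⟩ := FiniteField.card F p
  exact ⟨m, m.2.ne', h⟩

include hp in
/-- `|F| = p²` -/
theorem card_sq [Fintype F] (hC : Core P) (h1 : ¬ Fr P (p ^ 1)) (h2 : Fr P (p ^ 2)) : Fintype.card F = p ^ 2 := by
  have h3 := hC.card_le p two_ne_zero h2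
  obtain ⟨m, hm0, hm⟩ := card_pow_of (F := F) p
  have h4 : m ≤ 2 := by
    rw [hm] at h3
    exact (Nat.pow_le_pow_iff_right hp.out.one_lt).1 h3
  have h5 : m ≠ 1 := by
    rintro rfl
    apply h1
    intro g _
    rw [← hm]
    exact FiniteField.pow_card _
  rw [hm]
  congr 1
  omega

end general

section rep

variable {ι : Type} [Fintype ι] [DecidableEq ι] {F : Type u'} [Field F] [Finite F] {P : Subgroup (GL ι F)}
  (p : ℕ) [hp : Fact p.Prime] [CharP F p]

theorem range_ne_one {E : Type v'} [Field E] {ρ : _root_.Matrix.SpecialLinearGroup (Fin 2) E →* GL ι F} (hC : Core ρ.range) :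
    ρ ≠ 1 := by
  intro h
  apply hC.nonabelian
  have h3 : Subsingleton ρ.range := by
    constructor
    rintro ⟨_, x, rfl⟩ ⟨_, y, rfl⟩
    subst h
    rfl
  exact ⟨⟨fun a b => by
    induction a using QuotientGroup.induction_on with
    | H a =>
      induction b using QuotientGroup.induction_on with
      | H b => rw [Subsingleton.elim a b]⟩⟩

/-- `-1 = 1` or not -/
theorem fix_iff (hp2 : p ≠ 2) {E : Type v'} [Field E] [Fintype E] (hE : ¬ p ∣ Fintype.card E)
    {ρ : _root_.Matrix.SpecialLinearGroup (Fin 2) E →* GL ι F} (hρ : ρ.range = P) (hC : Core P) (hsd : SD P) :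
    (ρ (t (-1)) = 1 → FixQ P ∧ ¬ FixA P) ∧ (ρ (t (-1)) ≠ 1 → FixA P ∧ ¬ FixQ P) := by
  have h2 : (2 : F) ≠ 0 := by exact_mod_cast prime_ne_zero (F := F) p Nat.prime_two hp2
  have hK : (Fintype.card E : F) ≠ 0 := fun h => hE ((CharP.cast_eq_zero_iff F p _).1 h)
  obtain ⟨h3, h4⟩ := Cfsg.Agent.H830.Sl2Form.sl2_type h2 hK ρ hρ hC
  exact ⟨fun h => ⟨(h3 h).2 hsd, (h3 h).1⟩, fun h => ⟨(h4 h).2 hsd, (h4 h).1⟩⟩

end rep

section six

variable {ι : Type} [Fintype ι] [DecidableEq ι] {F : Type u'} [Field F] [Fintype F] {P : Subgroup (GL ι F)}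
  (p : ℕ) [hp : Fact p.Prime] [CharP F p]

theorem a6_not_dvd_nine (hp3 : p ≠ 3) {K : Type} [Fintype K] (hK : Fintype.card K = 9) : ¬ p ∣ Fintype.card K := by
  rw [hK, show 9 = 3 ^ 2 by norm_num]
  intro h
  exact hp3 ((Nat.prime_dvd_prime_iff_eq hp.out Nat.prime_three).1 (hp.out.dvd_of_dvd_pow h))

include hp in
/-- `A₆` in dimension eight. -/
theorem a6_eight_data (hp3 : p ≠ 3) (hC : Core P) (h8 : Fintype.card ι = 8) (e : Soc P ≃* alternatingGroup (Fin 6)) :
    ∃ d : ℕ, (d = 5 ∨ d = 10 ∨ (d = 1 ∧ p = 5)) ∧ ¬ p ∣ d ∧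
      (∀ k : ℕ, Fr P (p ^ k) ↔ (d ∣ p ^ k - 1 ∨ d ∣ p ^ k + 1)) ∧
      (p ≠ 2 → (d ∣ 5 → FixQ P ∧ ¬ FixA P) ∧ (¬ d ∣ 5 → FixA P ∧ ¬ FixQ P)) := by
  obtain ⟨K, _, _, hK, _, ⟨f⟩⟩ := exists_nine e
  have h3 : ¬ 3 ∣ Nat.card ((scalars ι F).subgroupOf P) := not_dvd_scalars hC Nat.prime_three (by rw [h8]; norm_num)
  obtain ⟨ρ, hρ, -⟩ := exists_rep hC Nat.prime_three (by omega)
    (((Nat.Prime.coprime_iff_not_dvd Nat.prime_three).2 h3).symm) f
  have hsd := a6_sd hC e h3
  have hne : ρ ≠ 1 := range_ne_one (by rw [hρ]; exact hC)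
  have habs : ActsAbsolutelyIrreducibly (matrixSet ρ.range) := by rw [hρ]; exact hC.absIrred
  have hpK := a6_not_dvd_nine p hp3 hK
  obtain ⟨d, hd, hpd, hd2, hd1, hfr, hcen, -⟩ := cusp_order p (K := K) (by omega) hpK ρ hne habs (by omega)
  rw [hK] at hd hd1 hcen
  refine ⟨d, ?_, hpd, ?_, ?_⟩
  · have h10 : d ∈ Nat.divisors 10 := by rw [Nat.mem_divisors]; exact ⟨hd, by norm_num⟩
    have h11 : Nat.divisors 10 = {1, 2, 5, 10} := by decide
    rw [h11] at h10
    simp only [Finset.mem_insert, Finset.mem_singleton] at h10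
    rcases h10 with h | h | h | h
    · right; right
      refine ⟨h, ?_⟩
      obtain ⟨h12, h13⟩ := hd1 h
      have h14 : p ∈ Nat.divisors 10 := by rw [Nat.mem_divisors]; exact ⟨h12, by norm_num⟩
      rw [h11] at h14
      simp only [Finset.mem_insert, Finset.mem_singleton] at h14
      rcases h14 with h | h | h | h
      · exact absurd h hp.out.one_lt.ne'
      · exact absurd h h13
      · exact h
      · exfalso
        have := hp.out
        rw [h] at this
        revert this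
        norm_num
    · exact absurd h hd2
    · exact Or.inl h
    · exact Or.inr (Or.inl h)
  · intro k
    rw [← hρ]
    exact hfr k
  · intro hp2
    obtain ⟨h4, h5⟩ := fix_iff p hp2 hpK hρ hC hsd
    have h6 := hcen hp2 5 rfl
    exact ⟨fun h => h4 (h6.2 h), fun h => h5 (fun h7 => h (h6.1 h7))⟩

theorem dvd_ten_iff (hp2 : p ≠ 2) (k : ℕ) : (10 ∣ p ^ k - 1 ∨ 10 ∣ p ^ k + 1) ↔ (5 ∣ p ^ k - 1 ∨ 5 ∣ p ^ k + 1) := by
  have h1 : (p ^ k) % 2 = 1 := by
    have h2 := hp.out.eq_two_or_odd.resolve_left hp2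
    rw [Nat.pow_mod, h2, one_pow]
    rfl
  omega

include hp in
theorem a6_eight_fr (hp3 : p ≠ 3) (hC : Core P) (h8 : Fintype.card ι = 8) (e : Soc P ≃* alternatingGroup (Fin 6))
    (k : ℕ) : Fr P (p ^ k) ↔ (p = 5 ∨ 5 ∣ p ^ k - 1 ∨ 5 ∣ p ^ k + 1) := by
  obtain ⟨d, hd, hpd, hfr, -⟩ := a6_eight_data p hp3 hC h8 e
  rw [hfr]
  rcases hd with rfl | rfl | ⟨rfl, hp5⟩
  · constructor
    · exact Or.inr
    · rintro (rfl | h)
      · exact absurd (dvd_refl _) hpd
      · exact h
  · have hp2 : p ≠ 2 := by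
      rintro rfl
      exact hpd (by norm_num)
    rw [dvd_ten_iff p hp2]
    constructor
    · exact Or.inr
    · rintro (rfl | h)
      · exact absurd (by norm_num) hpd
      · exact h
  · exact ⟨fun _ => Or.inl hp5, fun _ => Or.inl (one_dvd _)⟩

theorem sq_mod_five (h : p ≠ 5) : (p % 5 = 1 ∨ p % 5 = 4) ∨ (p % 5 = 2 ∨ p % 5 = 3) := by
  have h1 : p % 5 ≠ 0 := by
    intro h0
    exact h ((Nat.prime_dvd_prime_iff_eq Nat.prime_five hp.out).1 (Nat.dvd_of_mod_eq_zero h0)).symm
  omega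

include hp in
/-- the field -/
theorem a6_eight_card (hp3 : p ≠ 3) (hC : Core P) (h8 : Fintype.card ι = 8) (e : Soc P ≃* alternatingGroup (Fin 6)) :
    (Fintype.card F = p ∧ (p = 5 ∨ p % 5 = 1 ∨ p % 5 = 4)) ∨ (Fintype.card F = p ^ 2 ∧ (p % 5 = 2 ∨ p % 5 = 3)) := by
  have hfr := a6_eight_fr p hp3 hC h8 e
  have hpos := hp.out.pos
  by_cases h5 : p = 5
  · left
    refine ⟨hC.card_eq p ?_, Or.inl h5⟩
    have := (hfr 1).2 (Or.inl h5)
    rwa [pow_one] at this
  · rcases sq_mod_five p h5 with h | h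
    · left
      refine ⟨hC.card_eq p ?_, Or.inr h⟩
      have := (hfr 1).2 (Or.inr (by rw [pow_one]; omega))
      rwa [pow_one] at this
    · right
      refine ⟨card_sq p hC ?_ ?_, h⟩
      · rw [hfr 1, pow_one]
        omega
      · rw [hfr 2]
        right; right
        rw [Nat.dvd_iff_mod_eq_zero, Nat.add_mod, Nat.pow_mod]
        rcases h with h | h <;> rw [h]

include hp in
/-- characteristic five: orthogonal -/
theorem a6_eight_five (hp5 : p = 5) (hC : Core P) (h8 : Fintype.card ι = 8) (e : Soc P ≃* alternatingGroup (Fin 6)) :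
    FixQ P ∧ ¬ FixA P := by
  obtain ⟨d, hd, hpd, -, hf⟩ := a6_eight_data p (by omega) hC h8 e
  rcases hd with rfl | rfl | ⟨rfl, -⟩
  · subst hp5
    exact absurd (dvd_refl _) hpd
  · subst hp5
    exact absurd (by norm_num) hpd
  · exact (hf (by omega)).1 (one_dvd _)

include hp in
/-- the row of `Sp₈`, `p` odd -/
theorem a6_eight_fixA (hp2 : p ≠ 2) (hp3 : p ≠ 3) (hC : Core P) (h8 : Fintype.card ι = 8)
    (e : Soc P ≃* alternatingGroup (Fin 6)) (hA : FixA P) :
    (Fintype.card F = p ∧ (p % 20 = 1 ∨ p % 20 = 9 ∨ p % 20 = 11 ∨ p % 20 = 19)) ∨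
      (Fintype.card F = p ^ 2 ∧ (p % 5 = 2 ∨ p % 5 = 3)) := by
  have hodd := hp.out.eq_two_or_odd.resolve_left hp2
  rcases a6_eight_card p hp3 hC h8 e with ⟨h1, h2⟩ | h
  · left
    refine ⟨h1, ?_⟩
    rcases h2 with h2 | h2
    · exact absurd hA (a6_eight_five p h2 hC h8 e).2
    · omega
  · exact Or.inr h

include hp in
/-- `A₆` in dimension ten. -/
theorem a6_ten_data (hp3 : p ≠ 3) (hC : Core P) (h10 : Fintype.card ι = 10) (e : Soc P ≃* alternatingGroup (Fin 6)) :
    p ≠ 2 ∧ ∃ d : ℕ, (d = 4 ∨ d = 8) ∧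
      (∀ k : ℕ, Fr P (p ^ k) ↔ (d ∣ p ^ k - 1 ∨ d ∣ p ^ k + 1)) ∧
      (d = 4 → FixQ P ∧ ¬ FixA P) ∧ (d = 8 → FixA P ∧ ¬ FixQ P) := by
  obtain ⟨K, _, _, hK, _, ⟨f⟩⟩ := exists_nine e
  have h3 : ¬ 3 ∣ Nat.card ((scalars ι F).subgroupOf P) := not_dvd_scalars hC Nat.prime_three (by rw [h10]; norm_num)
  obtain ⟨ρ, hρ, -⟩ := exists_rep hC Nat.prime_three (by omega)
    (((Nat.Prime.coprime_iff_not_dvd Nat.prime_three).2 h3).symm) f
  have hsd := a6_sd hC e h3
  have habs : ActsAbsolutelyIrreducibly (matrixSet ρ.range) := by rw [hρ]; exact hC.absIrred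
  have hpK := a6_not_dvd_nine p hp3 hK
  obtain ⟨d, hd, hpd, hd2, hfr, hcen, -⟩ := prin_order p (K := K) (by omega) hpK ρ habs (by omega)
  rw [hK] at hd hcen
  have hd8 : d = 4 ∨ d = 8 := by
    have h10 : d ∈ Nat.divisors 8 := by rw [Nat.mem_divisors]; exact ⟨hd, by norm_num⟩
    have h11 : Nat.divisors 8 = {1, 2, 4, 8} := by decide
    rw [h11] at h10
    simp only [Finset.mem_insert, Finset.mem_singleton] at h10
    rcases h10 with rfl | rfl | h | h
    · exact absurd (one_dvd _) hd2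
    · exact absurd (dvd_refl _) hd2
    · exact Or.inl h
    · exact Or.inr h
  have hp2 : p ≠ 2 := by
    rintro rfl
    rcases hd8 with rfl | rfl <;> exact hpd (by norm_num)
  obtain ⟨h4, h5⟩ := fix_iff p hp2 hpK hρ hC hsd
  have h6 := hcen 4 rfl
  refine ⟨hp2, d, hd8, ?_, ?_, ?_⟩
  · intro k
    rw [← hρ]
    exact hfr k
  · rintro rfl
    exact h4 (h6.2 (dvd_refl _))
  · rintro rfl
    refine h5 (fun h7 => ?_)
    have := h6.1 h7
    revert this
    norm_num

include hp in
/-- **`A₆` in dimension ten.** -/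
theorem a6_ten (hp3 : p ≠ 3) (hC : Core P) (h10 : Fintype.card ι = 10) (e : Soc P ≃* alternatingGroup (Fin 6)) :
    p ≠ 2 ∧ ((FixQ P ∧ ¬ FixA P ∧ Fintype.card F = p) ∨
      (FixA P ∧ ¬ FixQ P ∧ ((Fintype.card F = p ∧ (p % 8 = 1 ∨ p % 8 = 7)) ∨
        (Fintype.card F = p ^ 2 ∧ (p % 8 = 3 ∨ p % 8 = 5))))) := by
  obtain ⟨hp2, d, hd, hfr, h4, h8⟩ := a6_ten_data p hp3 hC h10 e
  have hodd := hp.out.eq_two_or_odd.resolve_left hp2
  have hpos := hp.out.pos
  refine ⟨hp2, ?_⟩
  rcases hd with rfl | rfl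
  · left
    obtain ⟨h5, h6⟩ := h4 rfl
    refine ⟨h5, h6, hC.card_eq p ?_⟩
    have := (hfr 1).2 (by rw [pow_one]; omega)
    rwa [pow_one] at this
  · right
    obtain ⟨h5, h6⟩ := h8 rfl
    refine ⟨h5, h6, ?_⟩
    have h7 : (p % 8 = 1 ∨ p % 8 = 7) ∨ (p % 8 = 3 ∨ p % 8 = 5) := by omega
    rcases h7 with h | h
    · left
      refine ⟨hC.card_eq p ?_, h⟩
      have := (hfr 1).2 (by rw [pow_one]; (clear * - h; omega))
      rwa [pow_one] at this
    · right
      refine ⟨card_sq p hC ?_ ?_, h⟩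
      · rw [hfr 1, pow_one]
        omega
      · rw [hfr 2]
        left
        have h9 : p ^ 2 % 8 = 1 := by
          rw [Nat.pow_mod]
          rcases h with h | h <;> rw [h]
        omega

include hp in
/-- the row of `Sp₁₀` -/
theorem a6_ten_fixA (hp3 : p ≠ 3) (hC : Core P) (h10 : Fintype.card ι = 10)
    (e : Soc P ≃* alternatingGroup (Fin 6)) (hA : FixA P) : p ≠ 2 ∧
    ((Fintype.card F = p ∧ (p % 16 = 1 ∨ p % 16 = 7 ∨ p % 16 = 9 ∨ p % 16 = 15)) ∨
      (Fintype.card F = p ^ 2 ∧ (p % 8 = 3 ∨ p % 8 = 5))) := by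
  obtain ⟨hp2, ⟨-, h, -⟩ | ⟨-, -, h⟩⟩ := a6_ten p hp3 hC h10 e
  · exact absurd hA h
  · refine ⟨hp2, ?_⟩
    rcases h with ⟨h1, h2⟩ | h
    · left
      exact ⟨h1, by omega⟩
    · exact Or.inr h

end six

section five

variable {ι : Type} [Fintype ι] [DecidableEq ι] {F : Type u'} [Field F] [Fintype F] {P : Subgroup (GL ι F)}
  (p : ℕ) [hp : Fact p.Prime] [CharP F p]

include hp in
/-- **`A₅` in dimension six.** -/
theorem a5_six_full (hp5 : p ≠ 5) (hC : Core P) (h6 : Fintype.card ι = 6) (e : Soc P ≃* alternatingGroup (Fin 5)) :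
    p ≠ 2 ∧ FixA P ∧ ¬ FixQ P ∧ Fintype.card F = p ∧ (-1 : GL ι F) ∈ P := by
  have hsd := a5_sd hC e
  have : Fact (Nat.Prime 5) := ⟨Nat.prime_five⟩
  obtain ⟨f⟩ := Cfsg.Agent.S0253.result (F := ZMod 5) (ZMod.card 5)
  have h3 : ¬ 5 ∣ Nat.card ((scalars ι F).subgroupOf P) := not_dvd_scalars hC Nat.prime_five (by rw [h6]; norm_num)
  have hK := ZMod.card 5
  obtain ⟨ρ, hρ, -⟩ := exists_rep hC (K := ZMod 5) Nat.prime_five (by omega)
    (((Nat.Prime.coprime_iff_not_dvd Nat.prime_five).2 h3).symm) (e.trans f.symm)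
  have habs : ActsAbsolutelyIrreducibly (matrixSet ρ.range) := by rw [hρ]; exact hC.absIrred
  have hpK : ¬ p ∣ Fintype.card (ZMod 5) := by
    rw [hK]
    intro h
    exact hp5 ((Nat.prime_dvd_prime_iff_eq hp.out Nat.prime_five).1 h)
  obtain ⟨d, hd, hpd, hd2, hfr, hcen, hpm⟩ := prin_order p (K := ZMod 5) (by omega) hpK ρ habs (by omega)
  rw [hK] at hd hcen
  have hd4 : d = 4 := by
    have h10 : d ∈ Nat.divisors 4 := by rw [Nat.mem_divisors]; exact ⟨hd, by norm_num⟩
    have h11 : Nat.divisors 4 = {1, 2, 4} := by decide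
    rw [h11] at h10
    simp only [Finset.mem_insert, Finset.mem_singleton] at h10
    rcases h10 with rfl | rfl | h
    · exact absurd (one_dvd _) hd2
    · exact absurd (dvd_refl _) hd2
    · exact h
  subst hd4
  have hp2 : p ≠ 2 := by
    rintro rfl
    exact hpd (by norm_num)
  have hodd := hp.out.eq_two_or_odd.resolve_left hp2
  have hpos := hp.out.pos
  obtain ⟨h4, h5⟩ := fix_iff p hp2 hpK hρ hC hsd
  have hne : ρ (t (-1)) ≠ 1 := fun h7 => by
    have := (hcen 2 rfl).1 h7
    revert this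
    norm_num
  obtain ⟨h7, h8⟩ := h5 hne
  refine ⟨hp2, h7, h8, hC.card_eq p ?_, ?_⟩
  · have := (hfr 1).2 (by rw [pow_one]; omega)
    rw [pow_one, hρ] at this
    exact this
  · rw [← hρ]
    refine ⟨t (-1), ?_⟩
    apply Units.ext
    rw [hpm.resolve_left hne]
    rfl

include hp in
theorem a5_six (hp5 : p ≠ 5) (hC : Core P) (h6 : Fintype.card ι = 6) (e : Soc P ≃* alternatingGroup (Fin 5)) :
    p ≠ 2 ∧ FixA P ∧ ¬ FixQ P ∧ Fintype.card F = p := by
  obtain ⟨h1, h2, h3, h4, -⟩ := a5_six_full p hp5 hC h6 e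
  exact ⟨h1, h2, h3, h4⟩

end five

/-! ### rows -/

section rows

variable {F : Type u'} [Field F] [Fintype F] (p : ℕ) [hp : Fact p.Prime] [CharP F p]

theorem fixA_of_le {m : ℕ} {P : Subgroup (GL (Fin m ⊕ Fin m) F)} (h : P ≤ spGL m F) : FixA P :=
  ⟨sympForm m F, H924.isSymplecticForm_sympForm, H914.S6.fixes_of_le h⟩

theorem fixA_of_spGL {m : ℕ} {H P : Subgroup (GL (Fin m ⊕ Fin m) F)} (hH : IsMaximalIn (spGL m F) H)
    (hc : IsResidualCore H P) : FixA P := fixA_of_le (hc.le.trans hH.1.le)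

theorem card_sum_fin (m : ℕ) : Fintype.card (Fin m ⊕ Fin m) = 2 * m := by
  rw [Fintype.card_sum, Fintype.card_fin]
  ring

include hp in
/-- the row `A₅` of `Sp₆` -/
theorem sp_six_a5 {H P : Subgroup (GL (Fin 3 ⊕ Fin 3) F)} (hH : IsMaximalIn (spGL 3 F) H) (hc : IsResidualCore H P)
    (e : Soc P ≃* alternatingGroup (Fin 5)) : p ≠ 2 ∧ p ≠ 5 ∧ Fintype.card F = p := by
  have hp5 : p ≠ 5 := by
    rintro rfl
    have : Fact (Nat.Prime 5) := ⟨Nat.prime_five⟩
    obtain ⟨f⟩ := Cfsg.Agent.S0253.result (F := ZMod 5) (ZMod.card 5)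
    have h := (H875.PslRows.sp_six 5 hH hc (e.trans f.symm)).2
    omega
  obtain ⟨h1, -, -, h2⟩ := a5_six p hp5 (core_of_residual hc) (card_sum_fin 3) e
  exact ⟨h1, hp5, h2⟩

include hp in
/-- `A₅` in `Sp₆` -/
theorem sp_six_a5_neg {H P : Subgroup (GL (Fin 3 ⊕ Fin 3) F)} (hH : IsMaximalIn (spGL 3 F) H)
    (hc : IsResidualCore H P) (e : Soc P ≃* alternatingGroup (Fin 5)) :
    p ≠ 2 ∧ p ≠ 5 ∧ Fintype.card F = p ∧ (-1 : GL (Fin 3 ⊕ Fin 3) F) ∈ P := by
  obtain ⟨h1, h2, h3⟩ := sp_six_a5 p hH hc e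
  exact ⟨h1, h2, h3, (a5_six_full p h2 (core_of_residual hc) (card_sum_fin 3) e).2.2.2.2⟩

include hp in
/-- the row `A₆` of `Sp₈`, `p` odd -/
theorem sp_eight_a6 (hp2 : p ≠ 2) {H P : Subgroup (GL (Fin 4 ⊕ Fin 4) F)} (hH : IsMaximalIn (spGL 4 F) H)
    (hc : IsResidualCore H P) (e : Soc P ≃* alternatingGroup (Fin 6)) :
    (Fintype.card F = p ∧ (p % 20 = 1 ∨ p % 20 = 19 ∨ p % 20 = 9 ∨ p % 20 = 11)) ∨
      (Fintype.card F = p ^ 2 ∧ p ≠ 2 ∧ p ≠ 3 ∧ (p % 5 = 2 ∨ p % 5 = 3)) := by
  have hp3 : p ≠ 3 := by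
    rintro rfl
    obtain ⟨K, _, _, hK, _, ⟨f⟩⟩ := exists_nine e
    rcases H875.PslRows.sp_eight 3 hH hc f with ⟨-, h⟩ | h
    · omega
    · rw [hK] at h
      have h1 : 2 ≤ Fintype.card F := Fintype.one_lt_card
      have h2 : Fintype.card F < 3 := by
        by_contra h3
        have := Nat.pow_le_pow_left (not_lt.1 h3) 3
        omega
      have h3 : Fintype.card F = 2 := by omega
      rw [h3] at h
      omega
  rcases a6_eight_fixA p hp2 hp3 (core_of_residual hc) (card_sum_fin 4) e (fixA_of_spGL hH hc) with ⟨h, h'⟩ | ⟨h, h'⟩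
  · exact Or.inl ⟨h, by omega⟩
  · exact Or.inr ⟨h, hp2, hp3, h'⟩

include hp in
/-- the row `A₆` of `Sp₁₀` -/
theorem sp_ten_a6 {H P : Subgroup (GL (Fin 5 ⊕ Fin 5) F)} (hH : IsMaximalIn (spGL 5 F) H)
    (hc : IsResidualCore H P) (e : Soc P ≃* alternatingGroup (Fin 6)) :
    (Fintype.card F = p ∧ (p % 16 = 1 ∨ p % 16 = 15 ∨ p % 16 = 7 ∨ p % 16 = 9)) ∨
      (Fintype.card F = p ^ 2 ∧ p ≠ 3 ∧ (p % 8 = 3 ∨ p % 8 = 5)) := by
  have hp3 : p ≠ 3 := by
    rintro rfl
    obtain ⟨K, _, _, hK, _, ⟨f⟩⟩ := exists_nine e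
    have h := (H875.PslRows.sp_ten 3 hH hc f).2
    omega
  obtain ⟨-, ⟨h, h'⟩ | ⟨h, h'⟩⟩ := a6_ten_fixA p hp3 (core_of_residual hc) (card_sum_fin 5) e (fixA_of_spGL hH hc)
  · exact Or.inl ⟨h, by omega⟩
  · exact Or.inr ⟨h, hp3, h'⟩

end rows

end Cfsg.Agent.H937.T2
end

private theorem dce_5ee7024ce836 : _root_.True := by
  try have : _root_.True := by simp only [_root_.Cfsg.Agent.H931.L2T.J.eq_1]
  try have : _root_.True := by simp only [_root_.Cfsg.Agent.H931.L2T.Y.congr_simp]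
  try have : _root_.True := by simp only [_root_.Cfsg.Agent.H931.L2T.conic.eq_1]
  try have : _root_.True := by simp only [_root_.Cfsg.Agent.H931.L2T.Y.eq_1]
  try have : _root_.True := by simp only [_root_.Cfsg.Agent.H931.L2N.gs.eq_1]
  try have : _root_.True := by simp only [_root_.Cfsg.Agent.H931.L2N.eta.eq_1]
  try have : _root_.True := by simp only [_root_.Cfsg.Agent.H931.L2T.S.eq_1]
  exact _root_.True.intro
end

-- part: H911/AdAltIrr
section
prune_inst 0x1002404024000080018001030001c528a000402004800002000010405c08c4880410821b03001121082084420380040100000204000000000000400011b008008800000a0480008c20010000180000000000000000000000000000000000000000000000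
set_option linter.all false
open scoped Cfsg.Agent.FastGrp

-- part: H911/AdAlt
section
/-!
# The alternating square of `SL(4, E)` (helper911)

`A k` = the alternating matrices, the group `SL(4, E)` acts by `X ↦ g X gᵀ` through `σ : E → k`.
-/

set_option autoImplicit false
set_option linter.unusedSectionVars false
set_option linter.unusedVariables false

namespace Cfsg.Agent.H911.Ad.Al

open Matrix CoxeterSystem Cfsg.Agent.ChevalleyStructure.CoxeterGeom Cfsg.Agent.Tits.Roots Cfsg.Agent.Tits.Core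
  Cfsg.Agent.Tits.Exchange Cfsg.Agent.Nodes.Reps Cfsg.Agent.Nodes.BNOf Cfsg.Agent.Nodes.StabComb
  Cfsg.Agent.Nodes.Bruhat Cfsg.Agent.Nodes.OppDec Cfsg.Agent.Nodes.LeviDec Cfsg.Agent.KFacts.RgdOpp
  Cfsg.Agent.Omega.CR Cfsg.Agent.Omega.FOne.Lift.Sd Cfsg.Agent.Nodes.RootsA Cfsg.Agent.H911 Cfsg.Agent.H905.Md
  Cfsg.Agent.KFacts.MulOdd.TypeA
open Cfsg.Agent.LieRecognition.BNCox (cA cA_apply)
open Cfsg.Agent.Nodes.RGDTypeA (Mono mem_T tv_val XX tv_mem_XX nn mono_ns X_sr X_neg_sr nsys rgd)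
open Cfsg.Agent.TitsThree.KSideA (tv tv_of_ne tv_add tv_zero tv_neg)

/-- the alternating matrices -/
def A (k : Type*) [Field k] : Submodule k (Matrix (Fin 4) (Fin 4) k) where
  carrier := {X | Xᵀ = -X ∧ ∀ i, X i i = 0}
  zero_mem' := ⟨by rw [Matrix.transpose_zero, neg_zero], fun _ => rfl⟩
  add_mem' := by
    rintro X Y ⟨h1, h2⟩ ⟨h3, h4⟩
    refine ⟨?_, fun i => ?_⟩
    · rw [Matrix.transpose_add, h1, h3, neg_add]
    · rw [Matrix.add_apply, h2, h4, add_zero]
  smul_mem' := by
    rintro a X ⟨h1, h2⟩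
    refine ⟨?_, fun i => ?_⟩
    · rw [Matrix.transpose_smul, h1, smul_neg]
    · rw [Matrix.smul_apply, h2, smul_zero]

variable {k : Type*} [Field k] {E : Type*} [Field E]

theorem A_symm (X : A k) (i j : Fin 4) : X.1 j i = -X.1 i j := by
  have h1 := congrFun (congrFun X.2.1 i) j
  rw [Matrix.transpose_apply, Matrix.neg_apply] at h1
  exact h1

theorem A_ext {X Y : A k} (h01 : X.1 0 1 = Y.1 0 1) (h02 : X.1 0 2 = Y.1 0 2) (h03 : X.1 0 3 = Y.1 0 3)
    (h12 : X.1 1 2 = Y.1 1 2) (h13 : X.1 1 3 = Y.1 1 3) (h23 : X.1 2 3 = Y.1 2 3) : X = Y := by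
  apply Subtype.ext
  ext i j
  fin_cases i <;> fin_cases j
  · exact (X.2.2 0).trans (Y.2.2 0).symm
  · exact h01
  · exact h02
  · exact h03
  · exact (A_symm X 0 1).trans ((congrArg Neg.neg h01).trans (A_symm Y 0 1).symm)
  · exact (X.2.2 1).trans (Y.2.2 1).symm
  · exact h12
  · exact h13
  · exact (A_symm X 0 2).trans ((congrArg Neg.neg h02).trans (A_symm Y 0 2).symm)
  · exact (A_symm X 1 2).trans ((congrArg Neg.neg h12).trans (A_symm Y 1 2).symm)
  · exact (X.2.2 2).trans (Y.2.2 2).symm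
  · exact h23
  · exact (A_symm X 0 3).trans ((congrArg Neg.neg h03).trans (A_symm Y 0 3).symm)
  · exact (A_symm X 1 3).trans ((congrArg Neg.neg h13).trans (A_symm Y 1 3).symm)
  · exact (A_symm X 2 3).trans ((congrArg Neg.neg h23).trans (A_symm Y 2 3).symm)
  · exact (X.2.2 3).trans (Y.2.2 3).symm

variable (σ : E →+* k)

/-- the matrix of `g` over `k` -/
def mp (g : _root_.Matrix.SpecialLinearGroup (Fin 4) E) : Matrix (Fin 4) (Fin 4) k := g.1.map σ

theorem mp_one : mp σ 1 = 1 := Matrix.map_one σ (map_zero σ) (map_one σ)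

theorem mp_mul (g g' : _root_.Matrix.SpecialLinearGroup (Fin 4) E) : mp σ (g * g') = mp σ g * mp σ g' := by
  unfold mp
  rw [show (g * g').1 = g.1 * g'.1 from rfl, Matrix.map_mul]

theorem conj_mem {X : Matrix (Fin 4) (Fin 4) k} (hX : X ∈ A k) (G : Matrix (Fin 4) (Fin 4) k) : G * X * Gᵀ ∈ A k := by
  obtain ⟨h1, h2⟩ := hX
  constructor
  · rw [Matrix.transpose_mul, Matrix.transpose_mul, Matrix.transpose_transpose, h1]
    simp only [Matrix.neg_mul, Matrix.mul_neg, Matrix.mul_assoc]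
  · intro i
    have hs : ∀ a b, X b a = -X a b := fun a b => by
      have h3 := congrFun (congrFun h1 a) b
      rwa [Matrix.transpose_apply, Matrix.neg_apply] at h3
    simp only [Matrix.mul_apply, Fin.sum_univ_four, Matrix.transpose_apply]
    rw [h2 0, h2 1, h2 2, h2 3, hs 0 1, hs 0 2, hs 0 3, hs 1 2, hs 1 3, hs 2 3]
    ring

/-- the representation -/
def al : _root_.Matrix.SpecialLinearGroup (Fin 4) E →* Module.End k (A k) where
  toFun g :=
    { toFun := fun X => ⟨mp σ g * X.1 * (mp σ g)ᵀ, conj_mem X.2 _⟩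
      map_add' := fun X Y => by
        apply Subtype.ext
        change mp σ g * (X.1 + Y.1) * (mp σ g)ᵀ = mp σ g * X.1 * (mp σ g)ᵀ + mp σ g * Y.1 * (mp σ g)ᵀ
        rw [Matrix.mul_add, Matrix.add_mul]
      map_smul' := fun a X => by
        apply Subtype.ext
        change mp σ g * (a • X.1) * (mp σ g)ᵀ = a • (mp σ g * X.1 * (mp σ g)ᵀ)
        rw [Matrix.mul_smul, Matrix.smul_mul] }
  map_one' := by
    refine LinearMap.ext fun X => Subtype.ext ?_
    change mp σ 1 * X.1 * (mp σ 1)ᵀ = X.1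
    rw [mp_one, Matrix.transpose_one, Matrix.one_mul, Matrix.mul_one]
  map_mul' g g' := by
    refine LinearMap.ext fun X => Subtype.ext ?_
    change mp σ (g * g') * X.1 * (mp σ (g * g'))ᵀ = mp σ g * (mp σ g' * X.1 * (mp σ g')ᵀ) * (mp σ g)ᵀ
    rw [mp_mul, Matrix.transpose_mul]
    simp only [Matrix.mul_assoc]

theorem al_val (g : _root_.Matrix.SpecialLinearGroup (Fin 4) E) (X : A k) : (al σ g X).1 = mp σ g * X.1 * (mp σ g)ᵀ := rfl

theorem mp_tv {i j : Fin 4} (hij : i ≠ j) (t : E) : mp σ (tv i j t) = 1 + Matrix.single i j (σ t) := by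
  unfold mp
  rw [tv_val hij]
  ext a b
  simp only [Matrix.map_apply, Matrix.add_apply, Matrix.one_apply, Matrix.single_apply, map_add]
  split_ifs <;> simp only [_root_.map_one, _root_.map_zero, _root_.add_zero, _root_.zero_add]

theorem al_tv {i j : Fin 4} (hij : i ≠ j) (t : E) (X : A k) : (al σ (tv i j t) X).1 =
    X.1 + Matrix.single i j (σ t) * X.1 + X.1 * Matrix.single j i (σ t) +
      Matrix.single i j (σ t) * X.1 * Matrix.single j i (σ t) := by
  rw [al_val, mp_tv σ hij, Matrix.transpose_add, Matrix.transpose_one, Matrix.transpose_single]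
  noncomm_ring

/-- the vector `e_i ∧ e_j` -/
def w (k : Type*) [Field k] {i j : Fin 4} (hij : i ≠ j) : A k := ⟨Matrix.single i j 1 - Matrix.single j i 1, by
  constructor
  · rw [Matrix.transpose_sub, Matrix.transpose_single, Matrix.transpose_single, neg_sub]
  · intro a
    rw [Matrix.sub_apply, Matrix.single_apply_of_ne, Matrix.single_apply_of_ne, sub_zero]
    · rintro ⟨rfl, h⟩; exact hij h
    · rintro ⟨rfl, h⟩; exact hij h.symm⟩

theorem w_symm {i j : Fin 4} (hij : i ≠ j) : w k hij.symm = -w k hij := by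
  apply Subtype.ext
  change Matrix.single j i 1 - Matrix.single i j 1 = -(Matrix.single i j 1 - Matrix.single j i (1 : k))
  rw [neg_sub]

theorem al_w {i j b : Fin 4} (hij : i ≠ j) (hbi : b ≠ i) (hbj : b ≠ j) :
    al σ (tv b i 1) (w k hij) = w k hij + w k hbj := by
  apply Subtype.ext
  rw [al_tv σ hbi, map_one]
  change (Matrix.single i j 1 - Matrix.single j i 1) + Matrix.single b i 1 * (Matrix.single i j 1 - Matrix.single j i 1) +
    (Matrix.single i j 1 - Matrix.single j i 1) * Matrix.single i b 1 +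
    Matrix.single b i 1 * (Matrix.single i j 1 - Matrix.single j i 1) * Matrix.single i b 1 =
      (Matrix.single i j 1 - Matrix.single j i 1) + (Matrix.single b j 1 - Matrix.single j b (1 : k))
  rw [Matrix.mul_sub, Matrix.sub_mul, Matrix.sub_mul, Matrix.single_mul_single_same,
    Matrix.single_mul_single_of_ne _ _ _ _ hij, Matrix.single_mul_single_of_ne _ _ _ _ hij.symm,
    Matrix.single_mul_single_same, Matrix.single_mul_single_of_ne _ _ _ _ hij.symm, mul_one, Matrix.zero_mul]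
  abel

theorem w_ne {i j : Fin 4} (hij : i ≠ j) : w k hij ≠ 0 := by
  intro h0
  have h1 : (w k hij).1 i j = 0 := by rw [h0]; rfl
  change Matrix.single i j 1 i j - Matrix.single j i (1 : k) i j = 0 at h1
  rw [Matrix.single_apply_same, Matrix.single_apply_of_ne, sub_zero] at h1
  · exact one_ne_zero h1
  · rintro ⟨h, -⟩; exact hij h.symm

theorem gen_top {L : Submodule k (A k)} (hL : ∀ g, ∀ v ∈ L, al σ g v ∈ L)
    (h : w k (show (0 : Fin 4) ≠ 1 by decide) ∈ L) : L = ⊤ := by
  have step : ∀ {i j b : Fin 4} (hij : i ≠ j) (hbi : b ≠ i) (hbj : b ≠ j), w k hij ∈ L → w k hbj ∈ L := by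
    intro i j b hij hbi hbj h1
    have h2 := hL (tv b i 1) _ h1
    rw [al_w σ hij hbi hbj] at h2
    have h3 := L.sub_mem h2 h1
    rwa [add_sub_cancel_left] at h3
  have sym : ∀ {i j : Fin 4} (hij : i ≠ j), w k hij ∈ L → w k hij.symm ∈ L := by
    intro i j hij h1
    rw [w_symm hij]
    exact L.neg_mem h1
  have h10 := sym _ h
  have h20 := step (b := 2) _ (by decide) (by decide) h10
  have h30 := step (b := 3) _ (by decide) (by decide) h10
  have h21 := step (b := 2) _ (by decide) (by decide) h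
  have h31 := step (b := 3) _ (by decide) (by decide) h
  have h02 := sym _ h20
  have h03 := sym _ h30
  have h12 := sym _ h21
  have h13 := sym _ h31
  have h23 := step (b := 2) _ (by decide) (by decide) h03
  rw [eq_top_iff]
  rintro X -
  have e1 : X = X.1 0 1 • w k (show (0 : Fin 4) ≠ 1 by decide) + X.1 0 2 • w k (show (0 : Fin 4) ≠ 2 by decide) +
      X.1 0 3 • w k (show (0 : Fin 4) ≠ 3 by decide) + X.1 1 2 • w k (show (1 : Fin 4) ≠ 2 by decide) +
      X.1 1 3 • w k (show (1 : Fin 4) ≠ 3 by decide) + X.1 2 3 • w k (show (2 : Fin 4) ≠ 3 by decide) := by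
    refine A_ext ?_ ?_ ?_ ?_ ?_ ?_ <;>
    · simp only [w, _root_.Fin.isValue, _root_.Submodule.coe_add, _root_.SetLike.val_smul, _root_.Matrix.add_apply, _root_.Matrix.smul_apply, _root_.Matrix.sub_apply, _root_.Matrix.single_apply_same, _root_.one_ne_zero, _root_.zero_ne_one, _root_.and_self, _root_.not_false_eq_true, _root_.Matrix.single_apply_of_ne, _root_.sub_zero, _root_.smul_eq_mul, _root_.mul_one, _root_.Fin.reduceEq, _root_.and_false, _root_.sub_self, _root_.MulZeroClass.mul_zero, _root_.add_zero, _root_.and_true, _root_.zero_add]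
  rw [e1]
  exact L.add_mem (L.add_mem (L.add_mem (L.add_mem (L.add_mem (L.smul_mem _ h) (L.smul_mem _ h02)) (L.smul_mem _ h03))
    (L.smul_mem _ h12)) (L.smul_mem _ h13)) (L.smul_mem _ h23)

/-- the fixed vectors of the unitriangular group -/
theorem fix_eq {X : A k} (h1 : al σ (tv 0 1 1) X = X) (h2 : al σ (tv 1 2 1) X = X) (h3 : al σ (tv 2 3 1) X = X) :
    X = X.1 0 1 • w k (show (0 : Fin 4) ≠ 1 by decide) := by
  have key : ∀ {i j : Fin 4} (hij : i ≠ j), al σ (tv i j 1) X = X → ∀ b, b ≠ i → X.1 j b = 0 := by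
    intro i j hij h b hb
    have h4 := congrArg Subtype.val h
    rw [al_tv σ hij, map_one] at h4
    have h5 := congrFun (congrFun h4 i) b
    rw [Matrix.add_apply, Matrix.add_apply, Matrix.add_apply, Matrix.mul_single_apply_of_ne _ _ _ _ _ hb,
      Matrix.mul_single_apply_of_ne _ _ _ _ _ hb, add_zero, add_zero, Matrix.single_mul_apply_same, one_mul] at h5
    exact left_eq_add.1 h5.symm
  have a := key (by decide) h1
  have b := key (by decide) h2
  have c := key (by decide) h3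
  refine A_ext ?_ ?_ ?_ ?_ ?_ ?_
  · simp [w]
  · rw [← neg_eq_iff_eq_neg.2 (A_symm X 0 2), b 0 (by decide)]; simp [w]
  · rw [← neg_eq_iff_eq_neg.2 (A_symm X 0 3), c 0 (by decide)]; simp [w]
  · rw [a 2 (by decide)]; simp [w]
  · rw [a 3 (by decide)]; simp [w]
  · rw [b 3 (by decide)]; simp [w]

end Cfsg.Agent.H911.Ad.Al
end

-- part: H911/AdAltIrr
section
/-!
# Self-dual `PSL(4, E)` in the defining characteristic, `n ≤ 11`: the alternating square (helper911)
-/

set_option autoImplicit false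
set_option linter.unusedSectionVars false
set_option linter.unusedVariables false

namespace Cfsg.Agent.H911.Ad.Al

open Matrix CoxeterSystem Cfsg.Agent.ChevalleyStructure.CoxeterGeom Cfsg.Agent.Tits.Roots Cfsg.Agent.Tits.Core
  Cfsg.Agent.Tits.Exchange Cfsg.Agent.Nodes.Reps Cfsg.Agent.Nodes.BNOf Cfsg.Agent.Nodes.StabComb
  Cfsg.Agent.Nodes.Bruhat Cfsg.Agent.Nodes.OppDec Cfsg.Agent.Nodes.LeviDec Cfsg.Agent.KFacts.RgdOpp
  Cfsg.Agent.Omega.CR Cfsg.Agent.Omega.FOne.Lift.Sd Cfsg.Agent.Nodes.RootsA Cfsg.Agent.H911 Cfsg.Agent.H905.Md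
open Cfsg.Agent.LieRecognition.BNCox (cA cA_apply)
open Cfsg.Agent.Nodes.RGDTypeA (Mono mem_T tv_val XX tv_mem_XX nn mono_ns X_sr X_neg_sr nsys rgd)
open Cfsg.Agent.TitsThree.KSideA (tv tv_of_ne tv_add tv_zero tv_neg)

variable {k : Type*} [Field k] {E : Type*} [Field E] (σ : E →+* k)

/-- the vector `e₀ ∧ e₁` -/
def c₂ (k : Type*) [Field k] : A k := w k (show (0 : Fin 4) ≠ 1 by decide)

theorem c₂_ne : c₂ k ≠ 0 := w_ne _

instance instNontrivialA : Nontrivial (A k) := ⟨⟨_, _, c₂_ne⟩⟩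

theorem tv_mem (i : Fin 3) (t : E) : tv i.castSucc i.succ t ∈ Nodes.RGDTypeA.X E (sr i) := by
  rw [X_sr]; exact tv_mem_XX _ _ _

theorem tv_mem_neg (i : Fin 3) (t : E) : tv i.succ i.castSucc t ∈ Nodes.RGDTypeA.X E (-sr i) := by
  rw [X_neg_sr]; exact tv_mem_XX _ _ _

section irr

variable {W : Type*} [Group W] {cs : CoxeterSystem (cA 3) W} {A' : Fin 3 → Fin 3 → ℤ} {h : IsCartan (cA 3) A'}
  [Finite E] [Finite W] (p : ℕ) [hp : Fact p.Prime] [hEp : CharP E p] [hkp : CharP k p]
include hp hEp hkp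

theorem exists_fix {L : Submodule k (A k)} (hL : Ivt ((al σ :)) (GG cs h (Nodes.RGDTypeA.T (Fin 4) E) (Nodes.RGDTypeA.X E)) L)
    (h0 : L ≠ ⊥) : ∃ a : k, a ≠ 0 ∧ a • c₂ k ∈ L ∧ a • c₂ k ∈ D cs h (Nodes.RGDTypeA.X E) ((al σ :)) := by
  have R := rgd cs h (F := E) (p := p)
  have hU : RGD.Sup (Nodes.RGDTypeA.X E) (RGD.Pos cs h) ≤ GG cs h (Nodes.RGDTypeA.T (Fin 4) E) (Nodes.RGDTypeA.X E) :=
    RGD.Sup_le fun x hx => X_le_GG hx.1
  obtain ⟨X, hvL, hv0, hv⟩ := exists_fixed ((al σ :)) R.isPGroup_Upos L (fun a ha v hv => hL a (hU ha) v hv) h0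
  have hvD : X ∈ D cs h (Nodes.RGDTypeA.X E) ((al σ :)) := hv
  have h1 : X = X.1 0 1 • c₂ k :=
    fix_eq σ (X_fix R ((al σ :)) hvD 0 (tv_mem 0 1)) (X_fix R ((al σ :)) hvD 1 (tv_mem 1 1)) (X_fix R ((al σ :)) hvD 2 (tv_mem 2 1))
  refine ⟨X.1 0 1, ?_, h1 ▸ hvL, h1 ▸ hvD⟩
  intro h2
  apply hv0
  rw [h1, h2, zero_smul]

theorem mod_irr (L : Submodule k (A k))
    (hL : Ivt ((al σ :)) (GG cs h (Nodes.RGDTypeA.T (Fin 4) E) (Nodes.RGDTypeA.X E)) L) : L = ⊥ ∨ L = ⊤ := by
  by_cases h0 : L = ⊥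
  · exact Or.inl h0
  right
  obtain ⟨a, ha, h1, -⟩ := exists_fix (σ := σ) p hL h0
  refine gen_top σ (fun g v hv => hL g ?_ v hv) ?_
  · rw [gg_eq_top (Nodes.RGDTypeA.G1_eq_top cs h)]; trivial
  · have h2 := L.smul_mem a⁻¹ h1
    rwa [smul_smul, inv_mul_cancel₀ ha, one_smul] at h2

theorem c₂_mem : c₂ k ∈ D cs h (Nodes.RGDTypeA.X E) ((al σ :)) := by
  obtain ⟨a, ha, -, h2⟩ := exists_fix (σ := σ) (cs := cs) (h := h) p (L := ⊤) (fun _ _ _ _ => trivial) top_ne_bot
  have h3 := (D cs h (Nodes.RGDTypeA.X E) ((al σ :))).smul_mem a⁻¹ h2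
  rwa [smul_smul, inv_mul_cancel₀ ha, one_smul] at h3

omit [Finite E] [Finite W] hp hEp hkp in
theorem al_T {t : _root_.Matrix.SpecialLinearGroup (Fin 4) E} (ht : t ∈ Nodes.RGDTypeA.T (Fin 4) E) :
    al σ t (c₂ k) = σ (t.1 0 0 * t.1 1 1) • c₂ k := by
  have h1 : mp σ t = Matrix.diagonal fun i => σ (t.1 i i) := by
    unfold mp
    conv_lhs => rw [KFacts.MulOdd.TypeA.eq_diagonal ht]
    rw [Matrix.diagonal_map (map_zero σ)]
  have hent : ∀ i j, (al σ t (c₂ k)).1 i j = σ (t.1 i i) * (c₂ k).1 i j * σ (t.1 j j) := by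
    intro i j
    rw [al_val, h1, Matrix.diagonal_transpose, Matrix.mul_diagonal, Matrix.diagonal_mul]
  refine A_ext ?_ ?_ ?_ ?_ ?_ ?_ <;> rw [hent]
  · change σ (t.1 0 0) * (w k _).1 0 1 * σ (t.1 1 1) = σ (t.1 0 0 * t.1 1 1) * (w k _).1 0 1
    simp [w]
  all_goals
    change _ = σ (t.1 0 0 * t.1 1 1) * (w k _).1 _ _
    simp [w, c₂]

/-- `J = {0, 2}` -/
theorem mem_Jx_iff (i : Fin 3) : i ∈ Jx cs h (Nodes.RGDTypeA.X E) (al σ : _ →* Module.End k (A k)) ↔ i ≠ 1 := by
  have R := rgd cs h (F := E) (p := p)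
  have hD := D_eq R (mod_irr σ p) (c₂_mem σ p) c₂_ne (χ := fun t => σ (t.1 0 0 * t.1 1 1)) (fun t ht => al_T σ ht)
  constructor
  · rintro hi rfl
    have h1 := hi _ (tv_mem_neg 1 1) (c₂ k) (c₂_mem σ p)
    have h2 : al σ (tv 2 1 1) (w k (show (1 : Fin 4) ≠ 0 by decide)) = w k (show (1 : Fin 4) ≠ 0 by decide) := by
      rw [w_symm (show (0 : Fin 4) ≠ 1 by decide), map_neg]
      exact congrArg Neg.neg h1
    rw [al_w σ (by decide) (by decide) (b := 2) (by decide)] at h2
    exact w_ne _ (left_eq_add.1 h2.symm)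
  · intro hi x hx v hv
    rw [hD] at hv
    obtain ⟨a, rfl⟩ := Submodule.mem_span_singleton.1 hv
    rw [map_smul]
    congr 1
    rw [X_neg_sr] at hx
    obtain ⟨t, rfl⟩ := hx
    apply Subtype.ext
    have h3 : i = 0 ∨ i = 2 := by
      revert hi; revert i; decide
    rcases h3 with rfl | rfl
    · change (al σ (tv 1 0 t) (w k _)).1 = Matrix.single 0 1 1 - Matrix.single 1 0 1
      rw [al_tv σ (by decide)]
      change (Matrix.single 0 1 1 - Matrix.single 1 0 1) + Matrix.single 1 0 (σ t) * (Matrix.single 0 1 1 - Matrix.single 1 0 1) +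
        (Matrix.single 0 1 1 - Matrix.single 1 0 1) * Matrix.single 0 1 (σ t) +
        Matrix.single 1 0 (σ t) * (Matrix.single 0 1 1 - Matrix.single 1 0 1) * Matrix.single 0 1 (σ t) =
        Matrix.single 0 1 1 - Matrix.single 1 0 (1 : k)
      simp [Matrix.mul_sub, Matrix.sub_mul, Matrix.single_mul_single_of_ne]
    · change (al σ (tv 3 2 t) (w k _)).1 = Matrix.single 0 1 1 - Matrix.single 1 0 1
      rw [al_tv σ (by decide)]
      change (Matrix.single 0 1 1 - Matrix.single 1 0 1) + Matrix.single 3 2 (σ t) * (Matrix.single 0 1 1 - Matrix.single 1 0 1) +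
        (Matrix.single 0 1 1 - Matrix.single 1 0 1) * Matrix.single 2 3 (σ t) +
        Matrix.single 3 2 (σ t) * (Matrix.single 0 1 1 - Matrix.single 1 0 1) * Matrix.single 2 3 (σ t) =
        Matrix.single 0 1 1 - Matrix.single 1 0 (1 : k)
      simp [Matrix.mul_sub, Matrix.sub_mul, Matrix.single_mul_single_of_ne]

end irr

/-! ### the Pfaffian -/

/-- the Pfaffian -/
def pf (X : A k) : k := X.1 0 1 * X.1 2 3 - X.1 0 2 * X.1 1 3 + X.1 0 3 * X.1 1 2

theorem pf_al (g : _root_.Matrix.SpecialLinearGroup (Fin 4) E) (X : A k) : pf (al σ g X) = pf X := by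
  have hdet : (mp σ g).det = 1 := by
    have h1 : (mp σ g).det = σ (g.1.det) := (RingHom.map_det σ g.1).symm
    rw [h1, g.2, map_one]
  have hs := A_symm X
  have hd := X.2.2
  set G := mp σ g with hG
  have h1 : pf (al σ g X) = G.det * pf X := by
    unfold pf
    simp only [al_val, ← hG, Matrix.mul_apply, Fin.sum_univ_four, Matrix.transpose_apply]
    rw [Matrix.det_succ_row_zero]
    simp only [Fin.sum_univ_four, Matrix.det_fin_three, Matrix.submatrix_apply, hd 0, hd 1, hd 2, hd 3, hs 0 1, hs 0 2, hs 0 3,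
      hs 1 2, hs 1 3, hs 2 3]
    simp only [Fin.succAbove, _root_.Fin.isValue, _root_.MulZeroClass.mul_zero, _root_.mul_neg, _root_.zero_add, _root_.add_zero, _root_.Nat.succ_eq_add_one, _root_.Nat.reduceAdd, _root_.Fin.coe_ofNat_eq_mod, _root_.Nat.zero_mod, _root_.pow_zero, _root_.one_mul, _root_.Fin.succ_zero_eq_one, _root_.Fin.castSucc_zero, _root_.lt_self_iff_false, ↓ _root_.reduceIte, _root_.Fin.succ_one_eq_two, _root_.Fin.castSucc_one, _root_.not_lt_zero, _root_.Fin.reduceSucc, _root_.Fin.reduceCastSucc, _root_.Nat.one_mod, _root_.pow_one, _root_.neg_mul, _root_.zero_lt_one, _root_.Fin.lt_one_iff, _root_.Fin.reduceEq, _root_.Nat.reduceMod, _root_.even_two, _root_.Even.neg_pow, _root_.one_pow, _root_.Fin.reduceLT, _root_.Nat.mod_succ]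
    ring
  rw [h1, hdet, one_mul]

theorem pf_smul (a : k) (X : A k) : pf (a • X) = a ^ 2 * pf X := by
  unfold pf
  change a * X.1 0 1 * (a * X.1 2 3) - a * X.1 0 2 * (a * X.1 1 3) + a * X.1 0 3 * (a * X.1 1 2) = _
  ring

/-- the polar form -/
def bl (X Y : A k) : k := X.1 0 1 * Y.1 2 3 + Y.1 0 1 * X.1 2 3 - X.1 0 2 * Y.1 1 3 - Y.1 0 2 * X.1 1 3 +
  X.1 0 3 * Y.1 1 2 + Y.1 0 3 * X.1 1 2

theorem polar_pf (X Y : A k) : pf (X + Y) - pf X - pf Y = bl X Y := by
  unfold pf bl
  change (X.1 0 1 + Y.1 0 1) * (X.1 2 3 + Y.1 2 3) - (X.1 0 2 + Y.1 0 2) * (X.1 1 3 + Y.1 1 3) +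
    (X.1 0 3 + Y.1 0 3) * (X.1 1 2 + Y.1 1 2) - _ - _ = _
  ring

theorem bl_symm (X Y : A k) : bl X Y = bl Y X := by unfold bl; ring

theorem bl_add (X Y Z : A k) : bl (X + Y) Z = bl X Z + bl Y Z := by
  unfold bl
  change (X.1 0 1 + Y.1 0 1) * Z.1 2 3 + Z.1 0 1 * (X.1 2 3 + Y.1 2 3) - (X.1 0 2 + Y.1 0 2) * Z.1 1 3 -
    Z.1 0 2 * (X.1 1 3 + Y.1 1 3) + (X.1 0 3 + Y.1 0 3) * Z.1 1 2 + Z.1 0 3 * (X.1 1 2 + Y.1 1 2) = _
  ring

theorem bl_smul (a : k) (X Z : A k) : bl (a • X) Z = a * bl X Z := by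
  unfold bl
  change a * X.1 0 1 * Z.1 2 3 + Z.1 0 1 * (a * X.1 2 3) - a * X.1 0 2 * Z.1 1 3 - Z.1 0 2 * (a * X.1 1 3) +
    a * X.1 0 3 * Z.1 1 2 + Z.1 0 3 * (a * X.1 1 2) = _
  ring

theorem bl_nondeg {X : A k} (hX : X ≠ 0) : ∃ Y, bl X Y ≠ 0 := by
  by_contra hcon
  push Not at hcon
  apply hX
  have h01 := hcon (w k (show (2 : Fin 4) ≠ 3 by decide))
  have h02 := hcon (w k (show (1 : Fin 4) ≠ 3 by decide))
  have h03 := hcon (w k (show (1 : Fin 4) ≠ 2 by decide))
  have h12 := hcon (w k (show (0 : Fin 4) ≠ 3 by decide))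
  have h13 := hcon (w k (show (0 : Fin 4) ≠ 2 by decide))
  have h23 := hcon (w k (show (0 : Fin 4) ≠ 1 by decide))
  simp only [bl, w, _root_.Fin.isValue, _root_.Matrix.sub_apply, _root_.Matrix.single_apply_same, _root_.Fin.reduceEq, _root_.and_self, _root_.not_false_eq_true, _root_.Matrix.single_apply_of_ne, _root_.sub_zero, _root_.mul_one, _root_.sub_self, _root_.MulZeroClass.zero_mul, _root_.add_zero, _root_.and_true, _root_.MulZeroClass.mul_zero, _root_.one_ne_zero, _root_.zero_sub, _root_.and_false, _root_.neg_eq_zero, _root_.zero_add, _root_.zero_ne_one, _root_.one_mul] at h01 h02 h03 h12 h13 h23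
  exact A_ext h01 h02 h03 h12 h13 h23

/-- the coordinates -/
def cd (k : Type*) [Field k] : (Fin 6 → k) ≃ₗ[k] A k where
  toFun a := ⟨!![0, a 0, a 1, a 2; -a 0, 0, a 3, a 4; -a 1, -a 3, 0, a 5; -a 2, -a 4, -a 5, 0], by
    constructor
    · ext i j
      (revert i j; simp only [_root_.Fin.forall_fin_succ, Fin.isValue, _root_.Matrix.transpose_apply, _root_.Matrix.of_apply, _root_.Matrix.cons_val', _root_.Matrix.cons_val_fin_one, _root_.Matrix.neg_apply, _root_.Matrix.cons_val_zero, _root_.Matrix.cons_val_succ, _root_.forall_const, _root_.neg_zero, _root_.and_self, _root_.neg_neg, _root_.implies_true])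
    · intro i
      fin_cases i <;> rfl⟩
  map_add' a b := by
    refine A_ext ?_ ?_ ?_ ?_ ?_ ?_ <;> rfl
  map_smul' c a := by
    refine A_ext ?_ ?_ ?_ ?_ ?_ ?_ <;> rfl
  invFun X := ![X.1 0 1, X.1 0 2, X.1 0 3, X.1 1 2, X.1 1 3, X.1 2 3]
  left_inv a := by
    funext i
    fin_cases i <;> rfl
  right_inv X := by
    refine A_ext ?_ ?_ ?_ ?_ ?_ ?_ <;> rfl

theorem finrank_A : Module.finrank k (A k) = 6 := by
  rw [← LinearEquiv.finrank_eq (cd k), Module.finrank_fintype_fun_eq_card, Fintype.card_fin]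

end Cfsg.Agent.H911.Ad.Al

namespace Cfsg.Agent.H911.Ad

open Matrix CoxeterSystem Cfsg.Agent.ChevalleyStructure.CoxeterGeom Cfsg.Agent.Tits.Roots Cfsg.Agent.Tits.Core
  Cfsg.Agent.Tits.Exchange Cfsg.Agent.Nodes.Reps Cfsg.Agent.Nodes.BNOf Cfsg.Agent.Nodes.StabComb
  Cfsg.Agent.Nodes.Bruhat Cfsg.Agent.Nodes.OppDec Cfsg.Agent.Nodes.LeviDec Cfsg.Agent.KFacts.RgdOpp
  Cfsg.Agent.Omega.CR Cfsg.Agent.Omega.FOne.Lift.Sd Cfsg.Agent.Nodes.RootsA Cfsg.Agent.H911 Cfsg.Agent.H905.Md
open Cfsg Cfsg.Geo Cfsg.Agent.H915.LD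
open Cfsg.Agent.H911.SLTwo (U Lo hh ww hh00 hh01 hh10 hh11)
open Cfsg.Agent.LieRecognition.BNCox (cA cA_apply)
open Cfsg.Agent.Nodes.RGDTypeA (Mono mem_T rgd)
open scoped MatrixGroups Matrix

theorem fin_three_cases : ∀ j : Fin 3, j = 0 ∨ j = 1 ∨ j = 2 := by decide

section frame

variable {W : Type*} [Group W] {cs : CoxeterSystem (cA 3) W} {A : Fin 3 → Fin 3 → ℤ} {h : IsCartan (cA 3) A}
  {E : Type*} [Field E] [Finite E] [Finite W] (p : ℕ) [hp : Fact p.Prime] [hEp : CharP E p]
  {k V : Type*} [Field k] [hkp : CharP k p]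
  [AddCommGroup V] [Module k V] [FiniteDimensional k V] [Nontrivial V]
  {ρ : _root_.Matrix.SpecialLinearGroup (Fin 4) E →* Module.End k V}
  (hirr : ∀ L : Submodule k V, Ivt ρ (GG cs h (Nodes.RGDTypeA.T (Fin 4) E) (Nodes.RGDTypeA.X E)) L → L = ⊥ ∨ L = ⊤)
  {c : V} (hc : c ∈ D cs h (Nodes.RGDTypeA.X E) ρ) (hc0 : c ≠ 0)
  {χ : _root_.Matrix.SpecialLinearGroup (Fin 4) E → k} (hχ : ∀ t ∈ Nodes.RGDTypeA.T (Fin 4) E, ρ t c = χ t • c)
  {B : V →ₗ[k] V →ₗ[k] k} (hB : ∀ g x y, B (ρ g x) (ρ g y) = B x y) (hB0 : ∀ x, (∀ y, B x y = 0) → x = 0)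
include hp hEp hkp hirr hc hc0 hχ hB hB0

theorem finrank_D4 : Module.finrank k (D cs h (Nodes.RGDTypeA.X E) ρ) = 1 := by
  rw [D_eq (rgd cs h (F := E) (p := p)) hirr hc hc0 hχ]
  exact finrank_span_singleton hc0

theorem Jx_four (hV : 2 ≤ Module.finrank k V) (hn : Module.finrank k V ≤ 11) (i : Fin 3) :
    i ∈ Jx cs h (Nodes.RGDTypeA.X E) ρ ↔ i ≠ 1 := by
  have R := rgd cs h (F := E) (p := p)
  have hD := finrank_D4 p hirr hc hc0 hχ hB hB0
  have h02 : (0 : Fin 3) ∈ Jx cs h (Nodes.RGDTypeA.X E) ρ ∧ (2 : Fin 3) ∈ Jx cs h (Nodes.RGDTypeA.X E) ρ := by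
    have hr : ∀ i : Fin 3, i ∈ Jx cs h (Nodes.RGDTypeA.X E) ρ → i.rev ∈ Jx cs h (Nodes.RGDTypeA.X E) ρ :=
      fun i hi => Jx_rev (l := 3) p hirr hc hc0 hχ hB hB0 hi
    have e0 : (0 : Fin 3).rev = 2 := by decide
    have e2 : (2 : Fin 3).rev = 0 := by decide
    by_contra hcon
    have h0 : (0 : Fin 3) ∉ Jx cs h (Nodes.RGDTypeA.X E) ρ := fun h0 => hcon ⟨h0, e0 ▸ hr 0 h0⟩
    have h2 : (2 : Fin 3) ∉ Jx cs h (Nodes.RGDTypeA.X E) ρ := fun h2 => hcon ⟨e2 ▸ hr 2 h2, h2⟩
    have h3 := two_ends R hirr (i := 0) (j := 2) rfl rfl h0 h2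
    rw [hD] at h3
    omega
  constructor
  · rintro hi rfl
    obtain ⟨j, hj⟩ := exists_not_mem R hirr (by rw [hD]; omega)
    apply hj
    rcases fin_three_cases j with rfl | rfl | rfl
    · exact h02.1
    · exact hi
    · exact h02.2
  · intro hi
    rcases fin_three_cases i with rfl | rfl | rfl
    · exact h02.1
    · exact (hi rfl).elim
    · exact h02.2

/-- **the character is `σ(t₁ t₂)`** -/
theorem exists_sigma4 (hV : 2 ≤ Module.finrank k V) (hn : Module.finrank k V ≤ 11) :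
    ∃ σ : E →+* k, ∀ t ∈ Nodes.RGDTypeA.T (Fin 4) E, χ t = σ (t.1 0 0 * t.1 1 1) := by
  have R := rgd cs h (F := E) (p := p)
  have hD := finrank_D4 p hirr hc hc0 hχ hB hB0
  have hJ := Jx_four p hirr hc hc0 hχ hB hB0 hV hn
  have h1 : (1 : Fin 3) ∉ Jx cs h (Nodes.RGDTypeA.X E) ρ := fun h1 => (hJ 1).1 h1 rfl
  have hIo : Module.finrank k (Io cs h (Nodes.RGDTypeA.T (Fin (3 + 1)) E) (Nodes.RGDTypeA.X E) ρ 1) = 0 := by
    have h2 := dim_ge_A R hirr h1
    rw [hD] at h2
    have h3 : (3 + 1).choose ((1 : Fin 3).val + 1) = 6 := rfl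
    have h4 : (3 + 1).choose 2 = 6 := rfl
    rw [h3, h4] at h2
    omega
  obtain ⟨σ, hσ⟩ := exists_sigma_A p hirr hc hc0 hχ h1 (edge_of_Io R hirr h1 hIo)
  have hσ0 := chi_bk_of_mem p hc hc0 hχ ((hJ 0).2 (by decide))
  have hσ2 := chi_bk_of_mem p hc hc0 hχ ((hJ 2).2 (by decide))
  refine ⟨σ, fun t ht => ?_⟩
  have h0 : ∀ j, t.1 j j ≠ 0 := fun j => (mem_T.1 ht).apply_ne_zero j
  have hdet : t.1 0 0 * t.1 1 1 * t.1 2 2 * t.1 3 3 = 1 := by
    have h1 := t.2
    rw [KFacts.MulOdd.TypeA.eq_diagonal ht, Matrix.det_diagonal, Fin.prod_univ_four] at h1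
    exact h1
  have e : t = bk E 0 (hh (Units.mk0 _ (h0 0))) * bk E 1 (hh (Units.mk0 _ (h0 0) * Units.mk0 _ (h0 1))) *
      bk E 2 (hh (Units.mk0 _ (h0 3))⁻¹) := by
    refine T_ext ht (mul_mem (mul_mem (bk_hh_mem _ _) (bk_hh_mem _ _)) (bk_hh_mem _ _)) fun j => ?_
    rw [T_mul_diag (mul_mem (bk_hh_mem _ _) (bk_hh_mem _ _)) (bk_hh_mem _ _),
      T_mul_diag (bk_hh_mem _ _) (bk_hh_mem _ _), bk_hh_diag, bk_hh_diag, bk_hh_diag]
    have h00 := h0 0
    have h11 := h0 1
    have h33 := h0 3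
    fin_cases j
    · simp
    · simp only [_root_.Nat.reduceAdd, _root_.Fin.mk_one, _root_.Fin.isValue, _root_.Fin.castSucc_zero, _root_.one_ne_zero, ↓ _root_.reduceIte, _root_.Fin.succ_zero_eq_one, _root_.Units.val_inv_eq_inv_val, _root_.Units.val_mk0, _root_.Fin.castSucc_one, _root_.Units.val_mul, _root_.Fin.reduceCastSucc, _root_.Fin.reduceEq, _root_.Fin.reduceSucc, _root_.mul_one]
      field_simp
    · simp only [_root_.Nat.reduceAdd, _root_.Fin.reduceFinMk, _root_.Fin.isValue, _root_.Fin.castSucc_zero, _root_.Fin.reduceEq, ↓ _root_.reduceIte, _root_.Fin.succ_zero_eq_one, _root_.Fin.castSucc_one, _root_.Fin.succ_one_eq_two, _root_.mul_inv_rev, _root_.Units.val_mul, _root_.Units.val_inv_eq_inv_val, _root_.Units.val_mk0, _root_.one_mul, _root_.Fin.reduceCastSucc]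
      field_simp
      linear_combination hdet
    · simp
  have hm := chi_mul' hc0 hχ (mul_mem (bk_hh_mem (0 : Fin 3) (Units.mk0 _ (h0 0)))
    (bk_hh_mem (1 : Fin 3) (Units.mk0 _ (h0 0) * Units.mk0 _ (h0 1)))) (bk_hh_mem (2 : Fin 3) (Units.mk0 _ (h0 3))⁻¹)
  rw [← e, chi_mul' hc0 hχ (bk_hh_mem (0 : Fin 3) (Units.mk0 _ (h0 0)))
    (bk_hh_mem (1 : Fin 3) (Units.mk0 _ (h0 0) * Units.mk0 _ (h0 1))), hσ, hσ0, hσ2, one_mul, mul_one] at hm
  rw [hm, Units.val_mul, Units.val_mk0, Units.val_mk0]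

end frame

section P

variable {F : Type*} [Field F] [Finite F] {ι : Type} [Fintype ι] [DecidableEq ι] {P : Subgroup (GL ι F)}
  {E : Type*} [Field E] [Finite E] (p : ℕ) [hp : Fact p.Prime] [hFp : CharP F p] [hEp : CharP E p]
include hp hFp hEp

/-- **Self-dual `PSL(4, E)` in the defining characteristic, `n ≤ 11`: the alternating square.** -/
theorem psl4_model (hC : Core P) (hsd : SD P) (Φ : Soc P ≃* ProjectiveSpecialLinearGroup (Fin 4) E)
    (hn : Fintype.card ι ≤ 11) : ∃ (σ : E →+* F) (φ : _root_.Matrix.SpecialLinearGroup (Fin 4) E →* GL ι F) (θ : (ι → F) ≃ₗ[F] Al.A F),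
      Function.Bijective σ ∧ φ.range = P ∧ ∀ g v, θ ((φ g : Matrix ι ι F) *ᵥ v) = Al.al σ g (θ v) := by
  obtain ⟨φ, hφ, -, -⟩ := psl_cover (l := 3) p hC.perfect (by omega) (by omega) Φ
  have hne := hC.nonempty
  have h2 := hC.two_le
  have : Finite (cA 3).Group := finite_W (cA 3).toCoxeterSystem (isCartan 3)
  have R := rgd (cA 3).toCoxeterSystem (isCartan 3) (F := E) (p := p)
  have hG : GG (cA 3).toCoxeterSystem (isCartan 3) (Nodes.RGDTypeA.T (Fin 4) E) (Nodes.RGDTypeA.X E) = ⊤ :=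
    gg_eq_top (Nodes.RGDTypeA.G1_eq_top _ _)
  have hirr := mrep_irr hφ hC.absIrred hG
  obtain ⟨c, hc, hc0, χ, hχ⟩ := exists_chiF R hG slT_comm hφ hC.absIrred
  obtain ⟨B, hB, hB0⟩ := exists_B hφ hC.absIrred hsd
  have hfr : Module.finrank F (ι → F) = Fintype.card ι := Module.finrank_fintype_fun_eq_card F
  obtain ⟨σ, hσ⟩ := exists_sigma4 p hirr hc hc0 hχ hB hB0 (by omega) (by omega)
  have hJ := Jx_four p hirr hc hc0 hχ hB hB0 (by omega) (by omega)
  obtain ⟨θ, hθ⟩ := iso_of_chi_J R (lin (mrep φ)) (Al.al σ) hirr (Al.mod_irr σ p) hc hc0 (Al.c₂_mem σ p) Al.c₂_ne hχ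
    (fun t ht => by rw [Al.al_T σ ht, hσ t ht]) (fun i => (hJ i).trans (Al.mem_Jx_iff σ p i).symm)
  refine ⟨σ, φ, θ, ?_, hφ, fun g v => ?_⟩
  · have h3 : Nat.card E ≤ Nat.card F := Nat.card_le_card_of_injective _ σ.injective
    obtain ⟨j, hj, h4⟩ := psl_card (l := 3) p hC.absIrred hC.perfect (by omega) (by omega) Φ hC.no_subfield
    have h5 : Nat.card F ≤ Nat.card F ^ j := Nat.le_self_pow (by omega) _
    rw [h4] at h5
    exact (Nat.bijective_iff_injective_and_card σ).2 ⟨σ.injective, le_antisymm h3 h5⟩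
  · rw [← mrep_apply]
    exact hθ g (by rw [hG]; trivial) v

/-- **Self-dual `PSL(4, E)`, `char E = char F = p`, `n ≤ 11`.** -/
theorem sd_psl4 (hC : Core P) (hsd : SD P) (Φ : Soc P ≃* ProjectiveSpecialLinearGroup (Fin 4) E)
    (hn : Fintype.card ι ≤ 11) :
    Nat.card F = Nat.card E ∧ Fintype.card ι = 6 ∧ FixQ P ∧
      (∀ Q : (ι → F) → F, IsNondegenerateQuadraticForm Q → FixesQuadForm (matrixSet P) Q → IsPlusTypeOn Q ⊤) := by
  obtain ⟨σ, φ, θ, hσ, hφ, hθ⟩ := psl4_model p hC hsd Φ hn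
  have h1 : Module.finrank F (ι → F) = Fintype.card ι := Module.finrank_fintype_fun_eq_card F
  have hpol : ∀ u v, QuadraticMap.polar (fun v => Al.pf (θ v)) u v = Al.bl (θ u) (θ v) := by
    intro u v
    change Al.pf (θ (u + v)) - Al.pf (θ u) - Al.pf (θ v) = _
    rw [map_add, Al.polar_pf]
  have hQ : IsNondegenerateQuadraticForm (fun v => Al.pf (θ v)) :=
    { smul := fun c v => by
        change Al.pf (θ (c • v)) = _
        rw [map_smul, Al.pf_smul]
      polar_bilinear :=
        { add_left := fun x y v => by rw [hpol, hpol, hpol, map_add, Al.bl_add]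
          smul_left := fun c x v => by rw [hpol, hpol, map_smul, Al.bl_smul]
          add_right := fun v x y => by
            rw [hpol, hpol, hpol, map_add, Al.bl_symm, Al.bl_add, Al.bl_symm _ (θ v), Al.bl_symm _ (θ v)]
          smul_right := fun c v x => by rw [hpol, hpol, map_smul, Al.bl_symm, Al.bl_smul, Al.bl_symm _ (θ v)] }
      nondegenerate := by
        intro v hv
        obtain ⟨Y, hY⟩ := Al.bl_nondeg (X := θ v) (fun h0 => hv (θ.map_eq_zero_iff.1 h0))
        refine ⟨⟨θ.symm Y, ?_⟩, ⟨θ.symm Y, ?_⟩⟩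
        · rw [hpol, θ.apply_symm_apply, Al.bl_symm]
          exact hY
        · rw [hpol, θ.apply_symm_apply]
          exact hY }
  have hQP : FixesQuadForm (matrixSet P) (fun v => Al.pf (θ v)) := by
    rintro s ⟨g, hg, rfl⟩ v
    rw [SetLike.mem_coe, ← hφ] at hg
    obtain ⟨y, rfl⟩ := hg
    change Al.pf (θ ((φ y : Matrix ι ι F) *ᵥ v)) = Al.pf (θ v)
    rw [hθ, Al.pf_al]
  have hcard : Fintype.card ι = 6 := by rw [← h1, LinearEquiv.finrank_eq θ, Al.finrank_A]
  refine ⟨(Nat.card_congr (Equiv.ofBijective σ hσ)).symm, hcard, ⟨_, hQ, hQP⟩, fun Q' hQ' hQP' => ?_⟩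
  obtain ⟨a, -, ha⟩ := quad_unique hC hQ hQP hQ' hQP'
  refine plus_of_smul ha ?_
  let L : (Fin 3 → F) →ₗ[F] (ι → F) := θ.symm.toLinearMap.comp ((Al.cd F).toLinearMap.comp
    (LinearMap.pi ![LinearMap.proj 0, LinearMap.proj 1, LinearMap.proj 2, 0, 0, 0]))
  have hL : ∀ a, θ (L a) = Al.cd F (fun i => (![LinearMap.proj 0, LinearMap.proj 1, LinearMap.proj 2, 0, 0, 0] i :
    (Fin 3 → F) →ₗ[F] F) a) := fun a => θ.apply_symm_apply _
  refine ⟨LinearMap.range L, le_top, ?_, ?_⟩
  · rintro _ ⟨a, rfl⟩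
    change Al.pf (θ (L a)) = 0
    rw [hL]
    change _ * (0 : F) - _ * 0 + _ * 0 = 0
    ring
  · have hinj : Function.Injective L := by
      rw [injective_iff_map_eq_zero]
      intro a ha
      have h3 := hL a
      rw [ha, map_zero] at h3
      have h4 := (Al.cd F).map_eq_zero_iff.1 h3.symm
      funext i
      fin_cases i
      · exact congrFun h4 0
      · exact congrFun h4 1
      · exact congrFun h4 2
    rw [LinearMap.finrank_range_of_inj hinj, finrank_top, h1, hcard, Module.finrank_fintype_fun_eq_card, Fintype.card_fin]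

end P

end Cfsg.Agent.H911.Ad
end

private theorem dce_150523a65178 : _root_.True := by
  try have : _root_.True := by simp only [_root_.Cfsg.Agent.H911.Ad.Al.c₂.eq_1]
  try have : _root_.True := by simp only [_root_.Cfsg.Agent.H911.Ad.Al.bl.eq_1]
  try have : _root_.True := by simp only [_root_.Cfsg.Agent.H911.Ad.Al.w.eq_1]
  exact _root_.True.intro
end
end
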