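import Cfsg.Agent.H937.SmallElim
import Cfsg.Agent.OrdDiv.Table
import Cfsg.Agent.Prune
set_option linter.all false
prune_inst 0x7f00000000000000000000000000000000000000000000000000000000000000000000000000000000000000000000000000000000000000000000000000000000000000000000000000000000000000003fffffffffffffffffffffffffffbeffbdffffffff

/-!
`SmallElim.small_elim_of` without the hypothesis on the table of orders.
-/

set_option autoImplicit false
open Cfsg Cfsg.Agent.OrdDiv Cfsg.Agent.H704

universe u

namespace Cfsg.Agent.H937.SmallElim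

theorem small_elim {n : ℕ} (h5 : 5 ≤ n) (h9 : n ≤ 9) {T : Type u} [Group T] [Finite T] [IsSimpleGroup T] (hkn : IsKnownSimple' T)
    (hna : ¬ IsMulCommutative T) (hd : DegOK n T) (hdvd : 2 * Nat.card T ∣ n.factorial) (h5T : 5 ∣ Nat.card T)
    (h7T : 7 ≤ n → 7 ∣ Nat.card T ∨ 2 * Nat.card T * 60 ≤ n.factorial) :
    Nonempty (T ≃* alternatingGroup (Fin n)) ∨
      (n = 8 ∧ ∃ (F : Type) (_ : Field F) (_ : Fintype F), Fintype.card F = 4 ∧ Nonempty (T ≃* Matrix.ProjectiveSpecialLinearGroup (Fin 3) F)) :=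
  small_elim_of Cfsg.Agent.OrdDiv.table h5 h9 hkn hna hd hdvd h5T h7T

end Cfsg.Agent.H937.SmallElim
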