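import Mathlib
import Cfsg.Agent.H937.Odd2
import Cfsg.Agent.S0803
set_option linter.all false

-- part: H937/Meet
section
/-!
# Intersections of maximal subgroups of `PGL₂(q)` with `PSL₂(q)`
-/

set_option autoImplicit false
set_option linter.style.haveILetI false

namespace Cfsg.Agent.H937

open Matrix
open Cfsg.Agent.ClassicalGeometry.PSL2Basic
open Cfsg.Agent.ClassicalGeometry.KleinCount
open Cfsg.Agent.ClassicalGeometry.DicksonSubfield (gl_mul00 gl_mul01 gl_mul10 gl_mul11 gl_det_ne)

section arith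

theorem not_dvd_of_coprime {q r m x : ℕ} (hq : r ^ m = q) (hr : 1 < r) (hlt : r < q)
    (hx : x ∣ r * (r ^ 2 - 1)) (h : q ∣ x) : False := by
  have h1 : q ∣ r * (r ^ 2 - 1) := h.trans hx
  have h2 : Nat.Coprime q (r ^ 2 - 1) := by
    rw [← hq]
    apply Nat.Coprime.pow_left
    have h3 : 1 < r ^ 2 := Nat.one_lt_pow two_ne_zero hr
    have h4 : Nat.Coprime (r ^ 2) (r ^ 2 - 1) := by
      rw [Nat.coprime_self_sub_right h3.le]
      exact Nat.coprime_one_right _
    exact Nat.Coprime.coprime_dvd_left (dvd_pow_self r two_ne_zero) h4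
  have h3 := Nat.le_of_dvd (by omega) (h2.dvd_of_dvd_mul_right h1)
  omega

/-- Divisibility between orders of subfield groups. -/
theorem dvd_of_sub_one_dvd {p a a' : ℕ} (hp : 2 ≤ p) (ha : 0 < a)
    (h : p ^ (2 * a) - 1 ∣ 2 * (p ^ (2 * a') - 1)) : a ∣ a' := by
  have h1 : p ^ (2 * a) - 1 ∣ 2 * (p ^ (Nat.gcd (2 * a) (2 * a')) - 1) := by
    rw [← Nat.pow_sub_one_gcd_pow_sub_one, ← Nat.gcd_mul_left]
    exact Nat.dvd_gcd (Dvd.intro_left 2 rfl) h
  rw [Nat.gcd_mul_left] at h1
  have hg : Nat.gcd a a' ∣ a := Nat.gcd_dvd_left a a'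
  by_contra hcon
  obtain ⟨c, hc⟩ := hg
  have hc1 : c ≠ 1 := by
    rintro rfl
    apply hcon
    rw [hc, mul_one]
    exact Nat.gcd_dvd_right a a'
  have hc0 : c ≠ 0 := by
    rintro rfl
    omega
  have hg0 : 0 < Nat.gcd a a' := Nat.gcd_pos_of_pos_left _ ha
  have h2g : 2 * Nat.gcd a a' ≤ a := by
    calc 2 * Nat.gcd a a' = Nat.gcd a a' * 2 := mul_comm _ _
      _ ≤ Nat.gcd a a' * c := Nat.mul_le_mul_left _ (by omega)
      _ = a := hc.symm
  have h3 : p ^ (2 * Nat.gcd a a') ≤ p ^ a := Nat.pow_le_pow_right (by omega) h2g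
  have h4 : 2 ≤ p ^ a := by
    calc 2 ≤ p := hp
      _ = p ^ 1 := (pow_one p).symm
      _ ≤ p ^ a := Nat.pow_le_pow_right (by omega) ha
  have h5 : 1 < p ^ (2 * Nat.gcd a a') := Nat.one_lt_pow (by omega) (by omega)
  have h6 := Nat.le_of_dvd (by omega) h1
  have h7 : p ^ (2 * a) = p ^ a * p ^ a := by rw [← pow_add]; congr 1; omega
  rw [h7] at h6
  have h8 : p ^ a * 2 ≤ p ^ a * p ^ a := Nat.mul_le_mul_left _ h4
  omega

end arith

section groups

/-- Alternating groups have no subgroup of index two. -/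
theorem alt_index_two {n : ℕ} (H : Subgroup (alternatingGroup (Fin n))) (h : H.index = 2) :
    False := by
  have hn : H.Normal := Subgroup.normal_of_index_eq_two h
  have htop : H = ⊤ := by
    obtain ⟨K, hKdef⟩ : ∃ K, K = H.map (alternatingGroup (Fin n)).subtype := ⟨_, rfl⟩
    have hK : alternatingGroup (Fin n) ≤ K := by
      rw [← Equiv.Perm.closure_three_cycles_eq_alternating, Subgroup.closure_le]
      intro σ hσ
      rw [hKdef]
      have hσ3 : Equiv.Perm.IsThreeCycle σ := hσ
      have hσA : σ ∈ alternatingGroup (Fin n) := hσ3.mem_alternatingGroup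
      refine ⟨⟨σ, hσA⟩, ?_, rfl⟩
      have h3 : (⟨σ, hσA⟩ : alternatingGroup (Fin n)) ^ 3 = 1 := by
        apply Subtype.ext
        have h4 := pow_orderOf_eq_one σ
        rw [hσ3.orderOf] at h4
        exact h4
      have h4 : (⟨σ, hσA⟩ : alternatingGroup (Fin n)) =
          (⟨σ, hσA⟩ ^ 2) * (⟨σ, hσA⟩ ^ 2) := by
        rw [← pow_add, show 2 + 2 = 3 + 1 from rfl, pow_succ, h3, one_mul]
      rw [SetLike.mem_coe, h4]
      exact Subgroup.mul_self_mem_of_index_two h _
    rw [eq_top_iff]
    intro x _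
    rw [hKdef] at hK
    obtain ⟨y, hy, hy'⟩ := hK x.2
    have : y = x := Subtype.ext hy'
    rwa [this] at hy
  rw [htop, Subgroup.index_top] at h
  omega

/-- Elements of order three of a dihedral group commute. -/
theorem dihedral_three {n : ℕ} (g h : DihedralGroup n) (hg : g ^ 3 = 1) (hh : h ^ 3 = 1) :
    g * h = h * g := by
  have key : ∀ g : DihedralGroup n, g ^ 3 = 1 → ∃ i, g = DihedralGroup.r i := by
    intro g hg
    have h4 : g = (g ^ 2) * (g ^ 2) := by
      rw [← pow_add, show 2 + 2 = 3 + 1 from rfl, pow_succ, hg, one_mul]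
    rw [h4]
    cases (g ^ 2) with
    | r i => exact ⟨i + i, DihedralGroup.r_mul_r i i⟩
    | sr i => exact ⟨i - i, DihedralGroup.sr_mul_sr i i⟩
  obtain ⟨i, rfl⟩ := key g hg
  obtain ⟨j, rfl⟩ := key h hh
  rw [DihedralGroup.r_mul_r, DihedralGroup.r_mul_r, add_comm]

/-- The order of an element of a dihedral group. -/
theorem dihedral_order {n : ℕ} (g : DihedralGroup n) (hn : 2 ≤ n) : orderOf g ≤ n := by
  cases g with
  | r i =>
    apply orderOf_le_of_pow_eq_one (by omega)
    rw [DihedralGroup.r_pow, CharP.cast_eq_zero, mul_zero]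
    rfl
  | sr i =>
    rw [DihedralGroup.orderOf_sr]
    exact hn

theorem perm4_orders : ∀ σ : Equiv.Perm (Fin 4), σ ^ 2 = 1 ∨ σ ^ 3 = 1 ∨ σ ^ 4 = 1 := by
  decide +kernel

end groups

section

variable {F : Type*} [Field F]

/-- An involution of the Borel subgroup has opposite diagonal entries. -/
theorem diag_of_involution {g : GL (Fin 2) F} (h10 : g 1 0 = 0)
    (h2 : pr g * pr g = 1) : g 1 1 = - g 0 0 ∨ g 0 0 = g 1 1 ∧ 2 * g 0 0 * g 0 1 = 0 := by
  rw [← map_mul, pr_eq_one_iff, gl_mul01, gl_mul00, gl_mul11, h10] at h2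
  obtain ⟨h3, -, h4⟩ := h2
  have h5 : (g 1 1 - g 0 0) * (g 1 1 + g 0 0) = 0 := by linear_combination -h4
  rcases mul_eq_zero.mp h5 with h | h
  · right
    have h6 : g 0 0 = g 1 1 := (sub_eq_zero.mp h).symm
    refine ⟨h6, ?_⟩
    rw [← h6] at h3
    linear_combination h3
  · left
    exact eq_neg_of_add_eq_zero_left h

theorem diag_of_involution' (hc : (2 : F) ≠ 0) {g : GL (Fin 2) F} (h10 : g 1 0 = 0)
    (h1 : pr g ≠ 1) (h2 : pr g * pr g = 1) : g 1 1 = - g 0 0 := by
  rcases diag_of_involution h10 h2 with h | ⟨h, h3⟩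
  · exact h
  · exfalso
    apply h1
    have hdet := gl_det_ne g
    rw [h10, mul_zero, sub_zero] at hdet
    have h00 : g 0 0 ≠ 0 := left_ne_zero_of_mul hdet
    rw [pr_eq_one_iff]
    refine ⟨?_, h10, h⟩
    rcases mul_eq_zero.mp h3 with h4 | h4
    · exact absurd h4 (mul_ne_zero hc h00)
    · exact h4

/-- The Borel subgroup contains no Klein four-subgroup. -/
theorem no_klein_BP (hc : (2 : F) ≠ 0) {x y : PGL F} (hx : x ∈ BP F) (hy : y ∈ BP F)
    (h : CommInv x y) : False := by
  obtain ⟨g, rfl⟩ := pr_surjective x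
  obtain ⟨k, rfl⟩ := pr_surjective y
  rw [pr_mem_BP] at hx hy
  have h1 := diag_of_involution' hc hx h.hx h.xx
  have h2 := diag_of_involution' hc hy h.hy h.yy
  have h3 : (g * k) 1 0 = 0 := by rw [gl_mul10, hx, hy]; ring
  have h4 : pr (g * k) ≠ 1 := by
    rw [map_mul]
    exact h.xy_ne_one
  have h5 : pr (g * k) * pr (g * k) = 1 := by
    rw [map_mul]
    calc pr g * pr k * (pr g * pr k) = pr g * (pr k * pr g) * pr k := by group
      _ = (pr g * pr g) * (pr k * pr k) := by rw [← h.comm]; group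
      _ = 1 := by rw [h.xx, h.yy, mul_one]
  have h6 := diag_of_involution' hc h3 h4 h5
  rw [gl_mul11, gl_mul00, hx, hy, h1, h2] at h6
  have hdet1 := gl_det_ne g
  have hdet2 := gl_det_ne k
  rw [hx, mul_zero, sub_zero] at hdet1
  rw [hy, mul_zero, sub_zero] at hdet2
  have h7 : 2 * (g 0 0 * k 0 0) = 0 := by linear_combination h6
  rcases mul_eq_zero.mp h7 with h8 | h8
  · exact hc h8
  · exact mul_ne_zero (left_ne_zero_of_mul hdet1) (left_ne_zero_of_mul hdet2) h8

theorem cj_commInv {x y : PGL F} (b : PGL F) (h : CommInv x y) :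
    CommInv (b * x * b⁻¹) (b * y * b⁻¹) := by
  refine ⟨?_, ?_, ?_, ?_, ?_, ?_⟩
  · intro h1
    exact h.hx (conj_eq_one_iff.mp h1)
  · intro h1
    exact h.hy (conj_eq_one_iff.mp h1)
  · intro h1
    apply h.hxy
    exact mul_left_cancel (mul_right_cancel h1)
  · calc b * x * b⁻¹ * (b * x * b⁻¹) = b * (x * x) * b⁻¹ := by group
      _ = 1 := by rw [h.xx, mul_one, mul_inv_cancel]
  · calc b * y * b⁻¹ * (b * y * b⁻¹) = b * (y * y) * b⁻¹ := by group
      _ = 1 := by rw [h.yy, mul_one, mul_inv_cancel]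
  · calc b * x * b⁻¹ * (b * y * b⁻¹) = b * (x * y) * b⁻¹ := by group
      _ = b * (y * x) * b⁻¹ := by rw [h.comm]
      _ = b * y * b⁻¹ * (b * x * b⁻¹) := by group

/-- Orders of semisimple elements of `PGL₂(k)`. -/
theorem order_le_PG [Finite F] (p : ℕ) [Fact p.Prime] [CharP F p] {k : Subfield F}
    (h3 : 3 ≤ Nat.card k) {x : PGL F} (hx : x ∈ PG k) (hxp : x ^ p ≠ 1) :
    orderOf x ≤ Nat.card k + 1 := by
  obtain ⟨y, rfl⟩ := hx
  letI : Fintype k := Fintype.ofFinite k
  obtain ⟨A, rfl⟩ := pr_surjective y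
  rw [orderOf_injective _ (map_inj k)]
  have hA : (pr A) ^ p ≠ 1 := by
    intro h
    apply hxp
    rw [← map_pow, h, map_one]
  obtain ⟨N, hN, n, hn, ⟨e⟩, -⟩ := exists_torus A (disc_ne_zero p A hA)
  have hAN : pr A ∈ N := by
    apply hN
    rw [mul_inv_cancel_right]
    exact Subgroup.mem_zpowers _
  rw [Nat.card_eq_fintype_card] at h3 ⊢
  have h4 : orderOf (pr A) = orderOf (e ⟨pr A, hAN⟩) := by
    rw [MulEquiv.orderOf_eq, ← Subgroup.orderOf_coe]
  rw [h4]
  have h5 : 2 ≤ n := by omega
  have h6 := dihedral_order (e ⟨pr A, hAN⟩) h5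
  omega

end

end Cfsg.Agent.H937
end

-- part: H937/Meet2
section
/-!
# Intersections of maximal subgroups of `PGL₂(q)` with `PSL₂(q)`: the cases
-/

set_option autoImplicit false
set_option linter.style.haveILetI false

namespace Cfsg.Agent.H937

open Matrix
open Cfsg.Agent.ClassicalGeometry.PSL2Basic
open Cfsg.Agent.ClassicalGeometry.KleinCount

section

variable {F : Type*} [Field F]

/-- Proper subgroups of `PSL₂(F)`. -/
theorem proper_cases [Fintype F] (p : ℕ) [Fact p.Prime] [CharP F p]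
    (hodd : Odd (Fintype.card F)) (h5 : 5 ≤ Fintype.card F) {X : Subgroup (PGL F)}
    (hX : X < LL F) :
    (∃ b, cj b X ≤ BP F ⊓ LL F) ∨
    (∃ (Y : Subgroup (PGL F)) (k : ℕ), X ≤ Y ∧ Nonempty (Y ≃* DihedralGroup k) ∧
      (2 * k = Fintype.card F - 1 ∨ 2 * k = Fintype.card F + 1)) ∨
    (¬ p ∣ Nat.card X ∧ (Nonempty (X ≃* alternatingGroup (Fin 4)) ∨
      Nonempty (X ≃* Equiv.Perm (Fin 4)) ∨ Nonempty (X ≃* alternatingGroup (Fin 5)))) ∨
    (p = 3 ∧ Nonempty (X ≃* alternatingGroup (Fin 5))) ∨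
    (∃ (k : Subfield F) (b : PGL F), Nat.card k < Nat.card F ∧
      (cj b X = PS k ∨ cj b X = PG k)) := by
  rcases structure_pgl p X with ⟨b, hb⟩ | ⟨c, hc, hc1, hc2⟩ | h1 | h1 | ⟨k, b, hb⟩
  · left
    refine ⟨b, le_inf hb ?_⟩
    rw [← cj_normal b (LL F)]
    exact cj_mono b hX.le
  · right; left
    obtain ⟨N, hN, n, hn, -, hN2⟩ := torus_case p hc1 hc2
    obtain ⟨k, hk⟩ : ∃ k, 2 * k = n := by
      obtain ⟨j, hj⟩ := hodd
      rcases hn with rfl | rfl
      · exact ⟨j, by omega⟩
      · exact ⟨j + 1, by omega⟩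
    refine ⟨N ⊓ LL F, k, le_inf hN hX.le, hN2 hodd (by omega) k hk, ?_⟩
    rw [hk]
    exact hn
  · exact Or.inr (Or.inr (Or.inl h1))
  · exact Or.inr (Or.inr (Or.inr (Or.inl h1)))
  · right; right; right; right
    refine ⟨k, b, ?_, hb⟩
    apply card_lt_of_ne_top
    rintro rfl
    rw [PS_top, PG_top] at hb
    have h2 : cj b X < LL F := by
      refine lt_of_le_of_ne ?_ ?_
      · rw [← cj_normal b (LL F)]
        exact cj_mono b hX.le
      · intro h
        rw [← cj_normal b (LL F)] at h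
        exact hX.ne (cj_injective b h)
    rcases hb with hb | hb
    · exact h2.ne hb
    · rw [hb] at h2
      exact not_top_lt h2

/-- Maximal subgroups of `PGL₂(F)`, up to conjugacy. -/
theorem odd_pgl_conj [Fintype F] (p : ℕ) [Fact p.Prime] [CharP F p]
    (hodd : Odd (Fintype.card F)) (h3 : 3 < Fintype.card F)
    (M : Subgroup (PGL F)) (hM : M ⋖ ⊤) (hML : ¬ LL F ≤ M) :
    (∃ b, cj b M = BP F) ∨
    (∃ k : ℕ, (2 * k = Fintype.card F - 1 ∧ Fintype.card F ≠ 5 ∨ 2 * k = Fintype.card F + 1) ∧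
      Nonempty ((M ⊓ LL F : Subgroup (PGL F)) ≃* DihedralGroup k)) ∨
    (Fintype.card F = p ∧ (Fintype.card F % 8 = 3 ∨ Fintype.card F % 8 = 5) ∧
      Nonempty (M ≃* Equiv.Perm (Fin 4))) ∨
    (∃ (k : Subfield F) (r : ℕ) (b : PGL F), r.Prime ∧ Odd r ∧ Nat.card k ^ r = Nat.card F ∧
      cj b M = PG k) := by
  have hcube := card_PGL_cube (F := F)
  have hML' : ¬ M ≤ LL F := by
    intro hle
    have h1 : M = LL F := by
      by_contra hne
      exact hM.2 (lt_of_le_of_ne hle hne) (lt_top_iff_ne_top.mpr (LL_ne_top hodd))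
    exact hML (by rw [h1])
  obtain ⟨s, hs⟩ := Nat.exists_eq_add_of_le h3
  have h6 : (3 + 1 + s) ^ 3 = 64 + 48 * s + 12 * s ^ 2 + s ^ 3 := by ring
  have hpg : ∀ {k : Subfield F} {b : PGL F}, cj b M = PG k →
      ∃ (k : Subfield F) (r : ℕ) (b : PGL F), r.Prime ∧ Odd r ∧ Nat.card k ^ r = Nat.card F ∧
        cj b M = PG k := by
    intro k b hb
    have hcov : PG k ⋖ ⊤ := by
      rw [← hb]
      exact cj_covBy_normal hM
    obtain ⟨r, hr, hr'⟩ := prime_of_PG_covBy hcov
    refine ⟨k, r, b, hr, ?_, hr', hb⟩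
    rcases hr.eq_two_or_odd' with h2 | h2
    · exfalso
      apply hML'
      rw [h2] at hr'
      have h3 : PG k ≤ LL F := PG_le_LL hodd (m := 1) (by simpa using hr')
      rw [← hb, ← cj_normal b (LL F), cj_le_cj] at h3
      exact h3
    · exact h2
  rcases structure_pgl p M with ⟨b, hb⟩ | ⟨c, hc, hc1, hc2⟩ | ⟨-, h1⟩ | ⟨-, ⟨e⟩⟩ | ⟨k, b, hb⟩
  · left
    have hcov : cj b M ⋖ ⊤ := cj_covBy_normal hM
    have hBt : BP F ≠ ⊤ := by
      intro h
      have h1 : Nat.card (BP F) = Nat.card (PGL F) := by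
        rw [h]
        exact Nat.card_congr Subgroup.topEquiv.toEquiv
      rw [card_BP] at h1
      rw [← h1] at hcube
      have h5 : Fintype.card F - 1 = s + 3 := by omega
      rw [h5, hs, Nat.succ_eq_add_one, h6] at hcube
      nlinarith [Nat.zero_le (s ^ 3), Nat.zero_le (s ^ 2)]
    refine ⟨b, ?_⟩
    by_contra hne
    exact hcov.2 (lt_of_le_of_ne hb hne) (lt_top_iff_ne_top.mpr hBt)
  · right; left
    obtain ⟨N, hN, n, hn, hN2, hN3⟩ := torus_case p hc1 hc2
    have hNt : N ≠ ⊤ := by
      intro h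
      have h1 : Nat.card N = Nat.card (PGL F) := by
        rw [h]
        exact Nat.card_congr Subgroup.topEquiv.toEquiv
      obtain ⟨e⟩ := hN2
      rw [Nat.card_congr e.toEquiv, DihedralGroup.nat_card] at h1
      rw [← h1] at hcube
      have h5 : Fintype.card F - 1 = s + 3 := by omega
      rcases hn with rfl | rfl
      · rw [h5, hs, Nat.succ_eq_add_one, h6] at hcube
        nlinarith [Nat.zero_le (s ^ 3), Nat.zero_le (s ^ 2)]
      · rw [hs, Nat.succ_eq_add_one, h6] at hcube
        nlinarith [Nat.zero_le (s ^ 3), Nat.zero_le (s ^ 2)]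
    have hMN : M = N := by
      by_contra hne
      exact hM.2 (lt_of_le_of_ne hN hne) (lt_top_iff_ne_top.mpr hNt)
    obtain ⟨k, hk⟩ : ∃ k, 2 * k = n := by
      obtain ⟨j, hj⟩ := hodd
      rcases hn with rfl | rfl
      · exact ⟨j, by omega⟩
      · exact ⟨j + 1, by omega⟩
    refine ⟨k, ?_, by rw [hMN]; exact hN3 hodd h3 k hk⟩
    rcases hn with rfl | rfl
    · left
      refine ⟨hk, ?_⟩
      intro h5
      rw [h5] at hcube
      have hc : Nat.card (PGL F) = 120 := by omega
      have h2 : (2 : F) ≠ 0 := (two_ne_zero_iff_odd F).2 hodd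
      obtain ⟨V, hV⟩ :=
        Cfsg.Agent.ClassicalGeometry.PSL2KleinConj.exists_isKleinFour (F := F) h2
      have hV24 := card_nrm_klein hodd hV
      have hMc : Nat.card M = 2 ^ 3 := by
        rw [hMN]
        obtain ⟨e⟩ := hN2
        rw [Nat.card_congr e.toEquiv, DihedralGroup.nat_card, h5]
        norm_num
      haveI : Fact (Nat.Prime 2) := ⟨Nat.prime_two⟩
      refine excl_sylow (p := 2) (n := 3) (G := PGL F) ?_ (covBy_top_iff.mp hM) hMc
        (X := nrm (V.map (ta : PSL F →* PGL F))) ?_ ?_ ?_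
      · rw [hc]; norm_num
      · rw [hV24]; norm_num
      · intro h
        have h7 : Nat.card (nrm (V.map (ta : PSL F →* PGL F))) = Nat.card (PGL F) := by
          rw [h]
          exact Nat.card_congr Subgroup.topEquiv.toEquiv
        rw [hV24, hc] at h7
        omega
      · rw [hV24]; norm_num
    · right
      exact hk
  · rcases h1 with ⟨⟨e⟩⟩ | ⟨⟨e⟩⟩ | ⟨⟨e⟩⟩
    · exact absurd (le_LL_of_alt e) hML'
    · obtain ⟨V, hV, -, hMV⟩ := exists_klein_S4 e
      have hMV' : M = nrm (V.map (ta : PSL F →* PGL F)) := by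
        apply Subgroup.eq_of_le_of_card_ge hMV
        rw [card_nrm_klein hodd hV, Nat.card_congr e.toEquiv, card_S4]
      by_cases hk : (⊥ : Subfield F) = ⊤
      · right; right; left
        refine ⟨card_eq_of_bot_eq_top p hk, ?_, ⟨e⟩⟩
        by_contra hcon
        apply hML'
        rw [hMV']
        apply nrm_le_of_square hodd _ hV
        rw [FiniteField.isSquare_two_iff]
        constructor
        · intro h
          exact hcon (Or.inl h)
        · intro h
          exact hcon (Or.inr h)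
      · right; right; right
        obtain ⟨b, hb⟩ := exists_cj_nrm_le hodd hV ⊥
        rw [← hMV'] at hb
        have hcov : cj b M ⋖ ⊤ := cj_covBy_normal hM
        have hlt := card_lt_of_ne_top hk
        have hbk : cj b M = PG ⊥ := by
          by_contra hne
          exact hcov.2 (lt_of_le_of_ne hb hne) (lt_top_iff_ne_top.mpr (PG_ne_top hlt))
        exact hpg hbk
    · exact absurd (le_LL_of_alt e) hML'
  · exact absurd (le_LL_of_alt e) hML'
  · right; right; right
    rcases hb with hb | hb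
    · exfalso
      apply hML'
      have h4 := PS_le_LL k
      rw [← hb, ← cj_normal b (LL F), cj_le_cj] at h4
      exact h4
    · exact hpg hb

theorem two_card_BPL [Fintype F] (hodd : Odd (Fintype.card F)) :
    2 * Nat.card (BP F ⊓ LL F : Subgroup (PGL F)) = Fintype.card F * (Fintype.card F - 1) := by
  rw [card_inf_of_not_le (index_LL_odd hodd) (not_BP_le_LL hodd), card_BP]

theorem card_dvd_PG [Fintype F] {X : Subgroup (PGL F)} {k : Subfield F} {b : PGL F}
    (h : cj b X = PS k ∨ cj b X = PG k) :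
    Nat.card X ∣ Nat.card k * (Nat.card k ^ 2 - 1) := by
  letI : Fintype k := Fintype.ofFinite k
  have h1 : Nat.card (PG k) = Nat.card k * (Nat.card k ^ 2 - 1) := by
    rw [card_PG, card_PGL2, Nat.card_eq_fintype_card (α := k)]
  rw [← h1, ← card_cj b X]
  rcases h with h | h
  · rw [h]
    exact Subgroup.card_dvd_of_le (PS_le_PG k)
  · rw [h]

/-- Case of the Borel subgroup. -/
theorem meet_borel [Fintype F] (p : ℕ) [Fact p.Prime] [CharP F p]
    (hodd : Odd (Fintype.card F)) (h5 : 5 ≤ Fintype.card F) (h9 : Fintype.card F ≠ 9)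
    {D X : Subgroup (PGL F)} (hD : 2 * Nat.card D = Fintype.card F * (Fintype.card F - 1))
    (hDX : D < X) (hX : X < LL F) : False := by
  have hdvd : Nat.card D ∣ Nat.card X := Subgroup.card_dvd_of_le hDX.le
  have hlt : Nat.card D < Nat.card X := by
    refine lt_of_le_of_ne (Nat.le_of_dvd Nat.card_pos hdvd) ?_
    intro h
    exact hDX.ne (Subgroup.eq_of_le_of_card_ge hDX.le h.ge)
  have hp : p.Prime := Fact.out
  obtain ⟨n, -, hn⟩ := FiniteField.card F p
  have hpq : p ∣ Fintype.card F := by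
    rw [hn]
    exact dvd_pow_self p n.ne_zero
  have hqD : Fintype.card F ∣ Nat.card D := by
    have h1 : Fintype.card F ∣ 2 * Nat.card D := by
      rw [hD]
      exact dvd_mul_right _ _
    have h2 : Nat.Coprime (Fintype.card F) 2 := by
      rw [Nat.coprime_comm, Nat.coprime_two_left]
      exact hodd
    exact h2.dvd_of_dvd_mul_left h1
  obtain ⟨s, hs⟩ := Nat.exists_eq_add_of_le h5
  have hs1 : Fintype.card F - 1 = s + 4 := by omega
  rcases proper_cases p hodd h5 hX with ⟨b, hb⟩ | ⟨Y, k, hXY, ⟨e⟩, hk⟩ | ⟨h1, -⟩ |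
    ⟨h3, ⟨e⟩⟩ | ⟨k, b, hk, hb⟩
  · have h1 : Nat.card X ≤ Nat.card (BP F ⊓ LL F : Subgroup (PGL F)) := by
      rw [← card_cj b X]
      exact Nat.card_le_card_of_injective _ (Subgroup.inclusion_injective hb)
    have h2 := two_card_BPL (F := F) hodd
    omega
  · have h1 : Nat.card X ≤ Nat.card Y :=
      Nat.card_le_card_of_injective _ (Subgroup.inclusion_injective hXY)
    rw [Nat.card_congr e.toEquiv, DihedralGroup.nat_card] at h1
    obtain ⟨j, hj⟩ := hdvd
    have hj2 : 2 ≤ j := by
      by_contra hcon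
      have h6 : j = 0 ∨ j = 1 := by omega
      rcases h6 with rfl | rfl
      · have : 0 < Nat.card X := Nat.card_pos
        omega
      · omega
    have h7 : Nat.card D * 2 ≤ Nat.card X := by
      rw [hj]
      exact Nat.mul_le_mul_left _ hj2
    rw [hs1, hs] at hD
    have h8 : 2 * k ≤ s + 6 := by omega
    nlinarith [Nat.zero_le (s * s)]
  · exact h1 (hpq.trans (hqD.trans hdvd))
  · rw [Nat.card_congr e.toEquiv, card_A5] at hlt
    rw [h3] at hn
    have hn3 : 3 ≤ (n : ℕ) := by
      by_contra hcon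
      have h6 : (n : ℕ) = 0 ∨ (n : ℕ) = 1 ∨ (n : ℕ) = 2 := by omega
      rcases h6 with h6 | h6 | h6
      · exact n.ne_zero h6
      · rw [h6] at hn
        omega
      · rw [h6] at hn
        exact h9 (by rw [hn]; norm_num)
    have h7 : 27 ≤ Fintype.card F := by
      rw [hn]
      calc 27 = 3 ^ 3 := by norm_num
        _ ≤ 3 ^ (n : ℕ) := Nat.pow_le_pow_right (by norm_num) hn3
    rw [hs1, hs] at hD
    nlinarith
  · have hr := card_subfield_pow k
    exact not_dvd_of_coprime (q := Nat.card F) hr Finite.one_lt_card hk (card_dvd_PG hb)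
      (by rw [Nat.card_eq_fintype_card (α := F)]; exact hqD.trans hdvd)

theorem two_mul_le_of_lt [Finite F] {D X : Subgroup (PGL F)} (hDX : D < X) :
    2 * Nat.card D ≤ Nat.card X := by
  have hdvd : Nat.card D ∣ Nat.card X := Subgroup.card_dvd_of_le hDX.le
  have hlt : Nat.card D < Nat.card X := by
    refine lt_of_le_of_ne (Nat.le_of_dvd Nat.card_pos hdvd) ?_
    intro h
    exact hDX.ne (Subgroup.eq_of_le_of_card_ge hDX.le h.ge)
  obtain ⟨j, hj⟩ := hdvd
  have hj2 : 2 ≤ j := by
    by_contra hcon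
    have h6 : j = 0 ∨ j = 1 := by omega
    rcases h6 with rfl | rfl
    · have : 0 < Nat.card X := Nat.card_pos
      omega
    · omega
  rw [hj, mul_comm]
  exact Nat.mul_le_mul_left _ hj2

/-- Case of dihedral groups. -/
theorem meet_dihedral [Fintype F] (p : ℕ) [Fact p.Prime] [CharP F p]
    (hodd : Odd (Fintype.card F)) (h5 : 5 ≤ Fintype.card F) (h7 : Fintype.card F ≠ 7)
    (h9 : Fintype.card F ≠ 9) (h11 : Fintype.card F ≠ 11) {D X : Subgroup (PGL F)} {k : ℕ}
    (e : D ≃* DihedralGroup k)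
    (hk : 2 * k = Fintype.card F - 1 ∧ Fintype.card F ≠ 5 ∨ 2 * k = Fintype.card F + 1)
    (hDX : D < X) (hX : X < LL F) : False := by
  have hdvd : Nat.card D ∣ Nat.card X := Subgroup.card_dvd_of_le hDX.le
  have hDc : Nat.card D = 2 * k := by rw [Nat.card_congr e.toEquiv, DihedralGroup.nat_card]
  have h2D := two_mul_le_of_lt hDX
  have hp : p.Prime := Fact.out
  obtain ⟨n, -, hn⟩ := FiniteField.card F p
  have hodd' := Nat.odd_iff.mp hodd
  -- an element of order `k`
  have hk2 : 2 ≤ k := by omega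
  obtain ⟨c, hcD, hck⟩ : ∃ c ∈ D, orderOf c = k := by
    refine ⟨(e.symm (DihedralGroup.r 1) : D), (e.symm (DihedralGroup.r 1) : D).2, ?_⟩
    rw [Subgroup.orderOf_coe, MulEquiv.orderOf_eq, DihedralGroup.orderOf_r_one]
  have hcX : c ∈ X := hDX.le hcD
  -- the case of small `k`
  have hsmall : k ≤ 5 → Fintype.card F = 5 ∧ k = 3 := by
    intro h
    have h12 : Fintype.card F ≤ 11 := by omega
    have h13 : Fintype.card F = 5 := by omega
    refine ⟨h13, by omega⟩
  have hord : ∀ {G : Type} [Group G], (∀ g : G, orderOf g ≤ 5) → ∀ (e : X ≃* G),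
      Fintype.card F = 5 ∧ k = 3 := by
    intro G _ hG e
    apply hsmall
    rw [← hck]
    have h1 : orderOf c = orderOf (e ⟨c, hcX⟩) := by
      rw [MulEquiv.orderOf_eq, ← Subgroup.orderOf_coe]
    rw [h1]
    exact hG _
  have hS4 : ∀ g : Equiv.Perm (Fin 4), orderOf g ≤ 5 := by
    intro g
    rcases perm4_orders g with h | h | h
    · exact (orderOf_le_of_pow_eq_one (by norm_num) h).trans (by norm_num)
    · exact (orderOf_le_of_pow_eq_one (by norm_num) h).trans (by norm_num)
    · exact (orderOf_le_of_pow_eq_one (by norm_num) h).trans (by norm_num)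
  have hA4 : ∀ g : alternatingGroup (Fin 4), orderOf g ≤ 5 := by
    intro g
    rw [← Subgroup.orderOf_coe]
    exact hS4 _
  have hA5 : ∀ g : alternatingGroup (Fin 5), orderOf g ≤ 5 := by
    intro g
    rw [← Subgroup.orderOf_coe]
    rcases five_orders g (Equiv.Perm.mem_alternatingGroup.mp g.2) with h | h | h
    · exact (orderOf_le_of_pow_eq_one (by norm_num) h).trans (by norm_num)
    · exact (orderOf_le_of_pow_eq_one (by norm_num) h).trans (by norm_num)
    · exact (orderOf_le_of_pow_eq_one (by norm_num) h)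
  have hLL := two_card_LL hodd
  have hXL : 2 * Nat.card X ≤ Nat.card (LL F) := two_mul_le_of_lt hX
  rcases proper_cases p hodd h5 hX with ⟨b, hb⟩ | ⟨Y, k', hXY, ⟨e'⟩, hk'⟩ | ⟨-, h1⟩ |
    ⟨h3, ⟨e1⟩⟩ | ⟨k', b, hk', hb⟩
  · have h1 : Nat.card X ∣ Nat.card (BP F ⊓ LL F : Subgroup (PGL F)) := by
      rw [← card_cj b X]
      exact Subgroup.card_dvd_of_le hb
    have h2 := two_card_BPL (F := F) hodd
    have h3 : 2 * (2 * k) ∣ Fintype.card F * (Fintype.card F - 1) := by
      rw [← h2, ← hDc]
      exact Nat.mul_dvd_mul_left 2 (hdvd.trans h1)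
    have hcop : Nat.Coprime (2 * (2 * k)) (Fintype.card F) := by
      have h4 : Nat.Coprime 2 (Fintype.card F) := by
        rw [Nat.coprime_two_left]
        exact hodd
      apply Nat.Coprime.mul_left h4
      rcases hk with ⟨hk, -⟩ | hk
      · rw [hk, Nat.coprime_comm, Nat.coprime_self_sub_right (by omega)]
        exact Nat.coprime_one_right _
      · rw [hk, Nat.coprime_self_add_left]
        exact Nat.coprime_one_left _
    have h4 := Nat.le_of_dvd (by omega) (hcop.dvd_of_dvd_mul_left h3)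
    omega
  · have h1 : Nat.card X ≤ Nat.card Y :=
      Nat.card_le_card_of_injective _ (Subgroup.inclusion_injective hXY)
    rw [Nat.card_congr e'.toEquiv, DihedralGroup.nat_card] at h1
    omega
  · have hq5 : Fintype.card F = 5 ∧ k = 3 := by
      rcases h1 with ⟨⟨e1⟩⟩ | ⟨⟨e1⟩⟩ | ⟨⟨e1⟩⟩
      · exact hord hA4 e1
      · exact hord hS4 e1
      · exact hord hA5 e1
    obtain ⟨hq5, hk3⟩ := hq5
    rw [hq5] at hLL
    have hLc : Nat.card (LL F) = 60 := by omega
    have hlag : Nat.card X ∣ 60 := by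
      rw [← hLc]
      exact Subgroup.card_dvd_of_le hX.le
    rcases h1 with ⟨⟨e1⟩⟩ | ⟨⟨e1⟩⟩ | ⟨⟨e1⟩⟩
    · have hXc : Nat.card X = 12 := by rw [Nat.card_congr e1.toEquiv, card_A4]
      apply alt_index_two ((D.subgroupOf X).map e1.toMonoidHom)
      have h8 : Nat.card (D.subgroupOf X) = 6 := by
        rw [Nat.card_congr (Subgroup.subgroupOfEquivOfLe hDX.le).toEquiv, hDc, hk3]
      have h9' : Nat.card ((D.subgroupOf X).map e1.toMonoidHom) = 6 := by
        rw [← h8]
        exact (Nat.card_congr (Subgroup.equivMapOfInjective _ _ e1.injective).toEquiv).symm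
      have h10 := ((D.subgroupOf X).map e1.toMonoidHom).card_mul_index
      rw [h9', card_A4] at h10
      omega
    · rw [Nat.card_congr e1.toEquiv, card_S4] at hlag
      norm_num at hlag
    · rw [Nat.card_congr e1.toEquiv, card_A5] at hXL
      omega
  · obtain ⟨hq5, -⟩ := hord hA5 e1
    rw [h3] at hn
    rw [hq5] at hn
    have h8 : 3 ∣ 5 := by
      rw [hn]
      exact dvd_pow_self 3 n.ne_zero
    norm_num at h8
  · have hr := card_subfield_pow k'
    have hr1 : 1 < Nat.card k' := Finite.one_lt_card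
    have hr3 : 3 ≤ Nat.card k' := by
      obtain ⟨j, hj⟩ := odd_subfield hodd k'
      omega
    have hm : 2 ≤ Module.finrank k' F := by
      by_contra hcon
      have h5 : Module.finrank k' F = 0 ∨ Module.finrank k' F = 1 := by omega
      rcases h5 with h5 | h5
      · rw [h5, pow_zero] at hr
        omega
      · rw [h5, pow_one] at hr
        omega
    have hq2 : Nat.card k' ^ 2 ≤ Fintype.card F := by
      rw [← Nat.card_eq_fintype_card (α := F), ← hr]
      exact Nat.pow_le_pow_right (by omega) hm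
    have hxP : b * c * b⁻¹ ∈ PG k' := by
      have h1 : b * c * b⁻¹ ∈ cj b X := by
        rw [mem_cj]
        have : b⁻¹ * (b * c * b⁻¹) * b = c := by group
        rwa [this]
      rcases hb with hb | hb
      · rw [hb] at h1
        exact PS_le_PG k' h1
      · rw [hb] at h1
        exact h1
    have hcp : (b * c * b⁻¹) ^ p ≠ 1 := by
      rw [conj_pow]
      intro h
      have h1 : c ^ p = 1 := conj_eq_one_iff.mp h
      have h2 := orderOf_dvd_of_pow_eq_one h1
      rw [hck] at h2
      have h4 : k = p := by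
        rcases (Nat.dvd_prime hp).mp h2 with h3 | h3
        · omega
        · exact h3
      have h6 : p ∣ Fintype.card F := by
        rw [hn]
        exact dvd_pow_self p n.ne_zero
      have h8 : p ∣ 1 := by
        rcases hk with ⟨hk, -⟩ | hk
        · have h9 : Fintype.card F = 2 * k + 1 := by omega
          rw [h9, h4] at h6
          exact (Nat.dvd_add_right (dvd_mul_left p 2)).mp h6
        · have h9 : Fintype.card F + 1 = 2 * k := by omega
          have h10 : p ∣ Fintype.card F + 1 := by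
            rw [h9, h4]
            exact dvd_mul_left p 2
          exact (Nat.dvd_add_right h6).mp h10
      exact hp.one_lt.ne' (Nat.dvd_one.mp h8)
    have hle := order_le_PG p hr3 hxP hcp
    have hoc : orderOf (b * c * b⁻¹) = k := by
      rw [← hck]
      exact (MulAut.conj b).orderOf_eq c
    rw [hoc] at hle
    have h12 : Nat.card k' ^ 2 ≤ 2 * Nat.card k' + 3 := by
      have : Fintype.card F - 1 ≤ 2 * k := by omega
      omega
    have h13 : Nat.card k' = 3 := by nlinarith
    rw [h13] at hle hq2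
    omega

end

end Cfsg.Agent.H937
end

-- part: H937/Meet3
section
/-!
# Intersections of maximal subgroups of `PGL₂(q)` with `PSL₂(q)`: `S₄` and subfields
-/

set_option autoImplicit false
set_option linter.style.haveILetI false

namespace Cfsg.Agent.H937

open Matrix
open Cfsg.Agent.ClassicalGeometry.PSL2Basic
open Cfsg.Agent.ClassicalGeometry.KleinCount

/-- A three-cycle. -/
def py : Equiv.Perm (Fin 4) := Equiv.swap 1 2 * Equiv.swap 2 3

theorem py_cube : py ^ 3 = 1 := by decide

theorem px_cube : px ^ 3 = 1 := by decide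

theorem pxy_ne : px * py ≠ py * px := by decide

section

variable {F : Type*} [Field F]

/-- Case of `S₄`. -/
theorem meet_s4 [Fintype F] (p : ℕ) [Fact p.Prime] [CharP F p]
    (hodd : Odd (Fintype.card F)) (h5 : 5 ≤ Fintype.card F) (hq : Fintype.card F = p)
    (h8 : Fintype.card F % 8 = 3 ∨ Fintype.card F % 8 = 5)
    (h40 : Fintype.card F % 5 ≠ 1 ∧ Fintype.card F % 5 ≠ 4)
    {M X : Subgroup (PGL F)} (e : M ≃* Equiv.Perm (Fin 4))
    (hML' : ¬ M ≤ LL F) (hDX : M ⊓ LL F < X) (hX : X < LL F) : False := by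
  have h2 : (2 : F) ≠ 0 := (two_ne_zero_iff_odd F).2 hodd
  have hDc : 2 * Nat.card (M ⊓ LL F : Subgroup (PGL F)) = 24 := by
    rw [card_inf_of_not_le (index_LL_odd hodd) hML', Nat.card_congr e.toEquiv, card_S4]
  have h2D := two_mul_le_of_lt hDX
  have hLL := two_card_LL hodd
  have hXL : 2 * Nat.card X ≤ Nat.card (LL F) := two_mul_le_of_lt hX
  -- elements of order three
  have hthree : ∀ σ : Equiv.Perm (Fin 4), σ ^ 3 = 1 → ((e.symm σ : M) : PGL F) ∈ X := by
    intro σ hσ
    apply hDX.le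
    refine ⟨(e.symm σ).2, ?_⟩
    have hσ4 : σ = (σ ^ 2) * (σ ^ 2) := by
      rw [← pow_add, show 2 + 2 = 3 + 1 from rfl, pow_succ, hσ, one_mul]
    rw [hσ4, map_mul, Subgroup.coe_mul]
    exact sq_mem_LL _
  have hpow : ∀ σ : Equiv.Perm (Fin 4), σ ^ 3 = 1 → ((e.symm σ : M) : PGL F) ^ 3 = 1 := by
    intro σ hσ
    rw [← Subgroup.coe_pow, ← map_pow, hσ, map_one, Subgroup.coe_one]
  rcases proper_cases p hodd h5 hX with ⟨b, hb⟩ | ⟨Y, k', hXY, ⟨e'⟩, hk'⟩ | ⟨-, h1⟩ |
    ⟨h3, -⟩ | ⟨k', b, hk', -⟩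
  · obtain ⟨V, hV, hVM, -⟩ := exists_klein_S4 e
    obtain ⟨x, y, hxy, hVxy⟩ := exists_commInv_of_isKleinFour hV
    have hmem : ∀ z ∈ V, ta z ∈ X := by
      intro z hz
      apply hDX.le
      exact ⟨hVM ⟨z, hz, rfl⟩, ⟨z, rfl⟩⟩
    have hx : x ∈ V := by
      rw [← hVxy, hxy.mem_four]
      exact Or.inr (Or.inl rfl)
    have hy : y ∈ V := by
      rw [← hVxy, hxy.mem_four]
      exact Or.inr (Or.inr (Or.inl rfl))
    have hxy' : CommInv (ta x) (ta y) := by
      refine ⟨?_, ?_, ?_, ?_, ?_, ?_⟩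
      · intro h; exact hxy.hx (ta_injective (by rw [h, map_one]))
      · intro h; exact hxy.hy (ta_injective (by rw [h, map_one]))
      · intro h; exact hxy.hxy (ta_injective h)
      · rw [← map_mul, hxy.xx, map_one]
      · rw [← map_mul, hxy.yy, map_one]
      · rw [← map_mul, ← map_mul, hxy.comm]
    have hbX : ∀ z ∈ X, b * z * b⁻¹ ∈ BP F := by
      intro z hz
      have h1 : b * z * b⁻¹ ∈ cj b X := by
        rw [mem_cj]
        have : b⁻¹ * (b * z * b⁻¹) * b = z := by group
        rwa [this]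
      exact (hb h1).1
    exact no_klein_BP h2 (hbX _ (hmem x hx)) (hbX _ (hmem y hy)) (cj_commInv b hxy')
  · have hcomm := dihedral_three (e' ⟨_, hXY (hthree px px_cube)⟩)
      (e' ⟨_, hXY (hthree py py_cube)⟩)
      (by
        rw [← map_pow, map_eq_one_iff _ e'.injective]
        exact Subtype.ext (hpow px px_cube))
      (by
        rw [← map_pow, map_eq_one_iff _ e'.injective]
        exact Subtype.ext (hpow py py_cube))
    rw [← map_mul, ← map_mul] at hcomm
    have h1 := congrArg Subtype.val (e'.injective hcomm)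
    have h3 : (e.symm px) * (e.symm py) = (e.symm py) * (e.symm px) := Subtype.ext h1
    rw [← map_mul, ← map_mul] at h3
    exact pxy_ne (e.symm.injective h3)
  · rcases h1 with ⟨⟨e1⟩⟩ | ⟨⟨e1⟩⟩ | ⟨⟨e1⟩⟩
    · have hXc : Nat.card X = 12 := by rw [Nat.card_congr e1.toEquiv, card_A4]
      omega
    · have h3 : (X.comap (ta : PSL F →* PGL F)).map ta = X := by
        rw [Subgroup.map_comap_eq, inf_eq_right]
        exact hX.le
      have h4 := (Cfsg.Agent.S0803.result (F := F) rfl).mp
        ⟨X.comap ta, ⟨(mapTaEquiv _).trans ((MulEquiv.subgroupCongr h3).trans e1)⟩⟩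
      rw [Nat.pow_mod] at h4
      have h6 : Fintype.card F % 16 = 3 ∨ Fintype.card F % 16 = 5 ∨ Fintype.card F % 16 = 11 ∨
        Fintype.card F % 16 = 13 := by omega
      rcases h6 with h6 | h6 | h6 | h6 <;> rw [h6] at h4 <;> norm_num at h4
    · have hXc : Nat.card X = 60 := by rw [Nat.card_congr e1.toEquiv, card_A5]
      have hlag : 60 ∣ Nat.card (LL F) := by
        rw [← hXc]
        exact Subgroup.card_dvd_of_le hX.le
      have h6 : Fintype.card F ^ 3 % 5 = Fintype.card F % 5 := by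
        rw [← hLL]
        omega
      have h7 : Fintype.card F % 5 < 5 := Nat.mod_lt _ (by norm_num)
      have h9 : Fintype.card F % 5 = 0 := by
        rw [Nat.pow_mod] at h6
        obtain ⟨h41, h42⟩ := h40
        generalize Fintype.card F % 5 = z at *
        interval_cases z <;> simp_all
      have h10 : 5 ∣ p := by
        rw [← hq]
        exact Nat.dvd_of_mod_eq_zero h9
      have h11 : p = 5 :=
        ((Nat.prime_dvd_prime_iff_eq Nat.prime_five Fact.out).mp h10).symm
      rw [hq, h11] at hLL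
      omega
  · omega
  · have hr := card_subfield_pow k'
    have hr1 : 1 < Nat.card k' := Finite.one_lt_card
    have hd : Nat.card k' ∣ p := by
      have hm : Module.finrank k' F ≠ 0 := by
        intro h
        rw [h, pow_zero] at hr
        omega
      rw [← hq, ← Nat.card_eq_fintype_card (α := F), ← hr]
      exact dvd_pow_self _ hm
    rcases (Nat.dvd_prime Fact.out).mp hd with h | h
    · omega
    · rw [Nat.card_eq_fintype_card (α := F)] at hk'
      omega

/-- Case of subfields. -/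
theorem meet_sub [Fintype F] (p : ℕ) [Fact p.Prime] [CharP F p]
    (hodd : Odd (Fintype.card F)) (h5 : 5 ≤ Fintype.card F) {k : Subfield F} {r : ℕ}
    (hr : r.Prime) (hrodd : Odd r) (hkr : Nat.card k ^ r = Nat.card F)
    {D X : Subgroup (PGL F)} {b : PGL F} (hb : cj b D = PS k)
    (hDX : D < X) (hX : X < LL F) : False := by
  have hp : p.Prime := Fact.out
  obtain ⟨n, -, hn⟩ := FiniteField.card F p
  have hdvd : Nat.card D ∣ Nat.card X := Subgroup.card_dvd_of_le hDX.le
  have h2D := two_mul_le_of_lt hDX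
  have hLL := two_card_LL hodd
  have hk1 : 1 < Nat.card k := Finite.one_lt_card
  have hodd' := Nat.odd_iff.mp hodd
  -- powers of `p`
  have hpow : ∀ k' : Subfield F, ∃ a, 0 < a ∧ Nat.card k' = p ^ a ∧
      a * Module.finrank k' F = n := by
    intro k'
    have h1 := card_subfield_pow k'
    rw [Nat.card_eq_fintype_card (α := F), hn] at h1
    have hm : Module.finrank k' F ≠ 0 := by
      intro h
      rw [h, pow_zero] at h1
      have : 1 < p ^ (n : ℕ) := Nat.one_lt_pow n.ne_zero hp.one_lt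
      omega
    have h2 : Nat.card k' ∣ p ^ (n : ℕ) := by
      rw [← h1]
      exact dvd_pow_self _ hm
    obtain ⟨a, -, ha⟩ := (Nat.dvd_prime_pow hp).mp h2
    have hk1' : 1 < Nat.card k' := Finite.one_lt_card
    refine ⟨a, ?_, ha, ?_⟩
    · rw [Nat.pos_iff_ne_zero]
      rintro rfl
      rw [ha, pow_zero] at hk1'
      omega
    · rw [ha, ← pow_mul] at h1
      exact Nat.pow_right_injective hp.two_le h1
  obtain ⟨a, ha0, ha, ham⟩ := hpow k
  have hmr : Module.finrank k F = r := by
    have h1 := card_subfield_pow k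
    rw [← hkr] at h1
    exact Nat.pow_right_injective hk1 h1
  rw [hmr] at ham
  have hcD : 2 * Nat.card D = Nat.card k * (Nat.card k ^ 2 - 1) := by
    letI : Fintype k := Fintype.ofFinite k
    rw [← card_cj b D, hb, two_card_PS hodd, card_PG, card_PGL2,
      Nat.card_eq_fintype_card (α := k)]
  have hk3 : 3 ≤ Nat.card k := by
    obtain ⟨j, hj⟩ := odd_subfield hodd k
    omega
  have hpD : p ∣ Nat.card D := by
    have h1 : p ∣ 2 * Nat.card D := by
      rw [hcD, ha]
      exact Dvd.dvd.mul_right (dvd_pow_self p ha0.ne') _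
    have h2 : Nat.Coprime p 2 := by
      rw [Nat.coprime_comm, Nat.coprime_two_left]
      by_contra hcon
      rw [Nat.not_odd_iff_even] at hcon
      have h4 : Even (Fintype.card F) := by
        rw [hn]
        exact hcon.pow_of_ne_zero n.ne_zero
      exact (Nat.not_odd_iff_even.mpr h4) hodd
    exact h2.dvd_of_dvd_mul_left h1
  have hpq : p ∣ Fintype.card F := by
    rw [hn]
    exact dvd_pow_self p n.ne_zero
  rcases proper_cases p hodd h5 hX with ⟨b', hb'⟩ | ⟨Y, k', hXY, ⟨e'⟩, hk'⟩ | ⟨h1, -⟩ |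
    ⟨h3, ⟨e1⟩⟩ | ⟨k', b', hk', hb'⟩
  · -- `r₀² - 1 ∣ q - 1`
    have h1 : Nat.card X ∣ Nat.card (BP F ⊓ LL F : Subgroup (PGL F)) := by
      rw [← card_cj b' X]
      exact Subgroup.card_dvd_of_le hb'
    have h2 := two_card_BPL (F := F) hodd
    have h3 : Nat.card k ^ 2 - 1 ∣ Fintype.card F * (Fintype.card F - 1) := by
      rw [← h2]
      refine Dvd.dvd.trans ?_ (Nat.mul_dvd_mul_left 2 (hdvd.trans h1))
      rw [hcD]
      exact dvd_mul_left _ _
    have hcop : Nat.Coprime (Nat.card k ^ 2 - 1) (Fintype.card F) := by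
      rw [← Nat.card_eq_fintype_card (α := F), ← hkr]
      apply Nat.Coprime.pow_right
      have h3 : 1 < Nat.card k ^ 2 := Nat.one_lt_pow two_ne_zero hk1
      have h4 : Nat.Coprime (Nat.card k ^ 2 - 1) (Nat.card k ^ 2) := by
        rw [Nat.coprime_comm, Nat.coprime_self_sub_right h3.le]
        exact Nat.coprime_one_right _
      exact Nat.Coprime.coprime_dvd_right (dvd_pow_self _ two_ne_zero) h4
    have h4 := hcop.dvd_of_dvd_mul_left h3
    have h6 : Nat.card k + 1 ∣ Fintype.card F - 1 := by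
      refine Dvd.dvd.trans ?_ h4
      have : Nat.card k ^ 2 - 1 = (Nat.card k + 1) * (Nat.card k - 1) := by
        simpa using Nat.sq_sub_sq (Nat.card k) 1
      rw [this]
      exact dvd_mul_right _ _
    have h7 : Nat.card k + 1 ∣ Fintype.card F + 1 := by
      rw [← Nat.card_eq_fintype_card (α := F), ← hkr]
      have := hrodd.nat_add_dvd_pow_add_pow (Nat.card k) 1
      rwa [one_pow] at this
    have h8 : Nat.card k + 1 ∣ 2 := by
      have := Nat.dvd_sub h7 h6
      have h9 : Fintype.card F + 1 - (Fintype.card F - 1) = 2 := by omega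
      rwa [h9] at this
    have := Nat.le_of_dvd (by norm_num) h8
    omega
  · have h1 : Nat.card X ∣ Nat.card Y := Subgroup.card_dvd_of_le hXY
    rw [Nat.card_congr e'.toEquiv, DihedralGroup.nat_card] at h1
    have h2 : p ∣ 2 * k' := hpD.trans (hdvd.trans h1)
    have h8 : p ∣ 1 := by
      rcases hk' with hk' | hk'
      · rw [hk'] at h2
        have := Nat.dvd_sub hpq h2
        have h9 : Fintype.card F - (Fintype.card F - 1) = 1 := by omega
        rwa [h9] at this
      · rw [hk'] at h2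
        exact (Nat.dvd_add_right hpq).mp h2
    exact hp.one_lt.ne' (Nat.dvd_one.mp h8)
  · exact h1 (hpD.trans hdvd)
  · -- `A₅` in characteristic three
    have hXc : Nat.card X = 60 := by rw [Nat.card_congr e1.toEquiv, card_A5]
    have ha1 : a = 1 := by
      by_contra hcon
      have ha2 : 2 ≤ a := by omega
      have h9 : 9 ≤ Nat.card k := by
        rw [ha, h3]
        calc 9 = 3 ^ 2 := by norm_num
          _ ≤ 3 ^ a := Nat.pow_le_pow_right (by norm_num) ha2
      have h10 : 80 ≤ Nat.card k ^ 2 - 1 := by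
        have : 81 ≤ Nat.card k ^ 2 := by nlinarith
        omega
      have h11 : 9 * 80 ≤ Nat.card k * (Nat.card k ^ 2 - 1) := Nat.mul_le_mul h9 h10
      omega
    have hlag : 60 ∣ Nat.card (LL F) := by
      rw [← hXc]
      exact Subgroup.card_dvd_of_le hX.le
    have h6 : Fintype.card F ^ 3 % 5 = Fintype.card F % 5 := by
      rw [← hLL]
      omega
    have h7 : Fintype.card F % 5 = 3 ∨ Fintype.card F % 5 = 2 := by
      rw [← Nat.card_eq_fintype_card (α := F), ← hkr, ha, ha1, h3, pow_one]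
      obtain ⟨j, hj⟩ := hrodd
      rw [hj, pow_succ, pow_mul, Nat.mul_mod, Nat.pow_mod]
      norm_num
      rcases Nat.even_or_odd j with hj' | hj'
      · left
        obtain ⟨i, rfl⟩ := hj'
        have : 4 ^ (i + i) % 5 = 1 := by
          rw [← two_mul, pow_mul, Nat.pow_mod]
          norm_num
        omega
      · right
        obtain ⟨i, rfl⟩ := hj'
        have : 4 ^ (2 * i + 1) % 5 = 4 := by
          rw [pow_succ, pow_mul, Nat.mul_mod, Nat.pow_mod]
          norm_num
        rw [Nat.mul_mod, this]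
    rw [Nat.pow_mod] at h6
    rcases h7 with h7 | h7 <;> rw [h7] at h6 <;> norm_num at h6
  · obtain ⟨a', ha0', ha', ham'⟩ := hpow k'
    have hcX := card_dvd_PG hb'
    have h1 : Nat.card k ^ 2 - 1 ∣ 2 * (Nat.card k' ^ 2 - 1) := by
      have h2 : Nat.card k ^ 2 - 1 ∣ Nat.card k' * (2 * (Nat.card k' ^ 2 - 1)) := by
        have h3 : Nat.card k' * (2 * (Nat.card k' ^ 2 - 1)) =
            2 * (Nat.card k' * (Nat.card k' ^ 2 - 1)) := by ring
        rw [h3]
        refine Dvd.dvd.trans ?_ (Nat.mul_dvd_mul_left 2 (hdvd.trans hcX))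
        rw [hcD]
        exact dvd_mul_left _ _
      have hcop : Nat.Coprime (Nat.card k ^ 2 - 1) (Nat.card k') := by
        rw [ha']
        apply Nat.Coprime.pow_right
        have h3 : 1 < Nat.card k ^ 2 := Nat.one_lt_pow two_ne_zero hk1
        have h4 : Nat.Coprime (Nat.card k ^ 2 - 1) (Nat.card k ^ 2) := by
          rw [Nat.coprime_comm, Nat.coprime_self_sub_right h3.le]
          exact Nat.coprime_one_right _
        refine Nat.Coprime.coprime_dvd_right ?_ h4
        rw [ha]
        exact (dvd_pow_self p ha0.ne').trans (dvd_pow_self _ two_ne_zero)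
      exact hcop.dvd_of_dvd_mul_left h2
    have h2 : a ∣ a' := by
      apply dvd_of_sub_one_dvd hp.two_le ha0
      rw [ha, ha', ← pow_mul, ← pow_mul, mul_comm a, mul_comm a'] at h1
      exact h1
    obtain ⟨s, hs⟩ := h2
    have hsr : s ∣ r := by
      have h3 : a * (s * Module.finrank k' F) = a * r := by
        rw [ham, ← ham', hs]; ring
      have h4 := Nat.eq_of_mul_eq_mul_left ha0 h3
      exact ⟨_, h4.symm⟩
    rcases (Nat.dvd_prime hr).mp hsr with h3 | h3
    · -- same field
      rw [h3, mul_one] at hs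
      have hkk : Nat.card k' = Nat.card k := by rw [ha', ha, hs]
      have hX2 : cj b' X = PG k' := by
        rcases hb' with h4 | h4
        · exfalso
          have h6 : 2 * Nat.card X = Nat.card k * (Nat.card k ^ 2 - 1) := by
            letI : Fintype k' := Fintype.ofFinite k'
            rw [← card_cj b' X, h4, two_card_PS hodd, card_PG, card_PGL2,
              ← Nat.card_eq_fintype_card (α := k'), hkk]
          have h7 : 0 < Nat.card D := Nat.card_pos
          omega
        · exact h4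
      have hle : PG k' ≤ LL F := by
        rw [← hX2, ← cj_normal b' (LL F)]
        exact cj_mono b' hX.le
      letI : Fintype k' := Fintype.ofFinite k'
      have heven : Even r := by
        apply Cfsg.Agent.S0805.even_of_exists_pgl (K := k') hodd hr.one_lt.le
          (by rw [← Nat.card_eq_fintype_card, ← Nat.card_eq_fintype_card (α := F), hkk, hkr])
        refine ⟨(PG k').comap ta, ?_⟩
        obtain ⟨e⟩ := nonempty_PG k'
        have h1 : ((PG k').comap (ta : PSL F →* PGL F)).map ta = PG k' := by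
          rw [Subgroup.map_comap_eq, inf_eq_right]
          exact hle
        exact ⟨(mapTaEquiv _).trans ((MulEquiv.subgroupCongr h1).trans e)⟩
      exact (Nat.not_even_iff_odd.mpr hrodd) heven
    · rw [h3] at hs
      rw [ha', hs, ham, Nat.card_eq_fintype_card (α := F), hn] at hk'
      exact lt_irrefl _ hk'

theorem coatom_subgroupOf {G : Type*} [Group G] {D L : Subgroup G} (h : D ⋖ L) :
    IsCoatom (D.subgroupOf L) := by
  constructor
  · intro h1
    rw [Subgroup.subgroupOf_eq_top] at h1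
    exact h.lt.not_ge h1
  · intro X hX
    by_contra hne
    have h1 : X.map L.subtype < L := by
      refine lt_of_le_of_ne (Subgroup.map_subtype_le X) ?_
      intro h2
      apply hne
      apply Subgroup.map_injective L.subtype_injective
      rw [h2, ← MonoidHom.range_eq_map, Subgroup.range_subtype]
    have h2 : D < X.map L.subtype := by
      have h3 : (D.subgroupOf L).map L.subtype = D := by
        rw [Subgroup.subgroupOf_map_subtype, inf_eq_left]
        exact h.le
      refine lt_of_le_of_ne ?_ ?_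
      · rw [← h3]
        exact Subgroup.map_mono hX.le
      · intro h4
        apply hX.ne
        apply Subgroup.map_injective L.subtype_injective
        rw [h3, h4]
    exact h.2 h2 h1

theorem meet_main [Fintype F] (h4 : 4 ≤ Fintype.card F) (h7 : Fintype.card F ≠ 7)
    (h9 : Fintype.card F ≠ 9) (h11 : Fintype.card F ≠ 11)
    (h40 : (Fintype.card F).Prime → Fintype.card F % 40 ∉ ({11, 19, 21, 29} : Finset ℕ))
    (M : Subgroup (PGL F)) (hM : IsCoatom M) (hML : ¬ LL F ≤ M) :
    M ⊓ LL F ⋖ LL F := by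
  rcases Nat.even_or_odd (Fintype.card F) with he | hodd
  · rw [LL_eq_top_even he, inf_top_eq]
    exact covBy_top_iff.mpr hM
  · obtain ⟨p, hp⟩ := CharP.exists F
    haveI : Fact p.Prime := ⟨CharP.char_is_prime F p⟩
    have h5 : 5 ≤ Fintype.card F := by
      have := Nat.odd_iff.mp hodd
      omega
    have hM' : M ⋖ ⊤ := covBy_top_iff.mpr hM
    have hML' : ¬ M ≤ LL F := by
      intro hle
      have h1 : M = LL F := by
        by_contra hne
        exact hM'.2 (lt_of_le_of_ne hle hne) (lt_top_iff_ne_top.mpr (LL_ne_top hodd))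
      exact hML (by rw [h1])
    refine ⟨lt_of_le_of_ne inf_le_right (fun h => hML (inf_eq_right.mp h)), ?_⟩
    intro X hDX hX
    rcases odd_pgl_conj p hodd (by omega) M hM' hML with ⟨b, hb⟩ | ⟨k, hk, ⟨e⟩⟩ |
      ⟨hq, h8, ⟨e⟩⟩ | ⟨k, r, b, hr, hrodd, hkr, hb⟩
    · apply meet_borel p hodd h5 h9 (D := M ⊓ LL F) ?_ hDX hX
      have h1 : cj b (M ⊓ LL F) = BP F ⊓ LL F := by rw [cj_inf, hb, cj_normal]
      rw [← two_card_BPL hodd, ← h1, card_cj]
    · exact meet_dihedral p hodd h5 h7 h9 h11 e hk hDX hX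
    · have h12 : Fintype.card F % 5 ≠ 1 ∧ Fintype.card F % 5 ≠ 4 := by
        have h13 := h40 (by rw [hq]; exact Fact.out)
        simp only [Finset.mem_insert, Finset.mem_singleton, not_or] at h13
        omega
      exact meet_s4 p hodd h5 hq h8 h12 e hML' hDX hX
    · have h1 : cj b (M ⊓ LL F) = PG k ⊓ LL F := by rw [cj_inf, hb, cj_normal]
      have h2 : cj b (M ⊓ LL F) = PS k := by
        rcases between (k := k) (le_inf (PS_le_PG _) (PS_le_LL _)) inf_le_left with h | h
        · rw [h1, h]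
        · exfalso
          apply hML'
          have h3 : PG k ≤ LL F := inf_eq_left.mp h
          rw [← hb, ← cj_normal b (LL F), cj_le_cj] at h3
          exact h3
      exact meet_sub p hodd h5 hr hrodd hkr h2 hDX hX

end

end Cfsg.Agent.H937
end
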